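import Cfsg.Agent.Lib.Linear.PSLCover.ThreeOne

/-!
# Every nonscalar target
-/

set_option autoImplicit false
set_option linter.unusedSectionVars false
set_option linter.unusedSimpArgs false

universe u

namespace Cfsg.Lib.Linear.PSLCover

open Module Polynomial
open Cfsg.Lib.Linear.SLComm (dv)
open scoped Matrix

variable {F : Type u} [Field F]
variable {ι κ : Type} [Fintype ι] [DecidableEq ι] [Fintype κ] [DecidableEq κ]

theorem degs_cons (f : F[X]) (L : List F[X]) : degs (f :: L) = f.natDegree + degs L := rfl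

theorem msim_comp_cast {f : F[X]} {k : ℕ} (h : f.natDegree = k) :
    MSim (SLComm.comp f f.natDegree) (SLComm.comp f k) := by
  subst h; exact MSim.refl _

theorem msim_blk_singleton {f : F[X]} {k : ℕ} (h : f.natDegree = k) : MSim (blk [f]) (SLComm.comp f k) := by
  haveI : IsEmpty (Fin (degs ([] : List F[X]))) := by simp only [degs, List.map_nil, List.sum_nil]; infer_instance
  exact (blk_cons f []).trans ((msim_blocks_comm _ _).trans ((msim_blocks_empty _ _).trans (msim_comp_cast h)))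

theorem card_of_msim {A : Matrix ι ι F} {B : Matrix κ κ F} (h : MSim A B) : Fintype.card ι = Fintype.card κ := by
  obtain ⟨e, -⟩ := h
  have := e.finrank_eq
  rwa [Module.finrank_fintype_fun_eq_card, Module.finrank_fintype_fun_eq_card] at this

theorem ns_comp {f : F[X]} {k : ℕ} (hk : 2 ≤ k) : NS (SLComm.comp f k) := fun c hc => by
  have h := congrFun (congrFun hc ⟨1, by omega⟩) ⟨0, by omega⟩
  simp [SLComm.comp, Matrix.one_apply, show 1 ≠ k by omega] at h

theorem ns_right {x₁ : Matrix ι ι F} {x₂ : Matrix κ κ F} (h : NS x₂) : NS (Matrix.fromBlocks x₁ 0 0 x₂) :=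
  (ns_blocks h).of_msim (msim_blocks_comm x₂ x₁)

theorem det_blk : ∀ L : List F[X], (∀ f ∈ L, f.Monic) → (blk L).det = (L.map dv).prod
  | [], _ => by
    haveI : IsEmpty (Fin (degs ([] : List F[X]))) := by simp only [degs, List.map_nil, List.sum_nil]; infer_instance
    exact Matrix.det_isEmpty
  | f :: L, h => by
    rw [(blk_cons f L).det_eq, Matrix.det_fromBlocks_zero₂₁, comp_det (h f List.mem_cons_self) rfl,
      det_blk L fun g hg => h g (List.mem_cons_of_mem _ hg), List.map_cons, List.prod_cons]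

theorem coeff_ne_of_det {A : Matrix ι ι F} {L : List F[X]} (hL : ∀ f ∈ L, f.Monic) (h : MSim A (blk L))
    (hd : A.det ≠ 0) : ∀ f ∈ L, f.coeff 0 ≠ 0 := fun f hf e => hd (by
  rw [h.det_eq, det_blk L hL, List.prod_eq_zero_iff]
  exact List.mem_map.2 ⟨f, hf, by rw [dv, e, mul_zero]⟩)

/-- A list member in front, as the last block. -/
theorem msim_blk_last {L R : List F[X]} {f : F[X]} {k : ℕ} (hk : f.natDegree = k) (h : L.Perm (f :: R)) :
    MSim (blk L) (Matrix.fromBlocks (blk R) 0 0 (SLComm.comp f k)) :=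
  (blk_perm h).trans ((blk_cons f R).trans ((msim_blocks (msim_comp_cast hk) (MSim.refl _)).trans
    (msim_blocks_comm _ _)))

theorem quad_frame {q : F[X]} (h0 : q.coeff 0 ≠ 0) {x₂ : Matrix κ κ F} (hns : NS x₂) :
    HasFrame (Fin 2) (Matrix.fromBlocks (SLComm.comp q 2) 0 0 x₂) := by
  obtain ⟨e, he⟩ : ∃ e, LinearIndependent F ![e, e ᵥ* x₂] := by
    have hT : NS x₂ᵀ := fun σ hσ => hns σ (by
      rw [← Matrix.transpose_transpose x₂, hσ, Matrix.transpose_smul, Matrix.transpose_one])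
    obtain ⟨e, he⟩ := hT.exists_indep
    exact ⟨e, by rwa [Matrix.mulVec_transpose] at he⟩
  refine ⟨![Sum.elim (Pi.single 0 1) 0, Sum.elim 0 e], ?_⟩
  rw [Fintype.linearIndependent_iff]
  intro g hg
  simp only [Fintype.sum_sum_type, Fin.sum_univ_two, Sum.elim_inl, Sum.elim_inr] at hg
  have hl0 := congrFun hg (Sum.inl 0)
  have hl1 := congrFun hg (Sum.inl 1)
  simp [Matrix.vecMul_fromBlocks, Matrix.vecMul, dotProduct, Fin.sum_univ_two, SLComm.comp, h0] at hl0 hl1
  have h12 : g (Sum.inr 0) = 0 := hl1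
  have hr : g (Sum.inl 1) • e + g (Sum.inr 1) • (e ᵥ* x₂) = 0 := by
    funext i
    have := congrFun hg (Sum.inr i)
    simp [Matrix.vecMul_fromBlocks, Function.comp_def] at this
    simpa [Function.comp_def] using this
  obtain ⟨h3, h4⟩ := LinearIndependent.pair_iff.1 he _ _ hr
  intro i
  rcases i with i | i <;> fin_cases i <;> assumption

theorem cov_cyclic [Fintype F] (hq : 4 ≤ Fintype.card F) {f : F[X]} (hf : f.Monic) {r : ℕ} (hfd : f.natDegree = r)
    (h0 : f.coeff 0 ≠ 0) (hr : 3 ≤ r) : Cov r (SLComm.comp f r) := by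
  rcases Nat.lt_or_ge r 4 with h | h
  · obtain rfl : r = 3 := by omega
    exact cov_three hq hf hfd h0
  · obtain ⟨m, rfl⟩ : ∃ m, r = m + 1 := ⟨r - 1, by omega⟩
    exact (cov_comp hq hf hfd h0 (by omega)).le (by
      rw [comp_det hf hfd]; exact mul_ne_zero (pow_ne_zero _ (neg_ne_zero.2 one_ne_zero)) h0) (ns_comp (by omega)) h

/-- Any blocks over a base. -/
theorem cov_ext [Fintype F] (hq : 4 ≤ Fintype.card F) {B : Matrix ι ι F} {k : ℕ} (hB : Cov k B) (hBn : NS B)
    (hBd : B.det ≠ 0) (hι : 3 ≤ Fintype.card ι) :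
    ∀ L : List F[X], (∀ f ∈ L, f.Monic ∧ 1 ≤ f.natDegree ∧ f.coeff 0 ≠ 0) →
      Cov (k + degs L) (Matrix.fromBlocks (blk L) 0 0 B) ∧ (Matrix.fromBlocks (blk L) 0 0 B).det ≠ 0
  | [], _ => by
    haveI : IsEmpty (Fin (degs ([] : List F[X]))) := by simp only [degs, List.map_nil, List.sum_nil]; infer_instance
    have h := (msim_blocks_empty (blk ([] : List F[X])) B).symm
    exact ⟨hB.of_msim h, by rw [← h.det_eq]; exact hBd⟩
  | f :: L, h => by
    obtain ⟨hf, hf1, hf0⟩ := h f List.mem_cons_self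
    obtain ⟨ih, ihd⟩ := cov_ext hq hB hBn hBd hι L fun g hg => h g (List.mem_cons_of_mem _ hg)
    set Z := Matrix.fromBlocks (blk L) 0 0 B with hZ
    have hsim : MSim (Matrix.fromBlocks (blk (f :: L)) 0 0 B)
        (Matrix.fromBlocks (SLComm.comp f f.natDegree) 0 0 Z) :=
      (msim_blocks (blk_cons f L) (MSim.refl _)).trans (msim_blocks_assoc _ _ _)
    have hdf : dv f ≠ 0 := mul_ne_zero (pow_ne_zero _ (neg_ne_zero.2 one_ne_zero)) hf0
    have hd : (Matrix.fromBlocks (blk (f :: L)) 0 0 B).det ≠ 0 := by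
      rw [hsim.det_eq, Matrix.det_fromBlocks_zero₂₁, comp_det hf rfl]
      exact mul_ne_zero hdf ihd
    refine ⟨Cov.of_msim (x := Matrix.fromBlocks (SLComm.comp f f.natDegree) 0 0 Z) ?_ hsim.symm, hd⟩
    have hZn : NS Z := ns_right hBn
    have hcard : 3 ≤ Fintype.card (Fin (degs L) ⊕ ι) := by simp; omega
    rw [degs_cons]
    rcases Nat.lt_or_ge f.natDegree 3 with hlt | hge
    · rcases Nat.lt_or_ge f.natDegree 2 with hlt' | hge'
      · have hd1 : f.natDegree = 1 := by omega
        obtain ⟨lam, rfl⟩ : ∃ lam, f = X - C lam := ⟨-f.coeff 0, by rw [map_neg, sub_neg_eq_add]; exact hf.eq_X_add_C hd1⟩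
        have hlam : lam ≠ 0 := fun e => hf0 (by simp [e])
        rw [hd1, show k + (1 + degs L) = k + degs L + 1 by omega]
        exact (cov_lam ih hlam ihd hZn (by omega)).of_msim (msim_blocks (msim_comp_one lam).symm (MSim.refl _))
      · have hd2 : f.natDegree = 2 := by omega
        rw [hd2, show k + (2 + degs L) = k + degs L + 2 by omega]
        intro g _ hgd
        exact sprod_two ih (by rw [comp_det hf hd2]; exact hdf) ihd (by simp) (by rw [Fintype.card_fin]; omega)
          (quad_frame hf0 hZn) g hgd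
    · rw [show k + (f.natDegree + degs L) = k + degs L + f.natDegree by omega]
      exact cov_join hq (by rw [Fintype.card_fin]; omega) (by omega) (cov_cyclic hq hf rfl hf0 hge) ih
        (ns_comp (by omega)) hZn (by rw [comp_det hf rfl]; exact hdf) ihd

/-- A list with a block of size at least three. -/
theorem cov_big [Fintype F] (hq : 4 ≤ Fintype.card F) {x : Matrix ι ι F} {L R : List F[X]} {f : F[X]}
    (hL : ∀ g ∈ L, g.Monic ∧ 1 ≤ g.natDegree ∧ g.coeff 0 ≠ 0) (hx : MSim x (blk L)) (hperm : L.Perm (f :: R))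
    (h3 : 3 ≤ f.natDegree) {k : ℕ} (hk : Cov k (SLComm.comp f f.natDegree)) : Cov (k + degs R) x := by
  obtain ⟨hf, -, hf0⟩ := hL f (hperm.mem_iff.2 List.mem_cons_self)
  exact (cov_ext hq hk (ns_comp (by omega))
    (by rw [comp_det hf rfl]; exact mul_ne_zero (pow_ne_zero _ (neg_ne_zero.2 one_ne_zero)) hf0)
    (by rw [Fintype.card_fin]; exact h3) R fun g hg => hL g (hperm.mem_iff.2 (List.mem_cons_of_mem _ hg))).1.of_msim
      (hx.trans (msim_blk_last rfl hperm)).symm

theorem quads_base [Fintype F] (hq : 4 ≤ Fintype.card F) {q : F[X]} (hqm : q.Monic) (hqd : q.natDegree = 2)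
    (h0 : q.coeff 0 ≠ 0) :
    Cov 4 (Matrix.fromBlocks (SLComm.comp q 2) 0 0 (SLComm.comp q 2)) ∧
      NS (Matrix.fromBlocks (SLComm.comp q 2) 0 0 (SLComm.comp q 2)) ∧
      (Matrix.fromBlocks (SLComm.comp q 2) 0 0 (SLComm.comp q 2)).det ≠ 0 := by
  have hd : (SLComm.comp q 2).det ≠ 0 := by
    rw [comp_det hqm hqd]; exact mul_ne_zero (pow_ne_zero _ (neg_ne_zero.2 one_ne_zero)) h0
  exact ⟨cov_two hq (ns_comp le_rfl) hd, ns_blocks (ns_comp le_rfl),
    by rw [Matrix.det_fromBlocks_zero₂₁]; exact mul_ne_zero hd hd⟩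

/-- Two quadratic blocks in front, as the last ones. -/
theorem msim_blk_quads {L R : List F[X]} {q : F[X]} (hqd : q.natDegree = 2) (h : L.Perm (q :: q :: R)) :
    MSim (blk L) (Matrix.fromBlocks (blk R) 0 0 (Matrix.fromBlocks (SLComm.comp q 2) 0 0 (SLComm.comp q 2))) :=
  (blk_perm h).trans ((blk_cons q _).trans ((msim_blocks (msim_comp_cast hqd) ((blk_cons q R).trans
    (msim_blocks (msim_comp_cast hqd) (MSim.refl _)))).trans ((msim_blocks_assoc _ _ _).symm.trans
      (msim_blocks_comm _ _))))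

/-- One quadratic block among equal linear ones has residual rank one. -/
theorem exists_rankone_form {n : ℕ} (hn : 3 ≤ n) {x : Matrix (Fin n) (Fin n) F} (hxd : x.det ≠ 0) {L R : List F[X]}
    {q : F[X]} (hL : ∀ g ∈ L, g.Monic ∧ 1 ≤ g.natDegree) (hchain : ∀ f ∈ L, ∀ g ∈ L, g.natDegree ≤ f.natDegree → g ∣ f)
    (hx : MSim x (blk L)) (hperm : L.Perm (q :: R)) (hqd : q.natDegree = 2) (hR : ∀ g ∈ R, g.natDegree = 1) :
    ∃ (lam : F) (u v : Fin n → F), lam ≠ 0 ∧ u ≠ 0 ∧ v ≠ 0 ∧ MSim x (lam • (1 + Matrix.vecMulVec u v)) := by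
  have hcard : n = 2 + degs R := by
    have := card_of_msim (hx.trans (blk_perm hperm))
    rw [Fintype.card_fin, Fintype.card_fin, degs_cons, hqd] at this
    exact this
  obtain ⟨l, hl⟩ : ∃ l, l ∈ R := by
    rcases R with _ | ⟨l, R⟩
    · simp [degs] at hcard; omega
    · exact ⟨l, List.mem_cons_self⟩
  have hlL := hperm.mem_iff.2 (List.mem_cons_of_mem q hl)
  have hqL := hperm.mem_iff.2 (List.mem_cons_self (a := q) (l := R))
  obtain ⟨lam, rfl⟩ : ∃ lam, l = X - C lam :=
    ⟨-l.coeff 0, by rw [map_neg, sub_neg_eq_add]; exact (hL l hlL).1.eq_X_add_C (hR l hl)⟩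
  have hRl : ∀ g ∈ R, g = X - C lam := fun g hg => by
    have hgL := hperm.mem_iff.2 (List.mem_cons_of_mem q hg)
    exact Polynomial.eq_of_monic_of_dvd_of_natDegree_le (monic_X_sub_C lam) (hL g hgL).1
      (hchain g hgL _ hlL (by rw [hR g hg, natDegree_X_sub_C])) (by rw [hR g hg, natDegree_X_sub_C])
  have hroot : q.eval lam = 0 := dvd_iff_isRoot.1 (hchain q hqL _ hlL (by rw [hqd, natDegree_X_sub_C]; omega))
  have hlen : degs R = R.length := by
    have := card_of_msim (blk_linear R hRl)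
    rwa [Fintype.card_fin, Fintype.card_fin] at this
  have hsim : MSim x (Matrix.fromBlocks (SLComm.comp q 2) 0 0 (lam • 1 : Matrix (Fin R.length) (Fin R.length) F)) :=
    hx.trans ((blk_perm hperm).trans ((blk_cons q R).trans (msim_blocks (msim_comp_cast hqd) (blk_linear R hRl))))
  haveI : Nonempty (Fin R.length) := Fin.pos_iff_nonempty.1 (by omega)
  have hl0 : lam ≠ 0 := fun e => hxd (by
    rw [hsim.det_eq, Matrix.det_fromBlocks_zero₂₁, e, zero_smul, Matrix.det_zero, mul_zero])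
  obtain ⟨u, v, hu, hv, he⟩ := msim_quad_lam (ν := Fin R.length) hqd (hL q hqL).1 hl0 hroot
  rw [he] at hsim
  let e : Fin 2 ⊕ Fin R.length ≃ Fin n := Fintype.equivFinOfCardEq (by simp; omega)
  refine ⟨lam, u ∘ e.symm, v ∘ e.symm, hl0,
    fun h' => hu (funext fun i => by simpa using congrFun h' (e i)),
    fun h' => hv (funext fun i => by simpa using congrFun h' (e i)), hsim.trans ?_⟩
  convert msim_reindex e (lam • (1 + Matrix.vecMulVec u v)) using 1
  ext i j
  simp [Matrix.vecMulVec_apply, Matrix.one_apply, mul_add]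

theorem SProd.smul {k : ℕ} {x g : Matrix ι ι F} (hg : SProd k x g) (c : F) : SProd k (c • x) (c ^ k • g) := by
  obtain ⟨l, hl, hx, rfl⟩ := hg
  refine ⟨l.map fun a => c • a, by simp [hl], fun b hb => ?_, by rw [list_prod_smul, hl]⟩
  obtain ⟨a, ha, rfl⟩ := List.mem_map.1 hb
  exact (hx a ha).smul c

/-- The class of residual rank one. -/
theorem sprod_rankone_form [Fintype F] (hq : 4 ≤ Fintype.card F) {n : ℕ} (hn : 3 ≤ n) {x : Matrix (Fin n) (Fin n) F}
    (hxd : x.det = 1) {lam : F} {u v : Fin n → F} (hl : lam ≠ 0) (hu : u ≠ 0) (hv : v ≠ 0)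
    (hx : MSim x (lam • (1 + Matrix.vecMulVec u v))) {g : Matrix (Fin n) (Fin n) F} (hg : NS g ∨ g = 1)
    (hgd : g.det = 1) : SProd n x g := by
  have hν : lam ^ n * (1 + v ⬝ᵥ u) = 1 := by
    have := hx.det_eq
    rw [hxd, Matrix.det_smul, Fintype.card_fin, Matrix.vecMulVec_eq Unit,
      Matrix.det_one_add_replicateCol_mul_replicateRow] at this
    exact this.symm
  have hln : lam ^ n ≠ 0 := pow_ne_zero _ hl
  have h := (sprod_rankone hq hn hu hv (right_ne_zero_of_mul_eq_one hν) rfl ((lam ^ n)⁻¹ • g)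
    (by
      rcases hg with hg | rfl
      · exact Or.inl fun c hc => hg (lam ^ n * c) (by rw [mul_smul, ← hc, smul_inv_smul₀ hln])
      · exact Or.inr (by rw [inv_eq_of_mul_eq_one_right hν]))
    (by
      rw [Matrix.det_smul, hgd, mul_one, Fintype.card_fin, inv_eq_of_mul_eq_one_right hν])).smul lam
  rw [smul_inv_smul₀ hln] at h
  have hs : SSim x (lam • (1 + Matrix.vecMulVec u v)) :=
    Surj.ssim ((show Surj (1 + Matrix.vecMulVec u v) from fun c hc =>
      surj_rankone (by rw [Fintype.card_fin]; exact hn) hu hv c hc).smul lam) hx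
  exact h.of_ssim hs.symm

/-- **All nonscalar targets.** -/
theorem sprod_ns [Fintype F] (hq : 4 ≤ Fintype.card F) {n : ℕ} (hn : 3 ≤ n) {x g : Matrix (Fin n) (Fin n) F}
    (hx : NS x) (hxd : x.det = 1) (hg : NS g) (hgd : g.det = 1) : SProd n x g := by
  classical
  obtain ⟨L, hL, hsim, hchain⟩ := exists_chain x
  have hxd0 : x.det ≠ 0 := by rw [hxd]; exact one_ne_zero
  have h0 := coeff_ne_of_det (fun f hf => (hL f hf).1) hsim hxd0
  have hL' : ∀ f ∈ L, f.Monic ∧ 1 ≤ f.natDegree ∧ f.coeff 0 ≠ 0 := fun f hf => ⟨(hL f hf).1, (hL f hf).2, h0 f hf⟩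
  have hnL : n = degs L := by simpa using card_of_msim hsim
  have hgx : g.det = x.det ^ n := by rw [hgd, hxd, one_pow]
  by_cases h3 : ∃ f ∈ L, 3 ≤ f.natDegree
  · obtain ⟨f, hf, hf3⟩ := h3
    have hperm := List.perm_cons_erase hf
    have hdeg : f.natDegree + degs (L.erase f) = n := by rw [hnL, ← degs_cons]; exact ((hperm.map _).sum_eq).symm
    have := cov_big hq hL' hsim hperm hf3 (cov_cyclic hq (hL f hf).1 rfl (h0 f hf) hf3)
    rw [hdeg] at this
    exact this.sprod hg hgx
  push Not at h3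
  by_cases h2 : ∃ f ∈ L, f.natDegree = 2
  · obtain ⟨q, hqL, hqd⟩ := h2
    have hperm := List.perm_cons_erase hqL
    by_cases h22 : ∃ f ∈ L.erase q, f.natDegree = 2
    · obtain ⟨q', hq', hq'd⟩ := h22
      have hq'L := List.mem_of_mem_erase hq'
      obtain rfl : q' = q := Polynomial.eq_of_monic_of_dvd_of_natDegree_le (hL q hqL).1 (hL q' hq'L).1
        (hchain q' hq'L q hqL (by omega)) (by omega)
      have hperm' : L.Perm (q' :: q' :: (L.erase q').erase q') :=
        hperm.trans ((List.perm_cons_erase hq').cons q')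
      obtain ⟨hB, hBn, hBd⟩ := quads_base hq (hL q' hqL).1 hqd (h0 q' hqL)
      have hdeg : 4 + degs ((L.erase q').erase q') = n := by
        rw [hnL, show degs L = degs (q' :: q' :: (L.erase q').erase q') from (hperm'.map _).sum_eq, degs_cons, degs_cons]
        omega
      have := (cov_ext hq hB hBn hBd (by simp) _ fun f hf => hL' f (hperm'.mem_iff.2
        (List.mem_cons_of_mem _ (List.mem_cons_of_mem _ hf)))).1.of_msim (hsim.trans (msim_blk_quads hqd hperm')).symm
      rw [hdeg] at this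
      exact this.sprod hg hgx
    · push Not at h22
      obtain ⟨lam, u, v, hl, hu, hv, he⟩ := exists_rankone_form hn hxd0 hL hchain hsim hperm hqd fun f hf => by
        have := h3 f (List.mem_of_mem_erase hf)
        have := (hL f (List.mem_of_mem_erase hf)).2
        have := h22 f hf
        omega
      exact sprod_rankone_form hq hn hxd hl hu hv he (Or.inl hg) hgd
  · push Not at h2
    exfalso
    obtain ⟨l, hl⟩ : ∃ l, l ∈ L := by
      rcases L with _ | ⟨l, R⟩
      · simp [degs] at hnL; omega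
      · exact ⟨l, List.mem_cons_self⟩
    have hd1 : ∀ f ∈ L, f.natDegree = 1 := fun f hf => by
      have := h3 f hf; have := h2 f hf; have := (hL f hf).2; omega
    obtain ⟨lam, rfl⟩ : ∃ lam, l = X - C lam :=
      ⟨-l.coeff 0, by rw [map_neg, sub_neg_eq_add]; exact (hL l hl).1.eq_X_add_C (hd1 l hl)⟩
    have hall : ∀ f ∈ L, f = X - C lam := fun f hf =>
      Polynomial.eq_of_monic_of_dvd_of_natDegree_le (monic_X_sub_C lam) (hL f hf).1
        (hchain f hf _ hl (by rw [hd1 f hf, natDegree_X_sub_C])) (by rw [hd1 f hf, natDegree_X_sub_C])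
    exact ((hx.of_msim hsim).of_msim (blk_linear L hall)) lam rfl

end Cfsg.Lib.Linear.PSLCover
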