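import Cfsg.Agent.Lib.Linear.SLCommutator.Extension

/-!
# Similar matrices and products of conjugates

Similarity of matrices over arbitrary index types, products of members of one similarity class, and the
correction of a nonscalar matrix by one member of a nonscalar class.
-/

set_option autoImplicit false
set_option linter.unusedSectionVars false

universe u

namespace Cfsg.Lib.Linear.PSLCover

open Module
open Cfsg.Lib.Linear.SLComm (Sim toLin'_diag_sim)
open scoped Matrix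

variable {F : Type u} [Field F]
variable {ι κ μ ν : Type} [Fintype ι] [DecidableEq ι] [Fintype κ] [DecidableEq κ]
  [Fintype μ] [DecidableEq μ] [Fintype ν] [DecidableEq ν]

/-- Similar matrices, possibly on different index types. -/
def MSim (A : Matrix ι ι F) (B : Matrix κ κ F) : Prop := Sim (Matrix.toLin' A) (Matrix.toLin' B)

theorem MSim.refl (A : Matrix ι ι F) : MSim A A := Sim.refl _

theorem MSim.symm {A : Matrix ι ι F} {B : Matrix κ κ F} (h : MSim A B) : MSim B A := Sim.symm h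

theorem MSim.trans {A : Matrix ι ι F} {B : Matrix κ κ F} {C : Matrix μ μ F} (h : MSim A B) (h' : MSim B C) :
    MSim A C := Sim.trans h h'

theorem MSim.det_eq {A : Matrix ι ι F} {B : Matrix κ κ F} (h : MSim A B) : A.det = B.det := by
  rw [← LinearMap.det_toLin', ← LinearMap.det_toLin']; exact Sim.det_eq h

theorem msim_iff {A : Matrix ι ι F} {B : Matrix κ κ F} :
    MSim A B ↔ ∃ (P : Matrix κ ι F) (Q : Matrix ι κ F), P * Q = 1 ∧ Q * P = 1 ∧ P * A = B * P := by
  constructor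
  · rintro ⟨e, he⟩
    refine ⟨LinearMap.toMatrix' e.toLinearMap, LinearMap.toMatrix' e.symm.toLinearMap, ?_, ?_, ?_⟩
    · rw [← LinearMap.toMatrix'_comp, ← LinearMap.toMatrix'_id]
      congr 1; exact LinearMap.ext fun v => e.apply_symm_apply v
    · rw [← LinearMap.toMatrix'_comp, ← LinearMap.toMatrix'_id]
      congr 1; exact LinearMap.ext fun v => e.symm_apply_apply v
    · conv_lhs => rw [← LinearMap.toMatrix'_toLin' A]
      conv_rhs => rw [← LinearMap.toMatrix'_toLin' B]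
      rw [← LinearMap.toMatrix'_comp, ← LinearMap.toMatrix'_comp]
      congr 1; exact LinearMap.ext he
  · rintro ⟨P, Q, hPQ, hQP, h⟩
    refine ⟨LinearEquiv.ofLinear (Matrix.toLin' P) (Matrix.toLin' Q)
      (by rw [← Matrix.toLin'_mul, hPQ, Matrix.toLin'_one]) (by rw [← Matrix.toLin'_mul, hQP, Matrix.toLin'_one]),
      fun v => ?_⟩
    simp [Matrix.mulVec_mulVec, h]

theorem msim_conj (A P Q : Matrix ι ι F) (h : P * Q = 1) : MSim (P * A * Q) A :=
  msim_iff.2 ⟨Q, P, mul_eq_one_comm.1 h, h, by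
    rw [← Matrix.mul_assoc, ← Matrix.mul_assoc, mul_eq_one_comm.1 h, Matrix.one_mul]⟩

theorem MSim.exists_conj {A B : Matrix ι ι F} (h : MSim A B) :
    ∃ P Q : Matrix ι ι F, P * Q = 1 ∧ Q * P = 1 ∧ A = P * B * Q := by
  obtain ⟨P, Q, hPQ, hQP, he⟩ := msim_iff.1 h
  exact ⟨Q, P, hQP, hPQ, by rw [Matrix.mul_assoc, ← he, ← Matrix.mul_assoc, hQP, Matrix.one_mul]⟩

theorem msim_reindex (e : ι ≃ κ) (A : Matrix ι ι F) : MSim A (Matrix.reindex e e A) :=
  ⟨LinearEquiv.funCongrLeft F F e.symm, fun v => funext fun i => by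
    simp [LinearEquiv.funCongrLeft, Matrix.mulVec, dotProduct, Matrix.reindex_apply]⟩

theorem msim_blocks {A : Matrix ι ι F} {A' : Matrix κ κ F} {B : Matrix μ μ F} {B' : Matrix ν ν F}
    (hA : MSim A A') (hB : MSim B B') : MSim (Matrix.fromBlocks A 0 0 B) (Matrix.fromBlocks A' 0 0 B') :=
  ((toLin'_diag_sim A B).symm.trans (Sim.prod hA hB)).trans (toLin'_diag_sim A' B')

theorem msim_blocks_comm (A : Matrix ι ι F) (B : Matrix μ μ F) :
    MSim (Matrix.fromBlocks A 0 0 B) (Matrix.fromBlocks B 0 0 A) := by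
  convert msim_reindex (Equiv.sumComm ι μ) (Matrix.fromBlocks A 0 0 B) using 1
  rw [Matrix.reindex_apply, Equiv.sumComm_symm]
  ext (i | i) (j | j) <;> simp

theorem msim_blocks_assoc (A : Matrix ι ι F) (B : Matrix κ κ F) (C : Matrix μ μ F) :
    MSim (Matrix.fromBlocks (Matrix.fromBlocks A 0 0 B) 0 0 C)
      (Matrix.fromBlocks A 0 0 (Matrix.fromBlocks B 0 0 C)) := by
  convert msim_reindex (Equiv.sumAssoc ι κ μ) (Matrix.fromBlocks (Matrix.fromBlocks A 0 0 B) 0 0 C) using 1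
  ext (i | i | i) (j | j | j) <;> simp [Matrix.reindex_apply]

theorem MSim.smul {A : Matrix ι ι F} {B : Matrix κ κ F} (c : F) (h : MSim A B) : MSim (c • A) (c • B) := by
  obtain ⟨P, Q, hPQ, hQP, he⟩ := msim_iff.1 h
  exact msim_iff.2 ⟨P, Q, hPQ, hQP, by rw [Matrix.mul_smul, Matrix.smul_mul, he]⟩

theorem msim_inv {A A' : Matrix ι ι F} {B B' : Matrix κ κ F} (hA : A * A' = 1) (hB : B * B' = 1) (h : MSim A B) :
    MSim A' B' := by
  obtain ⟨P, Q, hPQ, hQP, he⟩ := msim_iff.1 h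
  refine msim_iff.2 ⟨P, Q, hPQ, hQP, ?_⟩
  calc P * A' = B' * B * P * A' := by rw [mul_eq_one_comm.1 hB, Matrix.one_mul]
    _ = B' * (P * A) * A' := by rw [he, Matrix.mul_assoc B' B P]
    _ = B' * P := by rw [Matrix.mul_assoc, Matrix.mul_assoc, hA, Matrix.mul_one]

/-! ### Nonscalar matrices -/

/-- Not a multiple of the identity. -/
def NS (A : Matrix ι ι F) : Prop := ∀ c : F, A ≠ c • 1

theorem NS.of_msim {A : Matrix ι ι F} {B : Matrix κ κ F} (hA : NS A) (h : MSim A B) : NS B := by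
  intro c hc
  obtain ⟨P, Q, hPQ, hQP, he⟩ := msim_iff.1 h
  refine hA c ?_
  rw [hc, Matrix.smul_mul, Matrix.one_mul] at he
  calc A = Q * (P * A) := by rw [← Matrix.mul_assoc, hQP, Matrix.one_mul]
    _ = c • 1 := by rw [he, Matrix.mul_smul, hQP]

theorem NS.exists_indep {A : Matrix ι ι F} (hA : NS A) : ∃ v, LinearIndependent F ![v, A *ᵥ v] := by
  by_contra hn
  push Not at hn
  obtain ⟨γ, hγ⟩ := LinearMap.exists_eq_smul_id_of_forall_notLinearIndependent (f := Matrix.toLin' A) hn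
  refine hA γ (Matrix.toLin'.injective ?_)
  rw [hγ, map_smul, Matrix.toLin'_one]
  rfl

theorem NS.of_apply {A : Matrix ι ι F} (v : ι → F) (h : ∀ c : F, A *ᵥ v ≠ c • v) : NS A :=
  fun c hc => h c (by rw [hc, Matrix.smul_mulVec, Matrix.one_mulVec])

theorem NS.inv {A A' : Matrix ι ι F} (h : A * A' = 1) (hA : NS A) : NS A' := by
  intro c hc
  rw [hc, Matrix.mul_smul, Matrix.mul_one] at h
  rcases eq_or_ne c 0 with rfl | hc0
  · rw [zero_smul] at h
    exact hA 1 (by rw [one_smul, ← Matrix.mul_one A, ← h, Matrix.mul_zero])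
  · exact hA c⁻¹ (by rw [← h, smul_smul, inv_mul_cancel₀ hc0, one_smul])

/-- A nonscalar matrix has a conjugate, by a matrix of determinant one, which is no multiple of it. -/
theorem NS.exists_conj_ne {A : Matrix ι ι F} (hA : NS A) :
    ∃ P Q : Matrix ι ι F, P * Q = 1 ∧ P.det = 1 ∧ ∀ c : F, P * A * Q ≠ c • A := by
  obtain ⟨v, hv⟩ := hA.exists_indep
  obtain ⟨φ, hφv, hφw⟩ : ∃ φ : (ι → F) →ₗ[F] F, φ v = 0 ∧ φ (A *ᵥ v) = 1 := by
    obtain ⟨φ, hφ⟩ := LinearMap.exists_extend ((Finsupp.linearCombination F ![(0 : F), 1]).comp hv.repr)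
    have h : ∀ i, φ (![v, A *ᵥ v] i) = ![(0 : F), 1] i := fun i => by
      have := LinearMap.congr_fun hφ ⟨![v, A *ᵥ v] i, Submodule.subset_span ⟨i, rfl⟩⟩
      rw [LinearMap.comp_apply, Submodule.subtype_apply] at this
      rw [this, LinearMap.comp_apply, hv.repr_eq_single i _ rfl]
      simp
    exact ⟨φ, h 0, h 1⟩
  let r : ι → F := fun i => φ (Pi.single i 1)
  have hr : ∀ x, r ⬝ᵥ x = φ x := fun x => by
    conv_rhs => rw [pi_eq_sum_univ' x]
    simp [dotProduct, r, map_sum, mul_comm]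
  have hmul : ∀ s t : F, (1 + s • Matrix.vecMulVec v r) * (1 + t • Matrix.vecMulVec v r) =
      1 + (s + t) • Matrix.vecMulVec v r := fun s t => by
    have h0 : Matrix.vecMulVec v r * Matrix.vecMulVec v r = 0 := by
      rw [Matrix.vecMulVec_mul_vecMulVec, hr, hφv, zero_smul, Matrix.vecMulVec_zero]
    rw [Matrix.add_mul, Matrix.one_mul, Matrix.mul_add, Matrix.mul_one, Matrix.smul_mul,
      Matrix.mul_smul, h0, smul_zero, smul_zero, add_zero, add_smul]
    abel
  refine ⟨1 + (1 : F) • Matrix.vecMulVec v r, 1 + (-1 : F) • Matrix.vecMulVec v r, ?_, ?_, fun c hc => ?_⟩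
  · rw [hmul, add_neg_cancel, zero_smul, add_zero]
  · rw [one_smul, Matrix.vecMulVec_eq Unit, Matrix.det_one_add_replicateCol_mul_replicateRow, hr, hφv, add_zero]
  · have hQ : (1 + (-1 : F) • Matrix.vecMulVec v r) *ᵥ v = v := by
      rw [Matrix.add_mulVec, Matrix.one_mulVec, Matrix.smul_mulVec, Matrix.vecMulVec_mulVec, hr, hφv]
      simp
    have e := congrArg (fun M => M *ᵥ v) hc
    simp only [← Matrix.mulVec_mulVec, hQ, Matrix.smul_mulVec] at e
    rw [Matrix.add_mulVec, Matrix.one_mulVec, one_smul, Matrix.vecMulVec_mulVec, hr, hφw] at e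
    simp only [op_smul_eq_smul, one_smul] at e
    exact one_ne_zero (hv.eq_zero_of_pair (s := (1 : F)) (t := 1 - c) (by
      rw [sub_smul, ← e]; module)).1

/-! ### Products of conjugates -/

/-- `g` is a product of `k` matrices similar to `x`. -/
def Prods (k : ℕ) (x : Matrix κ κ F) (g : Matrix ι ι F) : Prop :=
  ∃ l : List (Matrix ι ι F), l.length = k ∧ (∀ h ∈ l, MSim h x) ∧ l.prod = g

theorem Prods.mono {k : ℕ} {x : Matrix κ κ F} {y : Matrix μ μ F} {g : Matrix ι ι F} (h : MSim x y)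
    (hg : Prods k x g) : Prods k y g := by
  obtain ⟨l, hl, hx, hp⟩ := hg
  exact ⟨l, hl, fun a ha => (hx a ha).trans h, hp⟩

theorem Prods.append {j k : ℕ} {x : Matrix κ κ F} {g g' : Matrix ι ι F} (hg : Prods j x g) (hg' : Prods k x g') :
    Prods (j + k) x (g * g') := by
  obtain ⟨l, hl, hx, hp⟩ := hg
  obtain ⟨l', hl', hx', hp'⟩ := hg'
  exact ⟨l ++ l', by simp [hl, hl'], fun a ha => (List.mem_append.1 ha).elim (hx a) (hx' a),
    by rw [List.prod_append, hp, hp']⟩

theorem prods_one {x : Matrix κ κ F} {g : Matrix ι ι F} (h : MSim g x) : Prods 1 x g :=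
  ⟨[g], rfl, fun a ha => by simp at ha; exact ha ▸ h, by simp⟩

theorem prod_map_conj (P : Matrix κ ι F) (Q : Matrix ι κ F) (hPQ : P * Q = 1) (hQP : Q * P = 1) :
    ∀ l : List (Matrix ι ι F), (l.map fun a => P * a * Q).prod = P * l.prod * Q
  | [] => by simp [hPQ]
  | a :: l => by
    rw [List.map_cons, List.prod_cons, prod_map_conj P Q hPQ hQP l, List.prod_cons]
    simp only [Matrix.mul_assoc]
    rw [← Matrix.mul_assoc Q P, hQP, Matrix.one_mul]

theorem Prods.transport {k : ℕ} {x : Matrix κ κ F} {g : Matrix ι ι F} {g' : Matrix μ μ F} (h : MSim g g')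
    (hg : Prods k x g) : Prods k x g' := by
  obtain ⟨P, Q, hPQ, hQP, he⟩ := msim_iff.1 h
  obtain ⟨l, hl, hx, hp⟩ := hg
  refine ⟨l.map fun a => P * a * Q, by simp [hl], fun b hb => ?_, ?_⟩
  · obtain ⟨a, ha, rfl⟩ := List.mem_map.1 hb
    refine (msim_iff.2 ⟨Q, P, hQP, hPQ, ?_⟩).trans (hx a ha)
    rw [← Matrix.mul_assoc, ← Matrix.mul_assoc, hQP, Matrix.one_mul]
  · rw [prod_map_conj P Q hPQ hQP, hp, he, Matrix.mul_assoc, hPQ, Matrix.mul_one]

theorem exists_inv_of_msim {A : Matrix ι ι F} {x x' : Matrix κ κ F} (hx : x * x' = 1) (h : MSim A x) :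
    ∃ A', A * A' = 1 := by
  have hd : IsUnit A.det := by
    rw [h.det_eq]
    exact isUnit_iff_exists_inv.2 ⟨x'.det, by rw [← Matrix.det_mul, hx, Matrix.det_one]⟩
  exact ⟨A⁻¹, Matrix.mul_nonsing_inv _ hd⟩

/-- One member of the class leaves a nonscalar matrix. -/
theorem exists_rest {x x' : Matrix ι ι F} (hx : x * x' = 1) (hns : NS x) (g : Matrix ι ι F) :
    ∃ h h' : Matrix ι ι F, MSim h x ∧ h * h' = 1 ∧ (g ≠ 0 → NS (g * h')) := by
  by_cases hsc : NS (g * x')
  · exact ⟨x, x', MSim.refl x, hx, fun _ => hsc⟩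
  simp only [NS, not_forall, not_not] at hsc
  obtain ⟨c, hc⟩ := hsc
  obtain ⟨P, Q, hPQ, -, hne⟩ := hns.exists_conj_ne
  have hQP := mul_eq_one_comm.1 hPQ
  refine ⟨P * x * Q, P * x' * Q, msim_conj x P Q hPQ, ?_, fun hg d hd => ?_⟩
  · simp only [Matrix.mul_assoc]
    rw [← Matrix.mul_assoc Q P, hQP, Matrix.one_mul, ← Matrix.mul_assoc x x', hx, Matrix.one_mul, hPQ]
  · have hgx : g = c • x := by
      have := congrArg (fun M => M * x) hc
      simp only [Matrix.mul_assoc, mul_eq_one_comm.1 hx, Matrix.mul_one, Matrix.smul_mul, Matrix.one_mul] at this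
      exact this
    have hgy : g = d • (P * x * Q) := by
      have := congrArg (fun M => M * (P * x * Q)) hd
      simp only [Matrix.mul_assoc, Matrix.smul_mul, Matrix.one_mul] at this
      rw [← Matrix.mul_assoc Q P, hQP, Matrix.one_mul, ← Matrix.mul_assoc x' x, mul_eq_one_comm.1 hx,
        Matrix.one_mul, hPQ, Matrix.mul_one, ← Matrix.mul_assoc] at this
      exact this
    have hd0 : d ≠ 0 := fun h => hg (by rw [hgy, h, zero_smul])
    exact hne (d⁻¹ * c) (by rw [mul_smul, ← hgx, hgy, inv_smul_smul₀ hd0])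

/-- Extra factors leave a nonscalar matrix. -/
theorem exists_rest_list {x x' : Matrix ι ι F} (hx : x * x' = 1) (hns : NS x) :
    ∀ (k : ℕ) (g : Matrix ι ι F), g.det ≠ 0 → NS g →
      ∃ g' r : Matrix ι ι F, NS g' ∧ Prods k x r ∧ g = g' * r
  | 0, g, _, hg => ⟨g, 1, hg, ⟨[], rfl, by simp, by simp⟩, (Matrix.mul_one g).symm⟩
  | k + 1, g, hd, _ => by
    have hg0 : g ≠ 0 := fun h => by
      rcases isEmpty_or_nonempty ι with hι | ⟨⟨i⟩⟩
      · exact hns 1 (Subsingleton.elim _ _)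
      · exact hd (by rw [h, Matrix.det_eq_zero_of_row_eq_zero i (fun _ => rfl)])
    obtain ⟨h, h', hh, hhh', hN⟩ := exists_rest hx hns g
    have hd' : (g * h').det ≠ 0 := by
      have h1 : h.det * h'.det = 1 := by rw [← Matrix.det_mul, hhh', Matrix.det_one]
      rw [Matrix.det_mul]; exact mul_ne_zero hd (right_ne_zero_of_mul_eq_one h1)
    obtain ⟨g', r, hg', hr, he⟩ := exists_rest_list hx hns k (g * h') hd' (hN hg0)
    refine ⟨g', r * h, hg', hr.append (prods_one hh), ?_⟩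
    rw [← Matrix.mul_assoc, ← he, Matrix.mul_assoc, mul_eq_one_comm.1 hhh', Matrix.mul_one]

end Cfsg.Lib.Linear.PSLCover
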