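import Cfsg.Agent.Lib.Linear.PSLCover.Basics

/-!
# The target classes

Cyclic classes with one repeated eigenvalue `ζ` and a list of simple ones: they are recognised by the
characteristic polynomial and a one dimensional eigenspace for `ζ`.
-/

set_option autoImplicit false
set_option linter.unusedSectionVars false
set_option linter.unusedSimpArgs false

universe u

namespace Cfsg.Lib.Linear.PSLCover

open Module Polynomial
open Cfsg.Lib.Linear.SLComm (Sim rt Cyc cyc_iff cyclic_sim)
open Cfsg.Lib.CanonicalForm (HasForm exists_form)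
open scoped Matrix

variable {F : Type u} [Field F]
variable {ι κ : Type} [Fintype ι] [DecidableEq ι] [Fintype κ] [DecidableEq κ]

/-- At most one dimension of eigenvectors. -/
def KerLe (M : Matrix ι ι F) (ζ : F) : Prop :=
  ∀ z z' : ι → F, M *ᵥ z = ζ • z → M *ᵥ z' = ζ • z' → z ≠ 0 → ∃ c : F, z' = c • z

/-- The polynomial of a target class. -/
noncomputable def tPoly (ζ : F) (k : ℕ) (S : List F) : F[X] :=
  (X - C ζ) ^ k * (S.map fun t => X - C t).prod

/-- The target class. -/
structure IsT (ζ : F) (k : ℕ) (S : List F) (M : Matrix ι ι F) : Prop where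
  nodup : S.Nodup
  notMem : ζ ∉ S
  poly : M.charpoly = tPoly ζ k S
  ker : KerLe M ζ

theorem tPoly_monic (ζ : F) (k : ℕ) (S : List F) : (tPoly ζ k S).Monic := by
  refine ((monic_X_sub_C ζ).pow k).mul ?_
  induction S with
  | nil => exact monic_one
  | cons t S ih => rw [List.map_cons, List.prod_cons]; exact (monic_X_sub_C t).mul ih

theorem tPoly_degree (ζ : F) (k : ℕ) (S : List F) : (tPoly ζ k S).natDegree = k + S.length := by
  have h : ∀ T : List F, ((T.map fun t => X - C t).prod).Monic ∧ ((T.map fun t => X - C t).prod).natDegree = T.length := by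
    intro T
    induction T with
    | nil => exact ⟨monic_one, natDegree_one⟩
    | cons t T ih =>
      rw [List.map_cons, List.prod_cons]
      refine ⟨(monic_X_sub_C t).mul ih.1, ?_⟩
      rw [(monic_X_sub_C t).natDegree_mul ih.1, natDegree_X_sub_C, ih.2, List.length_cons, add_comm]
  rw [tPoly, ((monic_X_sub_C ζ).pow k).natDegree_mul (h S).1, (monic_X_sub_C ζ).natDegree_pow,
    natDegree_X_sub_C, mul_one, (h S).2]

theorem eval_simple {S : List F} (hnd : S.Nodup) {μ : F} (hμ : μ ∈ S) :
    ∃ R : F[X], (S.map fun t => X - C t).prod = (X - C μ) * R ∧ R.eval μ ≠ 0 := by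
  classical
  refine ⟨((S.erase μ).map fun t => X - C t).prod, ?_, ?_⟩
  · rw [← List.prod_cons, ← List.map_cons (f := fun t => X - C t)]
    exact ((List.perm_cons_erase hμ).map _).prod_eq
  · rw [eval_list_prod, List.map_map, ne_eq, List.prod_eq_zero_iff, List.mem_map]
    rintro ⟨t, ht, h0⟩
    simp only [Function.comp_apply, eval_sub, eval_X, eval_C, sub_eq_zero] at h0
    subst h0
    exact hnd.not_mem_erase ht

theorem charpoly_of_msim {A : Matrix ι ι F} {B : Matrix κ κ F} (h : MSim A B) : A.charpoly = B.charpoly := by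
  obtain ⟨e, he⟩ := h
  rw [← Matrix.charpoly_toLin', ← Matrix.charpoly_toLin', ← LinearEquiv.charpoly_conj e (Matrix.toLin' A)]
  congr 1
  exact LinearMap.ext fun w => by simpa [LinearEquiv.conj_apply] using he (e.symm w)

theorem KerLe.of_msim {A : Matrix ι ι F} {B : Matrix κ κ F} {ζ : F} (hA : KerLe A ζ) (h : MSim A B) : KerLe B ζ := by
  obtain ⟨e, he⟩ := h
  intro z z' hz hz' h0
  have key : ∀ w, B *ᵥ w = ζ • w → A *ᵥ e.symm w = ζ • e.symm w := fun w hw => e.injective (by
    have := he (e.symm w)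
    rw [Matrix.toLin'_apply, Matrix.toLin'_apply, e.apply_symm_apply] at this
    rw [this, hw, map_smul, e.apply_symm_apply])
  obtain ⟨c, hc⟩ := hA _ _ (key z hz) (key z' hz') (fun hh => h0 (by simpa using congrArg e hh))
  exact ⟨c, e.symm.injective (by rw [hc, map_smul])⟩

theorem IsT.of_msim {ζ : F} {k : ℕ} {S : List F} {A : Matrix ι ι F} {B : Matrix κ κ F} (hA : IsT ζ k S A)
    (h : MSim A B) : IsT ζ k S B :=
  ⟨hA.nodup, hA.notMem, (charpoly_of_msim h).symm.trans hA.poly, hA.ker.of_msim h⟩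

theorem IsT.sim_rt_fin {n : ℕ} {ζ : F} {k : ℕ} {S : List F} {M : Matrix (Fin n) (Fin n) F} (hM : IsT ζ k S M) :
    Sim (rt (tPoly ζ k S)) (Matrix.toLin' M) := by
  classical
  obtain ⟨τ, _, p, e, hp, hi, he, hform⟩ := exists_form M
  have hchar : M.charpoly = ∏ i, p i ^ e i := hform.charpoly fun i => (hp i).pow _
  obtain ⟨Ψ, hΨ⟩ := hform
  have hdvd : ∀ i, p i ^ e i ∣ tPoly ζ k S := fun i => by
    rw [← hM.poly, hchar]; exact Finset.dvd_prod_of_mem (fun i => p i ^ e i) (Finset.mem_univ i)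
  have hroot : ∀ i, ∃ μ, (μ = ζ ∨ μ ∈ S) ∧ p i = X - C μ := by
    intro i
    have h1 : p i ∣ tPoly ζ k S := (dvd_pow_self (p i) (by have := he i; omega)).trans (hdvd i)
    rcases (hi i).prime.dvd_mul.1 h1 with h | h
    · exact ⟨ζ, Or.inl rfl, eq_of_monic_of_associated (hp i) (monic_X_sub_C ζ)
        ((hi i).associated_of_dvd (irreducible_X_sub_C ζ) ((hi i).prime.dvd_of_dvd_pow h))⟩
    · obtain ⟨q, hq, hdq⟩ := (hi i).prime.dvd_prod_iff.1 h
      obtain ⟨t, ht, rfl⟩ := List.mem_map.1 hq
      exact ⟨t, Or.inr ht, eq_of_monic_of_associated (hp i) (monic_X_sub_C t)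
        ((hi i).associated_of_dvd (irreducible_X_sub_C t) hdq)⟩
  have hinj : ∀ i j, p i = p j → i = j := by
    intro i j hij
    by_contra hne
    obtain ⟨μ, hμ, hpi⟩ := hroot i
    rcases hμ with rfl | hμ
    · -- two eigenvectors
      let v : τ → (Fin n → F) := fun l => Ψ.symm (Pi.single l (AdjoinRoot.mk _ (p l ^ (e l - 1))))
      have hne0 : ∀ l, AdjoinRoot.mk (p l ^ e l) (p l ^ (e l - 1)) ≠ 0 := fun l h => by
        rw [AdjoinRoot.mk_eq_zero, pow_dvd_pow_iff (hp l).ne_zero (hi l).not_isUnit] at h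
        have := he l
        omega
      have hv : ∀ l, p l = X - C μ → M *ᵥ v l = μ • v l := fun l hl => by
        refine Ψ.injective (funext fun m => ?_)
        rw [hΨ, map_smul, Pi.smul_apply]
        simp only [v, LinearEquiv.apply_symm_apply]
        rcases eq_or_ne m l with rfl | hm
        · rw [Pi.single_eq_same, Algebra.smul_def, AdjoinRoot.algebraMap_eq, ← AdjoinRoot.mk_X, ← AdjoinRoot.mk_C,
            ← map_mul, ← map_mul, AdjoinRoot.mk_eq_mk, ← sub_mul, ← hl, ← pow_succ',
            show e m - 1 + 1 = e m by have := he m; omega]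
        · rw [Pi.single_eq_of_ne hm, mul_zero, smul_zero]
      obtain ⟨c, hc⟩ := hM.ker (v i) (v j) (hv i hpi) (hv j (hij ▸ hpi)) (fun h => hne0 i (by
        have h1 := congrFun (congrArg Ψ h) i
        simpa [v] using h1))
      refine hne0 j ?_
      have h1 := congrFun (congrArg Ψ hc) j
      simpa [v, Pi.single_eq_of_ne (Ne.symm hne)] using h1
    · -- a double root
      obtain ⟨R, hR, hR0⟩ := eval_simple hM.nodup hμ
      have h2 : (X - C μ) * (X - C μ) ∣ tPoly ζ k S := by
        have hpj : p j = X - C μ := hij ▸ hpi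
        have hd : p i ^ e i * p j ^ e j ∣ tPoly ζ k S := by
          rw [← hM.poly, hchar, ← Finset.prod_pair hne (f := fun i => p i ^ e i)]
          exact Finset.prod_dvd_prod_of_subset _ _ _ (Finset.subset_univ _)
        rw [hpi, hpj] at hd
        exact (mul_dvd_mul (dvd_pow_self _ (by have := he i; omega)) (dvd_pow_self _ (by have := he j; omega))).trans hd
      rw [tPoly, hR, mul_left_comm] at h2
      have h3 := (mul_dvd_mul_iff_left (X_sub_C_ne_zero μ)).1 h2
      obtain ⟨q, hq⟩ := h3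
      have h4 := congrArg (Polynomial.eval μ) hq
      simp only [eval_mul, eval_pow, eval_sub, eval_X, eval_C, sub_self, zero_mul] at h4
      rcases mul_eq_zero.1 h4 with h | h
      · exact hM.notMem (sub_eq_zero.1 (eq_zero_of_pow_eq_zero h) ▸ hμ)
      · exact hR0 h
  have hcop : Pairwise (Function.onFun IsCoprime fun i => p i ^ e i) := fun i j hne => by
    refine IsCoprime.pow ((hi i).coprime_iff_not_dvd.2 fun h => hne (hinj i j ?_))
    exact eq_of_monic_of_associated (hp i) (hp j) ((hi i).associated_of_dvd (hi j) h)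
  let w : Fin n → F := Ψ.symm 1
  have hann : ∀ g : F[X], aeval M g *ᵥ w = 0 → M.charpoly ∣ g := fun g hg => by
    rw [hchar]
    refine Finset.prod_dvd_of_coprime (fun i _ j _ h => hcop h) fun i _ => ?_
    rw [← AdjoinRoot.mk_eq_zero]
    have h1 := HasForm.aeval hΨ g w i
    rw [hg, map_zero, LinearEquiv.apply_symm_apply, Pi.one_apply, mul_one] at h1
    exact h1.symm
  have hdeg : M.charpoly.natDegree = n := by rw [M.charpoly_natDegree_eq_dim, Fintype.card_fin]
  have hli : LinearIndependent F fun i : Fin n => (M ^ (i : ℕ)) *ᵥ w := by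
    rw [Fintype.linearIndependent_iff]
    intro c hc i
    let g : F[X] := ∑ j : Fin n, C (c j) * X ^ (j : ℕ)
    have hg : aeval M g *ᵥ w = 0 := by
      rw [← hc, map_sum, Matrix.sum_mulVec]
      exact Finset.sum_congr rfl fun j _ => by
        rw [map_mul, aeval_C, map_pow, aeval_X, Algebra.algebraMap_eq_smul_one, Matrix.smul_mul, Matrix.one_mul,
          Matrix.smul_mulVec]
    have h0 : g = 0 := by
      refine eq_zero_of_dvd_of_degree_lt (hann g hg) ?_
      rw [degree_eq_natDegree M.charpoly_monic.ne_zero, hdeg]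
      exact degree_sum_fin_lt c
    have := congrArg (fun q => q.coeff i) h0
    simpa [g, finsetSum_coeff, coeff_C_mul_X_pow, Fin.val_inj, Finset.sum_ite_eq] using this
  refine cyclic_sim M w ?_ (tPoly_monic _ _ _) (by rw [← hM.poly, hdeg, Fintype.card_fin]) (by
    rw [← hM.poly, Matrix.aeval_self_charpoly, Matrix.zero_mulVec])
  rw [Cyc, eq_top_iff, ← hli.span_eq_top_of_card_eq_finrank' (by rw [Fintype.card_fin, Module.finrank_fin_fun])]
  exact Submodule.span_mono fun _ ⟨i, hi⟩ => ⟨(i : ℕ), hi⟩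

theorem IsT.sim_rt {ζ : F} {k : ℕ} {S : List F} {M : Matrix ι ι F} (hM : IsT ζ k S M) :
    Sim (rt (tPoly ζ k S)) (Matrix.toLin' M) :=
  ((hM.of_msim (msim_reindex (Fintype.equivFin ι) M)).sim_rt_fin).trans (msim_reindex _ M).symm

/-- A target class is one similarity class. -/
theorem IsT.msim {ζ : F} {k : ℕ} {S : List F} {M : Matrix ι ι F} {N : Matrix κ κ F} (hM : IsT ζ k S M)
    (hN : IsT ζ k S N) : MSim M N :=
  Sim.trans (Sim.symm hM.sim_rt) hN.sim_rt

/-- A simple eigenvalue in front, the row below free. -/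
theorem IsT.cons_lower {ζ t : F} {k : ℕ} {S : List F} {A : Matrix ι ι F} (hA : IsT ζ k S A) (ht : t ∉ S)
    (htζ : t ≠ ζ) (w : Matrix ι Unit F) : IsT ζ k (t :: S) (Matrix.fromBlocks (t • 1 : Matrix Unit Unit F) 0 w A) := by
  refine ⟨List.nodup_cons.2 ⟨ht, hA.nodup⟩, fun h => (List.mem_cons.1 h).elim (fun e => htζ e.symm) hA.notMem, ?_,
    fun z z' hz hz' h0 => ?_⟩
  · rw [Matrix.charpoly_fromBlocks_zero₁₂, hA.poly, tPoly, tPoly, List.map_cons, List.prod_cons, mul_left_comm]
    congr 1
    rw [Matrix.charpoly, Matrix.det_unique, Matrix.charmatrix_apply_eq]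
    simp
  · have key : ∀ y : Unit ⊕ ι → F, Matrix.fromBlocks (t • 1 : Matrix Unit Unit F) 0 w A *ᵥ y = ζ • y →
        y (Sum.inl ()) = 0 ∧ A *ᵥ (y ∘ Sum.inr) = ζ • (y ∘ Sum.inr) := fun y hy => by
      have h1 := congrFun hy (Sum.inl ())
      simp [Matrix.fromBlocks_mulVec, Matrix.mulVec, dotProduct] at h1
      have h2 : y (Sum.inl ()) = 0 := by
        rcases h1 with h | h
        exacts [absurd h htζ, h]
      refine ⟨h2, funext fun i => ?_⟩
      have h3 := congrFun hy (Sum.inr i)
      simp [Matrix.fromBlocks_mulVec, Matrix.mulVec, dotProduct, h2] at h3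
      simpa [Matrix.mulVec, dotProduct] using h3
    obtain ⟨a, b⟩ := key z hz
    obtain ⟨a', b'⟩ := key z' hz'
    obtain ⟨c, hc⟩ := hA.ker _ _ b b' (fun h => h0 (funext fun x => by
      rcases x with ⟨⟩ | i
      exacts [a, congrFun h i]))
    refine ⟨c, funext fun x => ?_⟩
    rcases x with ⟨⟩ | i
    · simp [a, a']
    · exact congrFun hc i

/-- A simple eigenvalue in front, the row to the right free. -/
theorem IsT.cons_upper {ζ t : F} {k : ℕ} {S : List F} {A : Matrix ι ι F} (hA : IsT ζ k S A) (ht : t ∉ S)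
    (htζ : t ≠ ζ) (r : Matrix Unit ι F) : IsT ζ k (t :: S) (Matrix.fromBlocks (t • 1 : Matrix Unit Unit F) r 0 A) := by
  refine ⟨List.nodup_cons.2 ⟨ht, hA.nodup⟩, fun h => (List.mem_cons.1 h).elim (fun e => htζ e.symm) hA.notMem, ?_,
    fun z z' hz hz' h0 => ?_⟩
  · rw [Matrix.charpoly_fromBlocks_zero₂₁, hA.poly, tPoly, tPoly, List.map_cons, List.prod_cons, mul_left_comm]
    congr 1
    rw [Matrix.charpoly, Matrix.det_unique, Matrix.charmatrix_apply_eq]
    simp
  · have key : ∀ y : Unit ⊕ ι → F, Matrix.fromBlocks (t • 1 : Matrix Unit Unit F) r 0 A *ᵥ y = ζ • y →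
        (t - ζ) * y (Sum.inl ()) = -(r *ᵥ (y ∘ Sum.inr)) () ∧ A *ᵥ (y ∘ Sum.inr) = ζ • (y ∘ Sum.inr) := fun y hy => by
      refine ⟨?_, funext fun i => ?_⟩
      · have h1 := congrFun hy (Sum.inl ())
        simp [Matrix.fromBlocks_mulVec, Matrix.mulVec, dotProduct] at h1 ⊢
        linear_combination h1
      · have h3 := congrFun hy (Sum.inr i)
        simp [Matrix.fromBlocks_mulVec, Matrix.mulVec, dotProduct] at h3
        simpa [Matrix.mulVec, dotProduct] using h3
    obtain ⟨a, b⟩ := key z hz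
    obtain ⟨a', b'⟩ := key z' hz'
    obtain ⟨c, hc⟩ := hA.ker _ _ b b' (fun h => h0 (funext fun x => by
      rcases x with ⟨⟩ | i
      · rw [h, Matrix.mulVec_zero] at a
        simpa [sub_eq_zero, htζ] using a
      · exact congrFun h i))
    refine ⟨c, funext fun x => ?_⟩
    rcases x with ⟨⟩ | i
    · rw [hc, Matrix.mulVec_smul, Pi.smul_apply, smul_eq_mul] at a'
      exact mul_left_cancel₀ (sub_ne_zero.2 htζ) (by simp only [Pi.smul_apply, smul_eq_mul]; linear_combination a' - c * a)
    · exact congrFun hc i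

end Cfsg.Lib.Linear.PSLCover
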