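import Cfsg.Agent.Lib.Linear.PSLCover.Pair

/-!
# Four factors for a cyclic matrix of size at least four

Two members of the target class give every nonscalar matrix and, as the class is closed under
inversion in determinant one, the identity.
-/

set_option autoImplicit false
set_option linter.unusedSectionVars false
set_option linter.unusedSimpArgs false

universe u

namespace Cfsg.Lib.Linear.PSLCover

open Polynomial
open Cfsg.Lib.Linear.SLComm (dv)
open scoped Matrix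

variable {F : Type u} [Field F] [Fintype F] {m : ℕ}

/-- Avoid two values and a square. -/
theorem exists_avoid_sq (hq : 4 ≤ Fintype.card F) (p p' c : F) : ∃ v : F, v ≠ p ∧ v ≠ p' ∧ v ^ 2 ≠ c := by
  classical
  by_contra h
  push Not at h
  set T := ((Finset.univ : Finset F).erase p).erase p' with hT
  have hc : Fintype.card F ≤ T.card + 2 := by
    have h1 := Finset.pred_card_le_card_erase (a := p') (s := (Finset.univ : Finset F).erase p)
    have h2 := Finset.card_erase_of_mem (Finset.mem_univ p)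
    rw [Finset.card_univ] at h2
    rw [hT]
    omega
  have hmem : ∀ x ∈ T, x ^ 2 = c := fun x hx => h x (by simp [hT] at hx; exact hx.2) (by simp [hT] at hx; exact hx.1)
  obtain ⟨x, hx⟩ : T.Nonempty := Finset.card_pos.1 (by omega)
  have hsub : T ⊆ {x, -x} := fun y hy => by
    rw [Finset.mem_insert, Finset.mem_singleton]
    exact sq_eq_sq_iff_eq_or_eq_neg.1 ((hmem y hy).trans (hmem x hx).symm)
  have h2 : T.card ≤ 2 := (Finset.card_le_card hsub).trans Finset.card_le_two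
  have h4 : Fintype.card F = 4 := by omega
  have hone : T ⊆ {x} := fun y hy => by
    rw [Finset.mem_singleton, ← FiniteField.pow_card y, ← FiniteField.pow_card x, h4, show (4 : ℕ) = 2 * 2 from rfl,
      pow_mul, pow_mul, hmem y hy, hmem x hx]
  have := Finset.card_le_card hone
  simp at this
  omega

theorem shape_charpoly {a : ℕ → F} {M : Matrix (Fin (m + 1)) (Fin (m + 1)) F} (hS : Shape a M) :
    M.charpoly = (X - C (-1)) ^ m * (X - C (M (Fin.last m) (Fin.last m))) := by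
  rw [← Matrix.charpoly_transpose, Matrix.charpoly_of_upperTriangular M.transpose (fun i j h => hS.tri j i (by simpa using h)),
    Fin.prod_univ_castSucc, Finset.prod_congr rfl (g := fun _ => X - C (-1 : F))
      (fun i _ => by rw [Matrix.transpose_apply, hS.diag _ (by simp)]), Finset.prod_const, Finset.card_univ,
    Fintype.card_fin, Matrix.transpose_apply]

theorem shape_ker_aux {a : ℕ → F} {M : Matrix (Fin (m + 1)) (Fin (m + 1)) F} (hm : 1 ≤ m) (hS : Shape a M)
    (ha : ∀ j, j + 1 < m → a j ≠ 0) (hz : ∀ i j : Fin (m + 1), (i : ℕ) < m → (j : ℕ) + 1 < i → M i j = 0)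
    {z : Fin (m + 1) → F} (h : M *ᵥ z = (-1 : F) • z) :
    (∀ i : Fin (m + 1), (i : ℕ) + 1 < m → z i = 0) ∧
      M (Fin.last m) ⟨m - 1, by omega⟩ * z ⟨m - 1, by omega⟩ + (M (Fin.last m) (Fin.last m) + 1) * z (Fin.last m) = 0 := by
  have hzero : ∀ i : Fin (m + 1), (i : ℕ) + 1 < m → z i = 0 := fun i hi => by
    have h1 := congrFun h ⟨(i : ℕ) + 1, by omega⟩
    rw [Matrix.mulVec, dotProduct, Finset.sum_eq_add i ⟨(i : ℕ) + 1, by omega⟩
      (fun e => by have := congrArg Fin.val e; simp at this) (fun b _ hb => ?_) (by simp) (by simp),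
      hS.sub ⟨(i : ℕ) + 1, by omega⟩ i rfl hi, hS.diag ⟨(i : ℕ) + 1, by omega⟩ hi, Pi.smul_apply, smul_eq_mul] at h1
    · have h2 : a i * z i = 0 := by linear_combination h1
      exact (mul_eq_zero.1 h2).resolve_left (ha _ hi)
    · have e1 : (b : ℕ) ≠ i := fun e => hb.1 (Fin.ext e)
      have e2 : (b : ℕ) ≠ (i : ℕ) + 1 := fun e => hb.2 (Fin.ext (by simpa using e))
      rcases Nat.lt_or_ge ((i : ℕ) + 1) b with h3 | h3
      · rw [hS.tri _ b (by simpa using h3), zero_mul]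
      · rw [hz _ b (by simp; omega) (by simp; omega), zero_mul]
  refine ⟨hzero, ?_⟩
  have h1 := congrFun h (Fin.last m)
  rw [Matrix.mulVec, dotProduct, Finset.sum_eq_add (⟨m - 1, by omega⟩ : Fin (m + 1)) (Fin.last m)
    (fun e => by have := congrArg Fin.val e; simp at this; omega) (fun b _ hb => ?_) (by simp) (by simp),
    Pi.smul_apply, smul_eq_mul] at h1
  · linear_combination h1
  · have e1 : (b : ℕ) ≠ m - 1 := fun e => hb.1 (Fin.ext e)
    have e2 : (b : ℕ) ≠ m := fun e => hb.2 (Fin.ext (by simpa using e))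
    rw [hzero b (by omega), mul_zero]

theorem isT_simple {a : ℕ → F} {M : Matrix (Fin (m + 1)) (Fin (m + 1)) F} (hm : 1 ≤ m) (hS : Shape a M)
    (ha : ∀ j, j + 1 < m → a j ≠ 0) (hz : ∀ i j : Fin (m + 1), (i : ℕ) < m → (j : ℕ) + 1 < i → M i j = 0)
    (ht : M (Fin.last m) (Fin.last m) ≠ -1) : IsT (-1) m [M (Fin.last m) (Fin.last m)] M := by
  refine ⟨List.nodup_singleton _, by simpa using Ne.symm ht,
    by rw [shape_charpoly hS, tPoly, List.map_singleton, List.prod_singleton], fun z z' h h' h0 => ?_⟩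
  obtain ⟨k1, k2⟩ := shape_ker_aux hm hS ha hz h
  obtain ⟨k1', k2'⟩ := shape_ker_aux hm hS ha hz h'
  have ht1 : M (Fin.last m) (Fin.last m) + 1 ≠ 0 := fun e => ht (eq_neg_of_add_eq_zero_left e)
  have hv : z ⟨m - 1, by omega⟩ ≠ 0 := fun e => h0 (funext fun i => by
    rcases Nat.lt_or_ge ((i : ℕ) + 1) m with hi | hi
    · exact k1 i hi
    · rcases eq_or_ne (i : ℕ) m with him | him
      · rw [e, mul_zero, zero_add] at k2
        rw [show i = Fin.last m from Fin.ext him]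
        exact (mul_eq_zero.1 k2).resolve_left ht1
      · rw [show i = ⟨m - 1, by omega⟩ from Fin.ext (by simp; omega)]; exact e)
  obtain ⟨c, hc⟩ : ∃ c, z' ⟨m - 1, by omega⟩ = c * z ⟨m - 1, by omega⟩ := ⟨_, (div_mul_cancel₀ _ hv).symm⟩
  refine ⟨c, funext fun i => ?_⟩
  rw [Pi.smul_apply, smul_eq_mul]
  rcases Nat.lt_or_ge ((i : ℕ) + 1) m with hi | hi
  · rw [k1 i hi, k1' i hi, mul_zero]
  · rcases eq_or_ne (i : ℕ) m with him | him
    · rw [show i = Fin.last m from Fin.ext him]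
      rw [hc] at k2'
      exact mul_left_cancel₀ ht1 (by linear_combination k2' - c * k2)
    · rw [show i = ⟨m - 1, by omega⟩ from Fin.ext (by simp; omega)]; exact hc

theorem isT_pure {a : ℕ → F} {M : Matrix (Fin (m + 1)) (Fin (m + 1)) F} (hm : 1 ≤ m) (hS : Shape a M)
    (ha : ∀ j, j + 1 < m → a j ≠ 0) (hz : ∀ i j : Fin (m + 1), (i : ℕ) < m → (j : ℕ) + 1 < i → M i j = 0)
    (ht : M (Fin.last m) (Fin.last m) = -1) (hb : M (Fin.last m) ⟨m - 1, by omega⟩ ≠ 0) :
    IsT (-1) (m + 1) [] M := by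
  refine ⟨List.nodup_nil, by simp, by rw [shape_charpoly hS, ht, tPoly, List.map_nil, List.prod_nil, mul_one, pow_succ],
    fun z z' h h' h0 => ?_⟩
  have key : ∀ y, M *ᵥ y = (-1 : F) • y → ∀ i : Fin (m + 1), (i : ℕ) < m → y i = 0 := fun y hy i hi => by
    obtain ⟨k1, k2⟩ := shape_ker_aux hm hS ha hz hy
    rcases Nat.lt_or_ge ((i : ℕ) + 1) m with hi' | hi'
    · exact k1 i hi'
    · rw [ht, neg_add_cancel, zero_mul, add_zero] at k2
      rw [show i = ⟨m - 1, by omega⟩ from Fin.ext (by simp; omega)]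
      exact (mul_eq_zero.1 k2).resolve_left hb
  have hl : z (Fin.last m) ≠ 0 := fun e => h0 (funext fun i => by
    rcases Nat.lt_or_ge (i : ℕ) m with hi | hi
    · exact key z h i hi
    · rw [show i = Fin.last m from Fin.ext (by simp; omega)]; exact e)
  refine ⟨z' (Fin.last m) / z (Fin.last m), funext fun i => ?_⟩
  rw [Pi.smul_apply, smul_eq_mul]
  rcases Nat.lt_or_ge (i : ℕ) m with hi | hi
  · rw [key z h i hi, key z' h' i hi, mul_zero]
  · rw [show i = Fin.last m from Fin.ext (by simp; omega), div_mul_cancel₀ _ hl]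

/-- The Krylov determinant of the nilpotent part. -/
theorem krylov_pure {a : ℕ → F} {M : Matrix (Fin (m + 1)) (Fin (m + 1)) F} (hS : Shape a M)
    (ht : M (Fin.last m) (Fin.last m) = -1) :
    (krylov (M + 1) (Pi.single 0 1)).det =
      ∏ j : Fin (m + 1), ∏ l ∈ Finset.range (j : ℕ),
        if h : l + 1 < m + 1 then M ⟨l + 1, h⟩ ⟨l, by omega⟩ else 0 := by
  have hN : ∀ i b : Fin (m + 1), (i : ℕ) ≤ b → (M + 1) i b = 0 := fun i b h => by
    rcases eq_or_ne i b with rfl | hne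
    · rw [Matrix.add_apply, Matrix.one_apply_eq]
      rcases Nat.lt_or_ge (i : ℕ) m with h' | h'
      · rw [hS.diag i h']; ring
      · rw [show i = Fin.last m from Fin.ext (by simp; omega), ht]; ring
    · rw [Matrix.add_apply, Matrix.one_apply_ne hne, hS.tri i b (lt_of_le_of_ne h (fun e => hne (Fin.ext e))), add_zero]
  have key : ∀ j : ℕ, ∀ i : Fin (m + 1), ((i : ℕ) < j → ((M + 1) ^ j *ᵥ Pi.single 0 1) i = 0) ∧
      ((i : ℕ) = j → ((M + 1) ^ j *ᵥ Pi.single 0 1) i =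
        ∏ l ∈ Finset.range j, if h : l + 1 < m + 1 then M ⟨l + 1, h⟩ ⟨l, by omega⟩ else 0) := by
    intro j
    induction j with
    | zero =>
      intro i
      refine ⟨fun h => absurd h (Nat.not_lt_zero _), fun h => ?_⟩
      rw [pow_zero, Matrix.one_mulVec, show i = 0 from Fin.ext h, Pi.single_eq_same, Finset.prod_range_zero]
    | succ j ih =>
      intro i
      have hterm : ∀ b : Fin (m + 1), (i : ℕ) ≤ j + 1 → ((b : ℕ) ≠ j ∨ (i : ℕ) ≤ j) →
          (M + 1) i b * ((M + 1) ^ j *ᵥ Pi.single 0 1) b = 0 := fun b hi hb => by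
        rcases Nat.lt_or_ge (b : ℕ) j with h | h
        · rw [(ih b).1 h, mul_zero]
        · rw [hN i b (by omega), zero_mul]
      rw [pow_succ', ← Matrix.mulVec_mulVec, Matrix.mulVec, dotProduct]
      refine ⟨fun h => Finset.sum_eq_zero fun b _ => hterm b (by omega) (Or.inr (by omega)), fun h => ?_⟩
      rw [Finset.sum_eq_single (⟨j, by omega⟩ : Fin (m + 1))
        (fun b _ hb => hterm b (by omega) (Or.inl (fun e => hb (Fin.ext e)))) (by simp), (ih _).2 rfl,
        Finset.prod_range_succ, dif_pos (show j + 1 < m + 1 by omega), Matrix.add_apply,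
        Matrix.one_apply_ne (fun e => by have := congrArg Fin.val e; simp at this; omega), add_zero,
        mul_comm]
      obtain ⟨iv, hiv⟩ := i
      simp only at h
      subst h
      rfl
  rw [Matrix.det_of_lowerTriangular (krylov (M + 1) (Pi.single 0 1))
    (fun i j h => (key ((j : Fin (m + 1)) : ℕ) i).1 (by simpa using h))]
  exact Finset.prod_congr rfl fun j _ => (key (j : ℕ) j).2 rfl

/-- Pure targets of every twist. -/
theorem exists_pure (hq : 4 ≤ Fintype.card F) {f : F[X]} (hf : f.Monic) (hdeg : f.natDegree = m + 1)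
    (h0 : f.coeff 0 ≠ 0) (hm : 3 ≤ m) (ht : (-1) ^ m * dv f ^ 2 = -1) (D : F) (hD : D ≠ 0) :
    ∃ (a : ℕ → F) (M : Matrix (Fin (m + 1)) (Fin (m + 1)) F) (s : F), IsT (-1) (m + 1) [] M ∧
      SSim (M * compInv f (m + 1)) (SLComm.comp f (m + 1)) ∧
      Spread [M * compInv f (m + 1), SLComm.comp f (m + 1)] ∧
      (krylov (M + 1) (s • Pi.single 0 1)).det = D ∧ Shape a M := by
  set S := -f.coeff m - f.coeff 1 / f.coeff 0 with hSdef
  obtain ⟨v, hv0, hv1, hv2⟩ := exists_avoid_sq hq 0 (S - ((m - 3 : ℕ) : F)) (-D⁻¹)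
  have hden : 1 + D * v ^ 2 ≠ 0 := fun e => hv2 (by
    field_simp
    linear_combination e)
  obtain ⟨u, hu⟩ : ∃ u, u = (S - ((m - 3 : ℕ) : F) - v) / (1 + D * v ^ 2) := ⟨_, rfl⟩
  have hu0 : u ≠ 0 := by
    rw [hu]; exact div_ne_zero (fun e => hv1 (sub_eq_zero.1 e).symm) hden
  let a : ℕ → F := fun j => if j = 0 then u else if j = 1 then v else 1
  have ha : ∀ j, j + 1 < m → a j ≠ 0 := fun j _ => by
    show (if j = 0 then u else if j = 1 then v else 1) ≠ 0
    split_ifs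
    exacts [hu0, hv0, one_ne_zero]
  obtain ⟨M, hS, hss, hz, ht', hb⟩ := exists_member hf hdeg h0 (by omega) a
  rw [ht] at ht'
  have hsum : ∑ j ∈ Finset.range (m - 1), a j = u + v + ((m - 3 : ℕ) : F) := by
    rw [show m - 1 = (m - 3) + 1 + 1 by omega, Finset.sum_range_succ', Finset.sum_range_succ']
    simp [a]
    ring
  have hbval : M (Fin.last m) ⟨m - 1, by omega⟩ = D * u * v ^ 2 := by
    rw [hb, hsum, ← hSdef, eq_comm]
    have h1 : u * (1 + D * v ^ 2) = S - ((m - 3 : ℕ) : F) - v := by rw [hu, div_mul_cancel₀ _ hden]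
    linear_combination h1
  have hb0 : M (Fin.last m) ⟨m - 1, by omega⟩ ≠ 0 := by
    rw [hbval]; exact mul_ne_zero (mul_ne_zero hD hu0) (pow_ne_zero _ hv0)
  refine ⟨a, M, (u * v)⁻¹, isT_pure (by omega) hS ha hz ht' hb0, hss,
    spread_member hf hdeg h0 (by omega) hS ha hz (Or.inl ⟨ht', hb0⟩), ?_, hS⟩
  rw [krylov_smul, Matrix.det_smul, Fintype.card_fin, krylov_pure hS ht']
  have hsubv : ∀ l : ℕ, (h : l + 1 < m) → M ⟨l + 1, by omega⟩ ⟨l, by omega⟩ = a l := fun l h =>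
    hS.sub _ _ rfl h
  obtain ⟨k, rfl⟩ : ∃ k, m = k + 3 := ⟨m - 3, by omega⟩
  have hP : ∀ j, 2 ≤ j → j ≤ k + 2 →
      (∏ l ∈ Finset.range j, if h : l + 1 < k + 3 + 1 then M ⟨l + 1, h⟩ ⟨l, by omega⟩ else 0) = u * v := by
    intro j hj
    induction j, hj using Nat.le_induction with
    | base =>
      intro _
      rw [Finset.prod_range_succ, Finset.prod_range_succ, Finset.prod_range_zero, one_mul, dif_pos (by omega),
        dif_pos (by omega), hsubv 0 (by omega), hsubv 1 (by omega)]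
      rfl
    | succ j hj ih =>
      intro hj'
      rw [Finset.prod_range_succ, ih (by omega), dif_pos (by omega), hsubv j (by omega),
        show a j = 1 by simp [a, show j ≠ 0 by omega, show j ≠ 1 by omega], mul_one]
  rw [Fin.prod_univ_castSucc, Fin.prod_univ_succ, Fin.prod_univ_succ]
  rw [Finset.prod_congr rfl (g := fun _ => u * v) (fun i _ => hP _ (by simp) (by simp; omega)), Finset.prod_const,
    Finset.card_univ, Fintype.card_fin]
  simp only [Fin.val_castSucc, Fin.val_zero, Finset.prod_range_zero, one_mul, Fin.val_succ, zero_add,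
    Finset.prod_range_one, Fin.val_last]
  rw [dif_pos (by omega), hsubv 0 (by omega), Finset.prod_range_succ, hP _ (by omega) le_rfl, dif_pos (by omega)]
  rw [show (⟨k + 2 + 1, _⟩ : Fin (k + 3 + 1)) = Fin.last (k + 3) from Fin.ext rfl,
    show M (Fin.last (k + 3)) ⟨k + 2, by omega⟩ = D * u * v ^ 2 from hbval]
  simp only [a, if_pos]
  rw [inv_pow]
  field_simp
  ring

/-- Simple targets. -/
theorem exists_simple (hq : 4 ≤ Fintype.card F) {f : F[X]} (hf : f.Monic) (hdeg : f.natDegree = m + 1)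
    (h0 : f.coeff 0 ≠ 0) (hm : 3 ≤ m) (ht : (-1) ^ m * dv f ^ 2 ≠ -1) :
    ∃ M : Matrix (Fin (m + 1)) (Fin (m + 1)) F, IsT (-1) m [(-1) ^ m * dv f ^ 2] M ∧
      SSim (M * compInv f (m + 1)) (SLComm.comp f (m + 1)) ∧
      Spread [M * compInv f (m + 1), SLComm.comp f (m + 1)] := by
  set t := (-1) ^ m * dv f ^ 2 with htdef
  have ht0 : t ≠ 0 := mul_ne_zero (pow_ne_zero _ (neg_ne_zero.2 one_ne_zero))
    (pow_ne_zero _ (mul_ne_zero (pow_ne_zero _ (neg_ne_zero.2 one_ne_zero)) h0))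
  set S := -f.coeff m - f.coeff 1 / f.coeff 0 with hSdef
  obtain ⟨b, hb1, -, hb2⟩ := exists_avoid_sq hq (S - ((m - 2 : ℕ) : F)) (S - ((m - 2 : ℕ) : F)) ((t + 1) ^ 2 / t)
  let a : ℕ → F := fun j => if j = 0 then S - ((m - 2 : ℕ) : F) - b else 1
  have ha : ∀ j, j + 1 < m → a j ≠ 0 := fun j _ => by
    show (if j = 0 then S - ((m - 2 : ℕ) : F) - b else 1) ≠ 0
    split_ifs
    exacts [fun e => hb1 (sub_eq_zero.1 e).symm, one_ne_zero]
  obtain ⟨M, hS, hss, hz, ht', hb⟩ := exists_member hf hdeg h0 (by omega) a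
  have hsum : ∑ j ∈ Finset.range (m - 1), a j = S - ((m - 2 : ℕ) : F) - b + ((m - 2 : ℕ) : F) := by
    rw [show m - 1 = (m - 2) + 1 by omega, Finset.sum_range_succ']
    simp [a]
    ring
  have hbval : M (Fin.last m) ⟨m - 1, by omega⟩ = b := by rw [hb, hsum, ← hSdef]; ring
  refine ⟨M, ?_, hss, spread_member hf hdeg h0 (by omega) hS ha hz (Or.inr ⟨by rw [ht']; exact ht, ?_⟩)⟩
  · have := isT_simple (by omega) hS ha hz (by rw [ht']; exact ht)
    rwa [ht'] at this
  · rw [hbval, ht']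
    exact fun e => hb2 (by rw [e, mul_div_cancel_left₀ _ ht0])

theorem add_one_conj {ι : Type} [Fintype ι] [DecidableEq ι] {P Q B : Matrix ι ι F} (hPQ : P * Q = 1) :
    P * (B + 1) * Q = P * B * Q + 1 := by
  rw [Matrix.mul_add, Matrix.mul_one, Matrix.add_mul, hPQ]

theorem krylov_conj {r : ℕ} {P Q B : Matrix (Fin r) (Fin r) F} (hPQ : P * Q = 1) (e : Fin r → F) :
    krylov (P * B * Q) (P *ᵥ e) = P * krylov B e := by
  have hpow : ∀ j : ℕ, (P * B * Q) ^ j = P * B ^ j * Q := fun j => by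
    induction j with
    | zero => rw [pow_zero, pow_zero, Matrix.mul_one, hPQ]
    | succ j ih =>
      rw [pow_succ, pow_succ, ih]
      simp only [Matrix.mul_assoc]
      rw [← Matrix.mul_assoc Q P, mul_eq_one_comm.1 hPQ, Matrix.one_mul]
  ext i j
  rw [Matrix.mul_apply]
  show ((P * B * Q) ^ (j : ℕ) *ᵥ (P *ᵥ e)) i = _
  rw [hpow, Matrix.mulVec_mulVec, Matrix.mul_assoc, mul_eq_one_comm.1 hPQ, Matrix.mul_one, ← Matrix.mulVec_mulVec]
  rfl

/-- Every member of the target class is a spread pair. -/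
theorem exists_pair (hq : 4 ≤ Fintype.card F) {f : F[X]} (hf : f.Monic) (hdeg : f.natDegree = m + 1)
    (h0 : f.coeff 0 ≠ 0) (hm : 3 ≤ m) :
    ∃ (k : ℕ) (S : List F), 2 ≤ k ∧ S.Nodup ∧ (-1 : F) ∉ S ∧ (0 : F) ∉ S ∧ k + S.length = m + 1 ∧
      ((-1) ^ k * S.prod) = dv f ^ 2 ∧
      (dv f = 1 → S.map (fun t => 1 * t⁻¹) = S) ∧
      ∀ A : Matrix (Fin (m + 1)) (Fin (m + 1)) F, IsT (-1) k S A → ∃ X X' : Matrix (Fin (m + 1)) (Fin (m + 1)) F,
        SSim X (SLComm.comp f (m + 1)) ∧ SSim X' (SLComm.comp f (m + 1)) ∧ A = X * X' ∧ Spread [X, X'] := by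
  have hd0 : dv f ≠ 0 := mul_ne_zero (pow_ne_zero _ (neg_ne_zero.2 one_ne_zero)) h0
  have hfac : ∀ (M A P Q : Matrix (Fin (m + 1)) (Fin (m + 1)) F), P * Q = 1 → P.det = 1 → A = P * M * Q →
      SSim (M * compInv f (m + 1)) (SLComm.comp f (m + 1)) →
      Spread [M * compInv f (m + 1), SLComm.comp f (m + 1)] →
      ∃ X X' : Matrix (Fin (m + 1)) (Fin (m + 1)) F,
        SSim X (SLComm.comp f (m + 1)) ∧ SSim X' (SLComm.comp f (m + 1)) ∧ A = X * X' ∧ Spread [X, X'] := by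
    intro M A P Q hPQ hP he hX hsp
    have hQP := mul_eq_one_comm.1 hPQ
    refine ⟨P * (M * compInv f (m + 1)) * Q, P * SLComm.comp f (m + 1) * Q,
      SSim.trans ⟨P, Q, hPQ, hP, rfl⟩ hX, ⟨P, Q, hPQ, hP, rfl⟩, ?_, ?_⟩
    · rw [he]
      simp only [Matrix.mul_assoc]
      rw [← Matrix.mul_assoc Q P, hQP, Matrix.one_mul, ← Matrix.mul_assoc (compInv f (m + 1)),
        mul_eq_one_comm.1 (comp_mul_compInv hf hdeg h0), Matrix.one_mul]
    · exact hsp.map P Q hPQ hQP
  have hsq : ((-1 : F) ^ m) * (-1) ^ m = 1 := by rw [← pow_add]; exact Even.neg_one_pow ⟨m, rfl⟩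
  by_cases ht : (-1) ^ m * dv f ^ 2 = -1
  · refine ⟨m + 1, [], by omega, List.nodup_nil, by simp, by simp, by simp, ?_, fun _ => rfl, fun A hA => ?_⟩
    · rw [List.prod_nil, mul_one, pow_succ]
      linear_combination (-(-1 : F) ^ m) * ht + dv f ^ 2 * hsq
    obtain ⟨a₁, M₁, s₁, hM₁, -, -, hK₁, -⟩ := exists_pure hq hf hdeg h0 hm ht 1 one_ne_zero
    obtain ⟨P₁, Q₁, hPQ₁, hQP₁, he₁⟩ := (hA.msim hM₁).exists_conj
    have hP₁ : P₁.det ≠ 0 := left_ne_zero_of_mul_eq_one (by rw [← Matrix.det_mul, hPQ₁, Matrix.det_one] : P₁.det * Q₁.det = 1)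
    obtain ⟨a, M, s, hM, hX, hsp, hK, -⟩ := exists_pure hq hf hdeg h0 hm ht P₁.det hP₁
    have hkA : (krylov (A + 1) (P₁ *ᵥ (s₁ • Pi.single 0 1))).det = P₁.det := by
      rw [he₁, ← add_one_conj hPQ₁, krylov_conj hPQ₁, Matrix.det_mul, hK₁, mul_one]
    obtain ⟨P, Q, hPQ, hP, he⟩ := ssim_of_krylov (A := A + 1) (B := M + 1) (f := (A + 1).charpoly) rfl
      (charpoly_of_msim (by
        rw [he₁, ← add_one_conj hPQ₁]
        refine (msim_conj _ _ _ hPQ₁).trans ?_
        obtain ⟨P', Q', hPQ', -, he'⟩ := (hM₁.msim hM).exists_conj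
        rw [he', ← add_one_conj hPQ']
        exact msim_conj _ _ _ hPQ')).symm
      _ (s • Pi.single 0 1) (by rw [hkA]; exact hP₁) (by rw [hkA, hK])
    refine hfac M A P Q hPQ hP ?_ hX hsp
    rw [add_one_conj hPQ] at he
    exact add_right_cancel he
  · have ht' : (-1 : F) ^ m * dv f ^ 2 ≠ -1 := ht
    refine ⟨m, [(-1) ^ m * dv f ^ 2], by omega, List.nodup_singleton _, by simpa using Ne.symm ht,
      by simp [hd0], by simp, ?_, fun hd => ?_, fun A hA => ?_⟩
    · rw [List.prod_singleton, ← mul_assoc, hsq, one_mul]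
    · simp [hd, ← inv_pow]
    · obtain ⟨M, hM, hX, hsp⟩ := exists_simple hq hf hdeg h0 hm ht'
      obtain ⟨P, Q, hPQ, hP, he⟩ := hA.ssim (neg_ne_zero.2 one_ne_zero) hM
      exact hfac M A P Q hPQ hP he hX hsp

/-- **Four factors.** -/
theorem cov_comp (hq : 4 ≤ Fintype.card F) {f : F[X]} (hf : f.Monic) (hdeg : f.natDegree = m + 1)
    (h0 : f.coeff 0 ≠ 0) (hm : 3 ≤ m) : Cov 4 (SLComm.comp f (m + 1)) := by
  obtain ⟨k, S, hk, hnd, hmem, h0S, hlen, hprod, -, hpair⟩ := exists_pair hq hf hdeg h0 hm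
  intro g hg hgd
  have hF : 4 ≤ Cardinal.mk F := by rw [Cardinal.mk_fintype]; exact_mod_cast hq
  obtain ⟨A, B, hA, hB, rfl⟩ := exists_split hF (-1) (neg_ne_zero.2 one_ne_zero) S k g hk hnd hmem h0S
    (by rw [Fintype.card_fin, hlen]) hg (by rw [hgd, comp_det hf hdeg, hprod, ← pow_mul])
  obtain ⟨X, X', hX, hX', rfl, hsp⟩ := hpair A hA
  obtain ⟨Y, Y', hY, hY', rfl, -⟩ := hpair B hB
  exact ⟨[X, X', Y, Y'], rfl, by simp [hX, hX', hY, hY'], by simp [Matrix.mul_assoc],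
    hsp.mono (by simp)⟩

/-- The identity is a product of four, in determinant one. -/
theorem sprod_one_comp (hq : 4 ≤ Fintype.card F) {f : F[X]} (hf : f.Monic) (hdeg : f.natDegree = m + 1)
    (h0 : f.coeff 0 ≠ 0) (hm : 3 ≤ m) (hd : dv f = 1) :
    SProd 4 (SLComm.comp f (m + 1)) (1 : Matrix (Fin (m + 1)) (Fin (m + 1)) F) := by
  obtain ⟨k, S, hk, hnd, hmem, h0S, hlen, -, hS, hpair⟩ := exists_pair hq hf hdeg h0 hm
  obtain ⟨A, B, hA, hB, he⟩ := exists_split_scalar (-1 : F) 1 (neg_ne_zero.2 one_ne_zero) one_ne_zero S k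
    (ι := Fin (m + 1)) hnd hmem h0S (by rw [Fintype.card_fin, hlen])
  rw [hS hd, show (1 : F) * (-1)⁻¹ = -1 by rw [inv_neg, inv_one, one_mul]] at hB
  obtain ⟨X, X', hX, hX', rfl, -⟩ := hpair A hA
  obtain ⟨Y, Y', hY, hY', rfl, -⟩ := hpair B hB
  exact ⟨[X, X', Y, Y'], rfl, by simp [hX, hX', hY, hY'], by rw [one_smul] at he; rw [he]; simp [Matrix.mul_assoc]⟩

end Cfsg.Lib.Linear.PSLCover
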