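import Cfsg.Agent.Lib.Linear.PSLCover.Frame

/-!
# Two quadratic blocks

Pairs of conjugates of a quadratic block with two prescribed semisimple traces, placed crosswise, give
every nonscalar matrix of size four.
-/

set_option autoImplicit false
set_option linter.unusedSectionVars false
set_option linter.unusedSimpArgs false

universe u

namespace Cfsg.Lib.Linear.PSLCover

open scoped Matrix

variable {F : Type u} [Field F] [Fintype F]

theorem charTwo_sq (h : (2 : F) = 0) (v : F) : ∃ a, a ^ 2 = v := by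
  haveI : Fact (Nat.Prime 2) := ⟨Nat.prime_two⟩
  haveI : CharP F 2 := CharTwo.of_one_ne_zero_of_two_eq_zero one_ne_zero h
  obtain ⟨a, ha⟩ := FiniteField.isSquare_of_char_two (F := F) (by rw [ringChar.eq F 2]) v
  exact ⟨a, by rw [ha, sq]⟩

theorem exists_double {p d : F} (h : p ^ 2 = 4 * d) : ∃ y, p = 2 * y ∧ d = y ^ 2 := by
  by_cases h2 : (2 : F) = 0
  · obtain ⟨y, hy⟩ := charTwo_sq h2 d
    refine ⟨y, ?_, hy.symm⟩
    rw [show (4 : F) = 2 * 2 by norm_num, h2, zero_mul, zero_mul] at h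
    rw [h2, zero_mul, eq_zero_of_pow_eq_zero h]
  · refine ⟨p / 2, by field_simp, ?_⟩
    field_simp
    linear_combination -h

/-- The norm form of a separable quadratic takes every value. -/
theorem exists_form_value {p d : F} (h : (2 : F) = 0 ∨ p ^ 2 ≠ 4 * d) (v : F) :
    ∃ a c : F, a ^ 2 + p * a * c + d * c ^ 2 = v := by
  by_cases h2 : (2 : F) = 0
  · obtain ⟨a, ha⟩ := charTwo_sq h2 v
    exact ⟨a, 0, by rw [← ha]; ring⟩
  have hne : 4 * d - p ^ 2 ≠ 0 := sub_ne_zero.2 (Ne.symm (h.resolve_left h2))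
  have hq : Fintype.card F % 2 = 1 := by
    refine FiniteField.odd_card_of_char_ne_two fun hc => h2 ?_
    haveI : CharP F 2 := by rw [← hc]; exact ringChar.charP F
    exact CharTwo.two_eq_zero
  obtain ⟨a, c, hac⟩ := FiniteField.exists_root_sum_quadratic (R := F)
    (f := Polynomial.X ^ 2 - Polynomial.C (4 * v)) (g := Polynomial.C (4 * d - p ^ 2) * Polynomial.X ^ 2)
    (Polynomial.degree_X_pow_sub_C (by norm_num) _) (Polynomial.degree_C_mul_X_pow 2 hne) hq
  simp only [Polynomial.eval_sub, Polynomial.eval_mul, Polynomial.eval_pow, Polynomial.eval_X, Polynomial.eval_C] at hac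
  refine ⟨(a - p * c) / 2, c, ?_⟩
  field_simp
  linear_combination hac

theorem ns_of_disc {A : Matrix (Fin 2) (Fin 2) F} (h : A.trace ^ 2 ≠ 4 * A.det) : NS A := fun c hc => h (by
  rw [hc, Matrix.trace_smul, Matrix.trace_one, Matrix.det_smul, Matrix.det_one, Fintype.card_fin, smul_eq_mul]
  push_cast
  ring)

theorem msim_two {A B : Matrix (Fin 2) (Fin 2) F} (hA : NS A) (hB : NS B) (ht : A.trace = B.trace)
    (hd : A.det = B.det) : MSim A B := by
  have key : ∀ M : Matrix (Fin 2) (Fin 2) F, NS M → MSim M !![0, -M.det; 1, M.trace] := fun M hM => by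
    obtain ⟨v, hv⟩ := hM.exists_indep
    let P : Matrix (Fin 2) (Fin 2) F := (Matrix.of ![v, M *ᵥ v])ᵀ
    have hP : IsUnit P.det := by
      rw [Matrix.det_transpose, ← Matrix.isUnit_iff_isUnit_det, ← Matrix.linearIndependent_rows_iff_isUnit]
      exact hv
    refine MSim.symm (msim_iff.2 ⟨P, P⁻¹, Matrix.mul_nonsing_inv _ hP, Matrix.nonsing_inv_mul _ hP, ?_⟩)
    ext i j
    fin_cases i <;> fin_cases j <;>
      simp [P, Matrix.mul_apply, Fin.sum_univ_two, Matrix.mulVec, dotProduct, Matrix.det_fin_two, Matrix.trace_fin_two] <;>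
      ring
  exact (key A hA).trans (by rw [ht, hd]; exact (key B hB).symm)

theorem surj_two {A : Matrix (Fin 2) (Fin 2) F} (h : (2 : F) = 0 ∨ A.trace ^ 2 ≠ 4 * A.det) :
    ∀ c : F, c ≠ 0 → ∃ Z : Matrix (Fin 2) (Fin 2) F, Z.det = c ∧ Z * A = A * Z := fun c _ => by
  obtain ⟨a, b, hab⟩ := exists_form_value h c
  refine ⟨a • 1 + b • A, ?_, ?_⟩
  · rw [← hab, Matrix.det_fin_two (a • 1 + b • A), Matrix.det_fin_two A, Matrix.trace_fin_two]
    simp
    ring
  · rw [Matrix.add_mul, Matrix.mul_add, Matrix.smul_mul, Matrix.mul_smul, Matrix.one_mul, Matrix.mul_one,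
      Matrix.smul_mul, Matrix.mul_smul]

/-- A conjugate with a prescribed trace against a given matrix. -/
theorem exists_conj_trace {X Y : Matrix (Fin 2) (Fin 2) F} (hX : NS X) (hXd : X.det ≠ 0)
    (hor : X.trace ^ 2 ≠ 4 * X.det ∨ Y.trace ^ 2 = 4 * Y.det) (hY : NS Y) {σ : F}
    (hσ : ∀ y, Y.trace = 2 * y → Y.det = y ^ 2 → σ ≠ y * X.trace) :
    ∃ X', MSim X' X ∧ (X' * Y).trace = σ := by
  obtain ⟨v, hv⟩ := hY.exists_indep
  set p := X.trace with hp
  set e := X.det with he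
  set t := Y.trace with htd
  set k := Y.det with hkd
  suffices h : ∃ a b c : F, b * c = a * (p - a) - e ∧ b - k * c + t * (p - a) = σ ∧ (c ≠ 0 ∨ p ^ 2 ≠ 4 * e) by
    obtain ⟨a, b, c, hbc, htr, hns⟩ := h
    have hX0 : MSim (!![a, b; c, p - a] : Matrix (Fin 2) (Fin 2) F) X := by
      refine msim_two ?_ hX (by rw [Matrix.trace_fin_two]; simp [hp]) (by
        rw [Matrix.det_fin_two]; simp only [← he]; simp; linear_combination -hbc)
      rcases hns with hc | hpe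
      · exact fun z hz => hc (by simpa using congrFun (congrFun hz 1) 0)
      · refine ns_of_disc ?_
        rw [Matrix.trace_fin_two, Matrix.det_fin_two]
        simp
        exact fun e' => hpe (by linear_combination e' - 4 * hbc)
    have hY0 : NS (!![0, -k; 1, t] : Matrix (Fin 2) (Fin 2) F) := fun z hz => one_ne_zero (α := F)
      (by simpa using congrFun (congrFun hz 1) 0)
    obtain ⟨P, Q, hPQ, hQP, hYe⟩ := (msim_two hY hY0 (by simp [htd, Matrix.trace_fin_two])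
      (by simp [hkd, Matrix.det_fin_two])).exists_conj
    refine ⟨P * !![a, b; c, p - a] * Q, (msim_conj _ _ _ hPQ).trans hX0, ?_⟩
    rw [hYe, ← htr]
    have : P * !![a, b; c, p - a] * Q * (P * !![0, -k; 1, t] * Q) =
        P * (!![a, b; c, p - a] * !![0, -k; 1, t]) * Q := by
      simp only [Matrix.mul_assoc]
      rw [← Matrix.mul_assoc Q P, hQP, Matrix.one_mul]
    rw [this, Matrix.trace_mul_cycle, hQP, Matrix.one_mul, Matrix.trace_fin_two]
    simp [Matrix.mul_apply, Fin.sum_univ_two]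
    ring
  by_cases hsep : t ^ 2 = 4 * k
  · obtain ⟨y, hy, hy'⟩ := exists_double hsep
    have hK : σ - y * p ≠ 0 := sub_ne_zero.2 (hσ y hy hy')
    obtain ⟨c, hc⟩ : ∃ c, c = -e / (σ - y * p) := ⟨_, rfl⟩
    have hc' : c * (σ - y * p) = -e := by rw [hc, div_mul_cancel₀ _ hK]
    refine ⟨-(y * c), σ - t * p - t * (y * c) + k * c, c, ?_, by ring,
      Or.inl (by rw [hc]; exact div_ne_zero (neg_ne_zero.2 hXd) hK)⟩
    rw [hy, hy']
    linear_combination hc'
  · have hD : 4 * k - t ^ 2 ≠ 0 := sub_ne_zero.2 (Ne.symm hsep)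
    obtain ⟨K, hK⟩ : ∃ K, K = σ - t * p := ⟨_, rfl⟩
    obtain ⟨a₀, ha₀⟩ : ∃ a₀, a₀ = (2 * k * p + t * K) / (4 * k - t ^ 2) := ⟨_, rfl⟩
    obtain ⟨c₀, hc₀⟩ : ∃ c₀, c₀ = (-2 * K - t * p) / (4 * k - t ^ 2) := ⟨_, rfl⟩
    have e1 : a₀ * (4 * k - t ^ 2) = 2 * k * p + t * K := by rw [ha₀, div_mul_cancel₀ _ hD]
    have e2 : c₀ * (4 * k - t ^ 2) = -2 * K - t * p := by rw [hc₀, div_mul_cancel₀ _ hD]
    have h1 : 2 * a₀ + t * c₀ = p := mul_right_cancel₀ hD (by linear_combination 2 * e1 + t * e2)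
    have h2 : t * a₀ + 2 * k * c₀ = -K := mul_right_cancel₀ hD (by linear_combination t * e1 + 2 * k * e2)
    obtain ⟨a, c, hac⟩ := exists_form_value (p := t) (d := k) (Or.inr hsep) (a₀ ^ 2 + t * a₀ * c₀ + k * c₀ ^ 2 - e)
    refine ⟨a + a₀, σ + k * (c + c₀) - t * (p - (a + a₀)), c + c₀, ?_, by ring,
      Or.inr (hor.resolve_right hsep)⟩
    linear_combination hac + a * h1 + c * h2 + a₀ * h1 + c₀ * h2 + (c + c₀) * (-hK)

theorem sylvester {A B : Matrix (Fin 2) (Fin 2) F} (hd : A.det = B.det) (hA : A.det ≠ 0) (ht : A.trace ≠ B.trace)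
    (W : Matrix (Fin 2) (Fin 2) F) : ∃ Z, B * Z - Z * A = W := by
  let f : Matrix (Fin 2) (Fin 2) F →ₗ[F] Matrix (Fin 2) (Fin 2) F :=
    { toFun := fun Z => B * Z - Z * A
      map_add' := fun Z Z' => by simp only [Matrix.mul_add, Matrix.add_mul]; abel
      map_smul' := fun a Z => by simp only [Matrix.mul_smul, Matrix.smul_mul, RingHom.id_apply, smul_sub] }
  have ch : ∀ M : Matrix (Fin 2) (Fin 2) F, M * M = M.trace • M - M.det • 1 := fun M => by
    ext i j
    fin_cases i <;> fin_cases j <;>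
      simp [Matrix.mul_apply, Fin.sum_univ_two, Matrix.det_fin_two, Matrix.trace_fin_two] <;> ring
  have hinj : Function.Injective f := by
    refine (injective_iff_map_eq_zero f).2 fun Z hZ => ?_
    have h1 : B * Z = Z * A := sub_eq_zero.1 hZ
    have h2 : B * B * Z = Z * (A * A) := by rw [Matrix.mul_assoc, h1, ← Matrix.mul_assoc, h1, Matrix.mul_assoc]
    rw [ch B, ch A, Matrix.sub_mul, Matrix.mul_sub, Matrix.smul_mul, Matrix.mul_smul, h1, Matrix.smul_mul,
      Matrix.mul_smul, Matrix.one_mul, Matrix.mul_one, hd] at h2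
    have h3 : (B.trace - A.trace) • (Z * A) = 0 := by rw [sub_smul]; linear_combination (norm := module) h2
    have h4 := (smul_eq_zero.1 h3).resolve_left (sub_ne_zero.2 (Ne.symm ht))
    rw [← Matrix.mul_one Z, ← Matrix.mul_nonsing_inv A (isUnit_iff_ne_zero.2 hA), ← Matrix.mul_assoc, h4, Matrix.zero_mul]
  exact (LinearMap.injective_iff_surjective.1 hinj) W

theorem det_sub_two {a b : Matrix (Fin 2) (Fin 2) F} :
    (a - b).det = a.det + b.det - (a.trace * b.trace - (a * b).trace) := by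
  simp [Matrix.det_fin_two, Matrix.trace_fin_two, Matrix.mul_apply, Fin.sum_univ_two]
  ring

/-- A pair of conjugates of given representatives with product of given trace. -/
def Real2 (x y : Matrix (Fin 2) (Fin 2) F) (τ : F) : Prop :=
  ∃ a b, SSim a x ∧ SSim b y ∧ (a * b).trace = τ

theorem Real2.fact {x y P : Matrix (Fin 2) (Fin 2) F} {τ : F} (h : Real2 x y τ) (hdet : x.det = y.det)
    (hP : P.det = x.det ^ 2) (hPt : P.trace = τ) (hτ : τ ^ 2 ≠ 4 * x.det ^ 2) :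
    ∃ a b, SSim a x ∧ SSim b y ∧ P = a * b := by
  obtain ⟨a, b, ha, hb, hab⟩ := h
  have hd : (a * b).det = x.det ^ 2 := by rw [Matrix.det_mul, ha.det_eq, hb.det_eq, ← hdet, sq]
  have hne : (a * b).trace ^ 2 ≠ 4 * (a * b).det := by rw [hab, hd]; exact hτ
  have hs : SSim P (a * b) := ssim_of_msim (surj_two (Or.inr hne))
    (msim_two (ns_of_disc (by rw [hPt, hP]; exact hτ)) (ns_of_disc hne) (hPt.trans hab.symm) (hP.trans hd.symm))
  obtain ⟨S, S', hSS', hS, rfl⟩ := hs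
  refine ⟨S * a * S', S * b * S', SSim.trans ⟨S, S', hSS', hS, rfl⟩ ha, SSim.trans ⟨S, S', hSS', hS, rfl⟩ hb, ?_⟩
  simp only [Matrix.mul_assoc]
  rw [← Matrix.mul_assoc S' S, mul_eq_one_comm.1 hSS', Matrix.one_mul]

/-- One block: split a target into pairs of the two traces. -/
theorem exists_split_pairs {x y A : Matrix (Fin 2) (Fin 2) F} {τ₁ τ₂ : F} (hdet : x.det = y.det) (hx : x.det ≠ 0)
    (h₁ : Real2 x y τ₁) (h₂ : Real2 x y τ₂) (hs₁ : τ₁ ^ 2 ≠ 4 * x.det ^ 2) (hs₂ : τ₂ ^ 2 ≠ 4 * x.det ^ 2)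
    (hne : τ₂ ^ 2 ≠ τ₁ ^ 2) (hA : NS A) (hAd : A.det = x.det ^ 4) :
    ∃ P Q a b a' b', P.trace = τ₁ ∧ P.det = x.det ^ 2 ∧ Q.trace = τ₂ ∧ Q.det = x.det ^ 2 ∧ A = P * Q ∧
      SSim a x ∧ SSim b y ∧ P = a * b ∧ SSim a' x ∧ SSim b' y ∧ Q = a' * b' := by
  set d := x.det with hd
  let X₀ : Matrix (Fin 2) (Fin 2) F := !![0, -(d ^ 2); 1, τ₁]
  have hX₀t : X₀.trace = τ₁ := by simp [X₀, Matrix.trace_fin_two]
  have hX₀d : X₀.det = d ^ 2 := by simp [X₀, Matrix.det_fin_two]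
  have hdisc : X₀.trace ^ 2 ≠ 4 * X₀.det := by rw [hX₀t, hX₀d]; exact hs₁
  obtain ⟨P, hP, htr⟩ := exists_conj_trace (X := X₀) (Y := A) (σ := τ₁ * A.trace - τ₂ * d ^ 2) (ns_of_disc hdisc)
    (by rw [hX₀d]; exact pow_ne_zero _ hx) (Or.inl hdisc) hA (fun y hy hy' e => hne (by
      rw [hAd] at hy'
      rw [hy, hX₀t] at e
      have h1 : τ₂ * d ^ 2 = y * τ₁ := by linear_combination -e
      exact mul_right_cancel₀ (pow_ne_zero 4 hx) (by linear_combination (τ₂ * d ^ 2 + y * τ₁) * h1 - τ₁ ^ 2 * hy')))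
  have hPd : P.det = d ^ 2 := hP.det_eq.trans hX₀d
  have hPt : P.trace = τ₁ := by
    rw [← hX₀t, Matrix.trace_eq_neg_charpoly_coeff, Matrix.trace_eq_neg_charpoly_coeff, charpoly_of_msim hP]
  have hu : IsUnit P.det := by rw [hPd]; exact isUnit_iff_ne_zero.2 (pow_ne_zero _ hx)
  have hQd : (P⁻¹ * A).det = d ^ 2 := by
    rw [Matrix.det_mul, Matrix.det_nonsing_inv, Ring.inverse_eq_inv', hPd, hAd]
    field_simp
  have hQt : (P⁻¹ * A).trace = τ₂ := by
    have hadj : P.adjugate = P.trace • 1 - P := by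
      ext i j
      fin_cases i <;> fin_cases j <;> simp [Matrix.adjugate_fin_two, Matrix.trace_fin_two]
    rw [Matrix.inv_def, hadj, Matrix.smul_mul, Matrix.sub_mul, Matrix.smul_mul, Matrix.one_mul, Matrix.trace_smul,
      Matrix.trace_sub, Matrix.trace_smul, hPt, htr, hPd, Ring.inverse_eq_inv', smul_eq_mul, smul_eq_mul]
    field_simp
    ring
  obtain ⟨a, b, ha, hb, hab⟩ := h₁.fact hdet hPd hPt hs₁
  obtain ⟨a', b', ha', hb', hab'⟩ := h₂.fact hdet hQd hQt hs₂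
  exact ⟨P, P⁻¹ * A, a, b, a', b', hPt, hPd, hQt, hQd,
    by rw [← Matrix.mul_assoc, Matrix.mul_nonsing_inv _ hu, Matrix.one_mul], ha, hb, hab, ha', hb', hab'⟩

/-- Pair data for two blocks. -/
def Data (x₁ x₂ : Matrix (Fin 2) (Fin 2) F) : Prop :=
  ∃ (y₁ y₂ : Matrix (Fin 2) (Fin 2) F) (τx τy : F), y₁.det = x₁.det ∧ y₂.det = x₂.det ∧ y₁.trace = x₁.trace ∧
    y₂.trace = x₂.trace ∧ SSim (Matrix.fromBlocks y₁ 0 0 y₂) (Matrix.fromBlocks x₁ 0 0 x₂) ∧
    Real2 x₁ y₁ τx ∧ Real2 x₁ y₁ τy ∧ Real2 x₂ y₂ τx ∧ Real2 x₂ y₂ τy ∧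
    τx ^ 2 ≠ 4 * x₁.det ^ 2 ∧ τy ^ 2 ≠ 4 * x₁.det ^ 2 ∧ τy ^ 2 ≠ τx ^ 2 ∧ τy ≠ x₁.trace ^ 2 - 2 * x₁.det

theorem spread_of_trace {a b x y : Matrix (Fin 2) (Fin 2) F} {τ : F} (ha : SSim a x) (hb : SSim b y)
    (hd : y.det = x.det) (ht : y.trace = x.trace) (hab : (a * b).trace = τ) (hτ : τ ≠ x.trace ^ 2 - 2 * x.det) :
    Spread [a, b] := by
  refine spread_pair_of_det fun e => hτ ?_
  have tr : ∀ {m n : Matrix (Fin 2) (Fin 2) F}, SSim m n → m.trace = n.trace := fun h => by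
    rw [Matrix.trace_eq_neg_charpoly_coeff, Matrix.trace_eq_neg_charpoly_coeff, charpoly_of_msim h.msim]
  rw [det_sub_two, ha.det_eq, hb.det_eq, tr ha, tr hb, hd, ht, hab] at e
  linear_combination e

theorem corner_ssim {x₁ x₂ a b : Matrix (Fin 2) (Fin 2) F} (ha : SSim a x₁) (hb : SSim b x₂)
    (Z : Matrix (Fin 2) (Fin 2) F) :
    SSim (Matrix.fromBlocks a 0 (b * Z - Z * a) b) (Matrix.fromBlocks x₁ 0 0 x₂) :=
  (ssim_lowM a b Z).trans (ssim_blocks ha hb)

theorem corner_ssim' {x₁ x₂ a b : Matrix (Fin 2) (Fin 2) F} (ha : SSim a x₁) (hb : SSim b x₂)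
    (Z : Matrix (Fin 2) (Fin 2) F) :
    SSim (Matrix.fromBlocks a (a * Z - Z * b) 0 b) (Matrix.fromBlocks x₁ 0 0 x₂) := by
  refine SSim.trans ⟨Matrix.fromBlocks 1 (-Z) 0 1, Matrix.fromBlocks 1 Z 0 1, ?_, by simp, ?_⟩ (ssim_blocks ha hb)
  · simp [Matrix.fromBlocks_multiply]
  · simp [Matrix.fromBlocks_multiply, sub_eq_neg_add, add_comm]

theorem cov_two_quads (hq : 4 ≤ Fintype.card F) {x : Matrix (Fin 2) (Fin 2) F} (hns : NS x) (hdx : x.det ≠ 0)
    (hdata : ∀ x₁, MSim x₁ x → Data x₁ x) : Cov 4 (Matrix.fromBlocks x 0 0 x) := by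
  intro g hg hgd
  rw [Matrix.det_fromBlocks_zero₂₁] at hgd
  obtain ⟨A, V, R, G, hs, hA, hAns, hG⟩ := exists_block_pivot hq 2 2 g (by omega) le_rfl hg
    (by rw [hgd]; exact pow_ne_zero _ (mul_ne_zero hdx hdx)) (by simp) (x.det ^ 4) (pow_ne_zero _ hdx)
  have hGd : G.det = x.det ^ 4 := by
    have h1 := hs.det_eq
    rw [hgd, det_pivForm, hA, mul_pow] at h1
    exact (mul_left_cancel₀ (pow_ne_zero _ hdx) h1).symm
  obtain ⟨P, P', hPP', hP'P, rfl⟩ := hs.exists_conj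
  obtain ⟨x₁, hx₁, hX⟩ := exists_rep (X' := P' * Matrix.fromBlocks x 0 0 x * P) (x₁ := x) (x₂ := x)
    (msim_conj _ _ _ hP'P)
  obtain ⟨y₁, y₂, τx, τy, hy₁, hy₂, hy₁t, hy₂t, hY, r1x, r1y, r2x, r2y, hsx, hsy, hxy, hτ0⟩ := hdata x₁ hx₁
  have hdd : x₁.det = x.det := hx₁.det_eq
  have htt : x₁.trace = x.trace := by
    rw [Matrix.trace_eq_neg_charpoly_coeff, Matrix.trace_eq_neg_charpoly_coeff, charpoly_of_msim hx₁]
  obtain ⟨P₁, Q₁, a₁, b₁, c₁, e₁, hP₁t, hP₁d, hQ₁t, hQ₁d, hA₁, ha₁, hb₁, hP₁, hc₁, he₁, hQ₁⟩ :=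
    exists_split_pairs hy₁.symm (hdd ▸ hdx) r1x r1y hsx hsy hxy (hAns le_rfl) (by rw [hA, hdd])
  obtain ⟨P₂, Q₂, a₂, b₂, c₂, e₂, hP₂t, hP₂d, hQ₂t, hQ₂d, hG₂, ha₂, hb₂, hP₂, hc₂, he₂, hQ₂⟩ :=
    exists_split_pairs hy₂.symm hdx r2y r2x (hdd ▸ hsy) (hdd ▸ hsx) (Ne.symm hxy) hG hGd
  have hxne : τx ≠ τy := fun e => hxy (by rw [e])
  obtain ⟨Z, hZ⟩ := sylvester (A := P₁) (B := P₂) (by rw [hP₁d, hP₂d, hdd]) (by rw [hP₁d]; exact pow_ne_zero _ (hdd ▸ hdx))
    (by rw [hP₁t, hP₂t]; exact hxne) (V * P₁)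
  obtain ⟨Y, hYZ⟩ := sylvester (A := Q₂) (B := Q₁) (by rw [hQ₁d, hQ₂d, hdd]) (by rw [hQ₂d]; exact pow_ne_zero _ hdx)
    (by rw [hQ₁t, hQ₂t]; exact hxne) (Q₁ * R)
  set l := [Matrix.fromBlocks a₁ 0 (a₂ * Z - Z * a₁) a₂, Matrix.fromBlocks b₁ 0 (b₂ * Z - Z * b₁) b₂,
    Matrix.fromBlocks c₁ (c₁ * Y - Y * c₂) 0 c₂, Matrix.fromBlocks e₁ (e₁ * Y - Y * e₂) 0 e₂] with hl
  have hlX : ∀ u ∈ l, SSim u (P' * Matrix.fromBlocks x 0 0 x * P) := fun u hu => by
    refine SSim.trans ?_ hX.symm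
    simp only [hl, List.mem_cons, List.not_mem_nil, or_false] at hu
    rcases hu with rfl | rfl | rfl | rfl
    · exact corner_ssim ha₁ ha₂ Z
    · exact (corner_ssim hb₁ hb₂ Z).trans hY
    · exact corner_ssim' hc₁ hc₂ Y
    · exact (corner_ssim' he₁ he₂ Y).trans hY
  have hprod : l.prod = pivForm A V R G := by
    have h1 : Matrix.fromBlocks a₁ 0 (a₂ * Z - Z * a₁) a₂ * Matrix.fromBlocks b₁ 0 (b₂ * Z - Z * b₁) b₂ =
        Matrix.fromBlocks P₁ 0 (V * P₁) P₂ := by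
      rw [← hZ, Matrix.fromBlocks_multiply, hP₁, hP₂]
      simp only [Matrix.zero_mul, Matrix.mul_zero, add_zero, zero_add, Matrix.sub_mul, Matrix.mul_sub, Matrix.mul_assoc]
      congr 1
      all_goals abel
    have h2 : Matrix.fromBlocks c₁ (c₁ * Y - Y * c₂) 0 c₂ * Matrix.fromBlocks e₁ (e₁ * Y - Y * e₂) 0 e₂ =
        Matrix.fromBlocks Q₁ (Q₁ * R) 0 Q₂ := by
      rw [← hYZ, Matrix.fromBlocks_multiply, hQ₁, hQ₂]
      simp only [Matrix.zero_mul, Matrix.mul_zero, add_zero, zero_add, Matrix.sub_mul, Matrix.mul_sub, Matrix.mul_assoc]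
      congr 1
      all_goals abel
    rw [hl, List.prod_cons, List.prod_cons, List.prod_cons, List.prod_singleton, ← Matrix.mul_assoc, h1, h2,
      Matrix.fromBlocks_multiply, pivForm, hA₁, hG₂]
    simp only [Matrix.zero_mul, Matrix.mul_zero, add_zero, zero_add, Matrix.mul_assoc]
  have hsp₂ : Spread [a₂, b₂] := spread_of_trace ha₂ hb₂ hy₂ hy₂t (hP₂ ▸ hP₂t) (by rw [← hdd, ← htt]; exact hτ0)
  have hsp₁ : Spread [c₁, e₁] := spread_of_trace hc₁ he₁ hy₁ hy₁t (hQ₁ ▸ hQ₁t) hτ0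
  have hspread : Spread l := by
    intro K hinv heq
    have hlow : ∀ w, ∀ u ∈ [a₂, b₂], ∃ f ∈ l, (fun i => (w ᵥ* f) (Sum.inr i)) =
        (fun i => w (Sum.inr i)) ᵥ* u := fun w u hu => by
      simp only [List.mem_cons, List.not_mem_nil, or_false] at hu
      rcases hu with rfl | rfl <;>
        [refine ⟨_, List.mem_cons_self, ?_⟩; refine ⟨_, List.mem_cons_of_mem _ List.mem_cons_self, ?_⟩] <;>
        (funext i; simp [Matrix.vecMul_fromBlocks]; rfl)
    have hup : ∀ w, ∀ u ∈ [c₁, e₁], ∃ f ∈ l, (fun i => (w ᵥ* f) (Sum.inl i)) =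
        (fun i => w (Sum.inl i)) ᵥ* u := fun w u hu => by
      simp only [List.mem_cons, List.not_mem_nil, or_false] at hu
      rcases hu with rfl | rfl <;>
        [refine ⟨_, List.mem_cons_of_mem _ (List.mem_cons_of_mem _ List.mem_cons_self), ?_⟩;
         refine ⟨_, List.mem_cons_of_mem _ (List.mem_cons_of_mem _ (List.mem_cons_of_mem _ List.mem_cons_self)), ?_⟩] <;>
        (funext i; simp [Matrix.vecMul_fromBlocks]; rfl)
    have gen : ∀ (side : Fin 2 → Fin 2 ⊕ Fin 2) (us : List (Matrix (Fin 2) (Fin 2) F)), Spread us →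
        (∀ w, ∀ u ∈ us, ∃ f ∈ l, (fun i => (w ᵥ* f) (side i)) = (fun i => w (side i)) ᵥ* u) →
        ∀ w ∈ K, ∀ i, w (side i) = 0 := by
      intro side us hus h w hw i
      have hb := hus (K.map (LinearMap.funLeft F F side)) (fun u hu v hv => by
          obtain ⟨w, hw, rfl⟩ := hv
          obtain ⟨f, hf, he⟩ := h w u hu
          exact ⟨w ᵥ* f, hinv f hf w hw, he⟩)
        (fun u hu u' hu' v hv => by
          obtain ⟨w, hw, rfl⟩ := hv
          obtain ⟨f, hf, he⟩ := h w u hu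
          obtain ⟨f', hf', he'⟩ := h w u' hu'
          show (fun i => w (side i)) ᵥ* u = (fun i => w (side i)) ᵥ* u'
          rw [← he, ← he', heq f hf f' hf' w hw])
      have h1 : LinearMap.funLeft F F side w ∈ K.map (LinearMap.funLeft F F side) := ⟨w, hw, rfl⟩
      rw [hb, Submodule.mem_bot] at h1
      exact congrFun h1 i
    refine (Submodule.eq_bot_iff K).2 fun w hw => funext fun i => ?_
    rcases i with i | i
    · exact gen Sum.inl _ hsp₁ hup w hw i
    · exact gen Sum.inr _ hsp₂ hlow w hw i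
  refine ⟨l.map fun u => P * u * P', by simp [hl], fun u hu => ?_, by rw [prod_map_conj P P' hPP' hP'P, hprod],
    hspread.map P P' hPP' hP'P⟩
  obtain ⟨u', hu', rfl⟩ := List.mem_map.1 hu
  have h1 := ssim_map P P' hPP' hP'P (hlX u' hu')
  simp only [← Matrix.mul_assoc] at h1
  rw [hPP', Matrix.one_mul, Matrix.mul_assoc _ P P', hPP', Matrix.mul_one] at h1
  exact h1

/-- Upper Jordan block with a given entry. -/
def jq (β a : F) : Matrix (Fin 2) (Fin 2) F := !![β, a; 0, β]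

theorem ssim_jq_scale (β a r : F) (hr : r ≠ 0) : SSim (jq β (r ^ 2 * a)) (jq β a) := by
  refine ⟨!![r, 0; 0, r⁻¹], !![r⁻¹, 0; 0, r], ?_, by simp [Matrix.det_fin_two, hr], ?_⟩
  · ext i j
    fin_cases i <;> fin_cases j <;> simp [Matrix.mul_apply, Fin.sum_univ_two, hr]
  · ext i j
    fin_cases i <;> fin_cases j <;> simp [jq, Matrix.mul_apply, Fin.sum_univ_two, hr] <;> field_simp

theorem ssim_jq_low (β w : F) : SSim !![β, 0; w, β] (jq β (-w)) := by
  refine ⟨!![0, 1; -1, 0], !![0, -1; 1, 0], ?_, by simp [Matrix.det_fin_two], ?_⟩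
  · ext i j
    fin_cases i <;> fin_cases j <;> simp [Matrix.mul_apply, Fin.sum_univ_two]
  · ext i j
    fin_cases i <;> fin_cases j <;> simp [jq, Matrix.mul_apply, Fin.sum_univ_two]

/-- The data exist. -/
theorem exists_data (hq : 4 ≤ Fintype.card F) {x : Matrix (Fin 2) (Fin 2) F} (hns : NS x) (hdx : x.det ≠ 0)
    {x₁ : Matrix (Fin 2) (Fin 2) F} (hx₁ : MSim x₁ x) : Data x₁ x := by
  classical
  have hdd : x₁.det = x.det := hx₁.det_eq
  have htt : x₁.trace = x.trace := by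
    rw [Matrix.trace_eq_neg_charpoly_coeff, Matrix.trace_eq_neg_charpoly_coeff, charpoly_of_msim hx₁]
  have hns₁ : NS x₁ := hns.of_msim hx₁.symm
  set d := x.det with hd
  set τ₀ := x.trace ^ 2 - 2 * d with hτ₀
  by_cases hsurj : (2 : F) = 0 ∨ x.trace ^ 2 ≠ 4 * d
  · -- centralisers of every determinant
    obtain ⟨τx, τy, hx', hy', hxy, hy0⟩ : ∃ τx τy : F, τx ^ 2 ≠ 4 * d ^ 2 ∧ τy ^ 2 ≠ 4 * d ^ 2 ∧
        τy ^ 2 ≠ τx ^ 2 ∧ τy ≠ τ₀ := by
      by_cases h2 : (2 : F) = 0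
      · have h4 : (4 : F) * d ^ 2 = 0 := by rw [show (4 : F) = 2 * 2 by norm_num, h2, zero_mul, zero_mul]
        obtain ⟨τy, hy0, hyt, -⟩ := exists_avoid_sq hq 0 τ₀ 0
        obtain ⟨τx, hx0, hxy, -⟩ := exists_avoid_sq hq 0 τy 0
        refine ⟨τx, τy, by rw [h4]; exact pow_ne_zero _ hx0, by rw [h4]; exact pow_ne_zero _ hy0, fun e => hxy ?_, hyt⟩
        rcases sq_eq_sq_iff_eq_or_eq_neg.1 e with e | e
        · exact e.symm
        · rw [e]; linear_combination τx * h2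
      · obtain ⟨τ, hτ0, -, hτ⟩ := exists_avoid_sq hq 0 0 (4 * d ^ 2)
        have h0 : (0 : F) ^ 2 ≠ 4 * d ^ 2 := by
          rw [zero_pow two_ne_zero, show (4 : F) = 2 * 2 by norm_num]
          exact (mul_ne_zero (mul_ne_zero h2 h2) (pow_ne_zero _ hdx)).symm
        by_cases ht0 : τ₀ = 0
        · exact ⟨0, τ, h0, hτ, by simpa using hτ0, by rw [ht0]; exact hτ0⟩
        · exact ⟨τ, 0, hτ, h0, by simpa using Ne.symm (pow_ne_zero 2 hτ0), Ne.symm ht0⟩
    have hR : ∀ x' : Matrix (Fin 2) (Fin 2) F, x'.det = d → x'.trace = x.trace → NS x' → ∀ τ : F,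
        τ ^ 2 ≠ 4 * d ^ 2 → Real2 x' x' τ := fun x' hd' ht' hn' τ hτ => by
      obtain ⟨b, hb, hbt⟩ := exists_conj_trace (X := x') (Y := x') (σ := τ) hn' (by rw [hd']; exact hdx)
        (by by_cases h : x'.trace ^ 2 = 4 * x'.det <;> [exact Or.inr h; exact Or.inl h]) hn'
        (fun y hy hy' e => hτ (by rw [hd'] at hy'; rw [e, hy, hy']; ring))
      have hsur := surj_two (A := x') (by rw [hd', ht']; exact hsurj)
      exact ⟨b, x', ssim_of_msim hsur hb, SSim.refl _, hbt⟩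
    refine ⟨x₁, x, τx, τy, rfl, rfl, rfl, rfl, SSim.refl _, hR _ hdd htt hns₁ _ hx', hR _ hdd htt hns₁ _ hy',
      hR _ rfl rfl hns _ hx', hR _ rfl rfl hns _ hy', by rw [hdd]; exact hx', by rw [hdd]; exact hy', hxy, ?_⟩
    rw [htt, hdd]; exact hy0
  · push Not at hsurj
    obtain ⟨h2, hdisc⟩ := hsurj
    obtain ⟨β, hβ, hβd⟩ := exists_double hdisc
    have hβ0 : β ≠ 0 := fun e => hdx (by rw [hβd, e]; ring)
    have hrep : ∀ x' : Matrix (Fin 2) (Fin 2) F, x'.det = d → x'.trace = x.trace → NS x' →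
        ∃ a, a ≠ 0 ∧ SSim x' (jq β a) := fun x' hd' ht' hn' => by
      have hJ : NS (jq β (1 : F)) := fun c hc => one_ne_zero (α := F) (by simpa [jq] using congrFun (congrFun hc 0) 1)
      obtain ⟨S, S', hSS', hS'S, he⟩ := (msim_two hn' hJ (by rw [ht', hβ]; simp [jq, Matrix.trace_fin_two, two_mul])
        (by rw [hd', hβd]; simp [jq, Matrix.det_fin_two, sq])).exists_conj
      have h1 : S.det * S'.det = 1 := by rw [← Matrix.det_mul, hSS', Matrix.det_one]
      refine ⟨S.det, left_ne_zero_of_mul_eq_one h1, S * !![S'.det, 0; 0, 1], !![S.det, 0; 0, 1] * S', ?_, ?_, ?_⟩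
      · have hE : (!![S'.det, 0; 0, 1] : Matrix (Fin 2) (Fin 2) F) * !![S.det, 0; 0, 1] = 1 := by
          ext i j
          fin_cases i <;> fin_cases j <;> simp [Matrix.mul_apply, Fin.sum_univ_two, mul_comm S'.det, h1]
        rw [Matrix.mul_assoc, ← Matrix.mul_assoc !![S'.det, 0; 0, 1], hE, Matrix.one_mul, hSS']
      · rw [Matrix.det_mul, Matrix.det_fin_two (!![S'.det, 0; 0, 1])]; simpa using h1
      · have hJ' : (!![S'.det, 0; 0, 1] : Matrix (Fin 2) (Fin 2) F) * jq β S.det * !![S.det, 0; 0, 1] = jq β 1 := by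
          ext i j
          fin_cases i <;> fin_cases j <;> simp [jq, Matrix.mul_apply, Fin.sum_univ_two] <;>
            first
              | linear_combination β * h1
              | linear_combination h1
        rw [he]
        conv_lhs => rw [← hJ']
        simp only [Matrix.mul_assoc]
    obtain ⟨a₁, ha₁, hs₁⟩ := hrep x₁ hdd htt hns₁
    obtain ⟨a₂, ha₂, hs₂⟩ := hrep x rfl rfl hns
    obtain ⟨r, hr0, hr2, hr1⟩ : ∃ r : F, r ≠ 0 ∧ r ^ 2 ≠ 2 ∧ r ^ 2 ≠ 1 := by
      have h5 : 5 ≤ Fintype.card F := by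
        rcases Nat.lt_or_ge (Fintype.card F) 5 with h | h
        · exfalso
          have h4 : Fintype.card F = 4 := by omega
          have hodd : Fintype.card F % 2 = 1 := FiniteField.odd_card_of_char_ne_two fun hc => h2 (by
            haveI : CharP F 2 := by rw [← hc]; exact ringChar.charP F
            exact CharTwo.two_eq_zero)
          omega
        · exact h
      by_contra hn
      push Not at hn
      by_cases hsq : ∃ s : F, s ^ 2 = 2
      · obtain ⟨s, hs⟩ := hsq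
        have hsub : (Finset.univ : Finset F) ⊆ {0, 1, -1, s, -s} := fun r _ => by
          simp only [Finset.mem_insert, Finset.mem_singleton]
          by_cases hr : r = 0
          · exact Or.inl hr
          by_cases hr2 : r ^ 2 = 2
          · exact Or.inr (Or.inr (Or.inr (sq_eq_sq_iff_eq_or_eq_neg.1 (hr2.trans hs.symm))))
          · exact Or.inr ((sq_eq_one_iff.1 (hn r hr hr2)).elim Or.inl fun h => Or.inr (Or.inl h))
        have hc : Fintype.card F ≤ 5 := by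
          refine (Finset.card_univ (α := F) ▸ Finset.card_le_card hsub).trans ?_
          exact Finset.card_le_five
        have hpow : ∀ z : F, z ≠ 0 → z ^ 4 = 1 := fun z hz => by
          have := FiniteField.pow_card_sub_one_eq_one z hz
          rwa [show Fintype.card F - 1 = 4 by omega] at this
        have hs0 : s ≠ 0 := fun e => h2 (by rw [← hs, e]; ring)
        have h4 : (4 : F) = 1 := by
          rw [← hpow s hs0, show s ^ 4 = (s ^ 2) ^ 2 by ring, hs]; norm_num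
        have h5' : (5 : F) = 0 := by
          have hc5 : Fintype.card F = 5 := by omega
          have := FiniteField.cast_card_eq_zero F
          rw [hc5] at this
          exact_mod_cast this
        exact h2 (by linear_combination h5' - h4)
      · push Not at hsq
        have hsub : (Finset.univ : Finset F) ⊆ {0, 1, -1} := fun r _ => by
          simp only [Finset.mem_insert, Finset.mem_singleton]
          by_cases hr : r = 0
          · exact Or.inl hr
          · exact Or.inr (sq_eq_one_iff.1 (hn r hr (hsq r)))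
        have := (Finset.card_univ (α := F) ▸ Finset.card_le_card hsub).trans Finset.card_le_three
        omega
    set y₁ := jq β (2 * d / a₁) with hy₁
    set y₂ := jq β (2 * d / a₂) with hy₂
    have hjd : ∀ a : F, (jq β a).det = d := fun a => by rw [hβd]; simp [jq, Matrix.det_fin_two, sq]
    have hjt : ∀ a : F, (jq β a).trace = x.trace := fun a => by rw [hβ]; simp [jq, Matrix.trace_fin_two, two_mul]
    have hR : ∀ (x' : Matrix (Fin 2) (Fin 2) F) (a s : F), a ≠ 0 → s ≠ 0 → SSim x' (jq β a) →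
        Real2 x' (jq β (2 * d / a)) (2 * d - 2 * d * s ^ 2) := fun x' a s ha hs hx' => by
      refine ⟨jq β a, !![β, 0; -(2 * d * s ^ 2 / a), β], hx'.symm, (ssim_jq_low β _).trans ?_, ?_⟩
      · rw [neg_neg, show 2 * d * s ^ 2 / a = s ^ 2 * (2 * d / a) by ring]
        exact ssim_jq_scale β _ s hs
      · simp [jq, Matrix.trace_fin_two, Matrix.mul_apply, Fin.sum_univ_two]
        rw [hβd]
        field_simp
        ring
    refine ⟨y₁, y₂, 2 * d - 2 * d * 1 ^ 2, 2 * d - 2 * d * r ^ 2, (hjd _).trans hdd.symm, hjd _,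
      (hjt _).trans htt.symm, hjt _, ?_, hR x₁ a₁ 1 ha₁ one_ne_zero hs₁, hR x₁ a₁ r ha₁ hr0 hs₁,
      hR x a₂ 1 ha₂ one_ne_zero hs₂, hR x a₂ r ha₂ hr0 hs₂, ?_, ?_, ?_, ?_⟩
    · refine SSim.trans ?_ (ssim_blocks hs₁ hs₂).symm
      refine ⟨Matrix.fromBlocks !![2 * d / a₁ / a₁, 0; 0, 1] 0 0 !![a₁ / a₂, 0; 0, a₁ * a₂ / (2 * d)],
        Matrix.fromBlocks !![a₁ * a₁ / (2 * d), 0; 0, 1] 0 0 !![a₂ / a₁, 0; 0, 2 * d / (a₁ * a₂)], ?_, ?_, ?_⟩
      · rw [Matrix.fromBlocks_multiply, ← Matrix.fromBlocks_one]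
        congr 1 <;> simp
        all_goals
          ext i j
          fin_cases i <;> fin_cases j <;> simp <;> field_simp
      · rw [Matrix.det_fromBlocks_zero₂₁]
        simp [Matrix.det_fin_two]
        field_simp
      · rw [Matrix.fromBlocks_multiply, Matrix.fromBlocks_multiply]
        congr 1 <;> simp
        all_goals
          ext i j
          fin_cases i <;> fin_cases j <;> simp [y₁, y₂, jq] <;> field_simp
    · rw [hdd, one_pow, mul_one, sub_self, zero_pow two_ne_zero, show (4 : F) = 2 * 2 by norm_num]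
      exact (mul_ne_zero (mul_ne_zero h2 h2) (pow_ne_zero _ hdx)).symm
    · rw [hdd]
      intro e
      have : (4 : F) * d ^ 2 * r ^ 2 * (r ^ 2 - 2) = 0 := by linear_combination e
      simp only [mul_eq_zero, pow_eq_zero_iff two_ne_zero, hdx, hr0, or_false, sub_eq_zero, hr2] at this
      rw [show (4 : F) = 2 * 2 by norm_num, mul_eq_zero] at this
      exact h2 (this.elim id id)
    · rw [one_pow, mul_one, sub_self, zero_pow two_ne_zero, ne_eq, pow_eq_zero_iff two_ne_zero, ← mul_one_sub, mul_eq_zero,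
        sub_eq_zero]
      exact fun e => e.elim (mul_ne_zero h2 hdx) (fun e => hr1 e.symm)
    · rw [hdd, htt, hdisc]
      intro e
      have : (2 * d) * r ^ 2 = 0 := by linear_combination -e
      exact (mul_ne_zero (mul_ne_zero h2 hdx) (pow_ne_zero _ hr0)) this

theorem cov_two (hq : 4 ≤ Fintype.card F) {x : Matrix (Fin 2) (Fin 2) F} (hns : NS x) (hdx : x.det ≠ 0) :
    Cov 4 (Matrix.fromBlocks x 0 0 x) :=
  cov_two_quads hq hns hdx fun _ h => exists_data hq hns hdx h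

end Cfsg.Lib.Linear.PSLCover
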