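import Cfsg.Agent.Lib.Linear.PSLCover.Normal
import Cfsg.Agent.Lib.Linear.PSLCover.Two
import Cfsg.Agent.Lib.Linear.SLCommutator.Scalar

/-!
# Cubics with a simple root

A root in front of a quadratic block: two lower factors and one upper, corners free by coprimality.
-/

set_option autoImplicit false
set_option linter.unusedSectionVars false
set_option linter.unusedSimpArgs false

universe u

namespace Cfsg.Lib.Linear.PSLCover

open Module Polynomial
open Cfsg.Lib.Linear.SLComm (Sim rt Cyc dv comp_sim cyclic_sim exists_change sim_aeval rt_aeval exists_mulLeft_det)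
open scoped Matrix

variable {F : Type u} [Field F]
variable {ι κ : Type} [Fintype ι] [DecidableEq ι] [Fintype κ] [DecidableEq κ]

/-- The centraliser has every determinant. -/
def Surj (A : Matrix ι ι F) : Prop := ∀ c : F, c ≠ 0 → ∃ Z : Matrix ι ι F, Z.det = c ∧ Z * A = A * Z

theorem Surj.of_msim {A : Matrix ι ι F} {B : Matrix κ κ F} (hB : Surj B) (h : MSim A B) : Surj A :=
  surj_of_msim h hB

theorem Surj.ssim {A B : Matrix ι ι F} (hB : Surj B) (h : MSim A B) : SSim A B := ssim_of_msim hB h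

theorem Surj.inv {A A' : Matrix ι ι F} (h : A * A' = 1) (hA : Surj A) : Surj A' := fun c hc => by
  obtain ⟨Z, hZ, hZA⟩ := hA c hc
  refine ⟨Z, hZ, ?_⟩
  calc Z * A' = A' * A * (Z * A') := by rw [mul_eq_one_comm.1 h, Matrix.one_mul]
    _ = A' * (A * Z) * A' := by simp only [Matrix.mul_assoc]
    _ = A' * Z := by rw [← hZA, Matrix.mul_assoc, Matrix.mul_assoc, h, Matrix.mul_one]

theorem Surj.smul {A : Matrix ι ι F} (hA : Surj A) (s : F) : Surj (s • A) := fun c hc => by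
  obtain ⟨Z, hZ, hZA⟩ := hA c hc
  exact ⟨Z, hZ, by rw [Matrix.mul_smul, Matrix.smul_mul, hZA]⟩

/-- An eigenvalue in front gives centralisers of every determinant. -/
theorem surj_front (a : F) (Q : Matrix κ κ F) : Surj (Matrix.fromBlocks (a • 1 : Matrix Unit Unit F) 0 0 Q) :=
  fun c _ => ⟨Matrix.fromBlocks (c • 1) 0 0 1, by simp, by simp [Matrix.fromBlocks_multiply, smul_smul, mul_comm]⟩

theorem list_prod_smul (c : F) : ∀ l : List (Matrix ι ι F), (l.map fun a => c • a).prod = c ^ l.length • l.prod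
  | [] => by simp
  | a :: l => by
    rw [List.map_cons, List.prod_cons, list_prod_smul c l, List.prod_cons, List.length_cons, Matrix.smul_mul,
      Matrix.mul_smul, smul_smul, pow_succ']

theorem Spread.smul {l : List (Matrix ι ι F)} {c : F} (hc : c ≠ 0) (h : Spread l) :
    Spread (l.map fun a => c • a) := by
  intro K hinv heq
  refine h K (fun a ha w hw => ?_) (fun a ha b hb w hw => ?_)
  · have := hinv _ (List.mem_map.2 ⟨a, ha, rfl⟩) w hw
    rw [Matrix.vecMul_smul] at this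
    simpa [smul_smul, inv_mul_cancel₀ hc] using K.smul_mem c⁻¹ this
  · have := heq _ (List.mem_map.2 ⟨a, ha, rfl⟩) _ (List.mem_map.2 ⟨b, hb, rfl⟩) w hw
    rw [Matrix.vecMul_smul, Matrix.vecMul_smul] at this
    exact smul_right_injective _ hc this

/-- Scaling. -/
theorem Cov.smul {k : ℕ} {x : Matrix ι ι F} (hx : Cov k x) {c : F} (hc : c ≠ 0) : Cov k (c • x) := by
  intro g hg hgd
  have hck : c ^ k ≠ 0 := pow_ne_zero _ hc
  obtain ⟨l, hl, hlx, hp, hs⟩ := hx ((c ^ k)⁻¹ • g) (fun s hs => hg (c ^ k * s) (by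
      rw [mul_smul, ← hs, smul_inv_smul₀ hck])) (by
    rw [Matrix.det_smul, hgd, Matrix.det_smul, inv_pow, mul_pow, ← pow_mul, ← pow_mul, mul_comm k, ← mul_assoc,
      inv_mul_cancel₀ (pow_ne_zero _ hc), one_mul])
  refine ⟨l.map fun a => c • a, by simp [hl], fun b hb => ?_, ?_, hs.smul hc⟩
  · obtain ⟨a, ha, rfl⟩ := List.mem_map.1 hb
    exact (hlx a ha).smul c
  · rw [list_prod_smul, hp, hl, smul_inv_smul₀ hck]

/-! ### Quadratic factors -/

theorem trace_eq_of_msim {A B : Matrix (Fin 2) (Fin 2) F} (h : MSim A B) : A.trace = B.trace := by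
  rw [Matrix.trace_eq_neg_charpoly_coeff, Matrix.trace_eq_neg_charpoly_coeff, charpoly_of_msim h]

/-- A product of two of trace `τ`. -/
theorem exists_pair_two [Fintype F] {Q G : Matrix (Fin 2) (Fin 2) F} (hQ : NS Q) (he : Q.det ≠ 0)
    (hGd : G.det = Q.det ^ 2) (hτ : G.trace ^ 2 ≠ 4 * Q.det ^ 2) :
    ∃ Q₁ Q₂ : Matrix (Fin 2) (Fin 2) F, MSim Q₁ Q ∧ MSim Q₂ Q ∧ G = Q₁ * Q₂ ∧
      (G.trace ≠ Q.trace ^ 2 - 2 * Q.det → Spread [Q₁, Q₂]) := by
  obtain ⟨b, hb, hbt⟩ := exists_conj_trace (X := Q) (Y := Q) (σ := G.trace) hQ he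
    (by by_cases h : Q.trace ^ 2 = 4 * Q.det <;> [exact Or.inr h; exact Or.inl h]) hQ
    (fun y hy hy' e => hτ (by rw [e, hy, hy']; ring))
  have hbd : (b * Q).det = G.det := by rw [Matrix.det_mul, hb.det_eq, hGd, sq]
  obtain ⟨P, P', hPP', hP'P, rfl⟩ := (msim_two (ns_of_disc (A := G) (by rw [hGd]; exact hτ))
    (ns_of_disc (A := b * Q) (by rw [hbt, hbd, hGd]; exact hτ)) hbt.symm hbd.symm).exists_conj
  refine ⟨P * b * P', P * Q * P', (msim_conj _ _ _ hPP').trans hb, msim_conj _ _ _ hPP', ?_, fun hne => ?_⟩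
  · simp only [Matrix.mul_assoc]
    rw [← Matrix.mul_assoc P' P, hP'P, Matrix.one_mul]
  · have hbs : (b - Q).det ≠ 0 := fun e => hne (by
      rw [det_sub_two, hb.det_eq, trace_eq_of_msim hb, hbt] at e
      linear_combination e)
    exact (spread_pair_of_det hbs).map P P' hPP' hP'P

/-- Three factors, the first two spread. -/
theorem exists_split3 [Fintype F] (hq : 4 ≤ Fintype.card F) {Q G : Matrix (Fin 2) (Fin 2) F} (hQ : NS Q)
    (he : Q.det ≠ 0) (hG : NS G) (hGd : G.det = Q.det ^ 3) :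
    ∃ Q₁ Q₂ Q₃ : Matrix (Fin 2) (Fin 2) F, MSim Q₁ Q ∧ MSim Q₂ Q ∧ MSim Q₃ Q ∧ G = Q₁ * Q₂ * Q₃ ∧
      Spread [Q₁, Q₂] := by
  classical
  have hQQ : Q * Q⁻¹ = 1 := Matrix.mul_nonsing_inv _ (isUnit_iff_ne_zero.2 he)
  have hYd : Q⁻¹.det ≠ 0 := right_ne_zero_of_mul_eq_one (by rw [← Matrix.det_mul, hQQ, Matrix.det_one] :
    Q.det * Q⁻¹.det = 1)
  have hY : NS Q⁻¹ := hQ.inv hQQ
  have hG0 : G.det ≠ 0 := by rw [hGd]; exact pow_ne_zero _ he
  -- the excluded trace
  obtain ⟨s, hs⟩ : ∃ s : F, (∀ y, G.trace = 2 * y → G.det = y ^ 2 → Q⁻¹.trace ^ 2 ≠ 4 * Q⁻¹.det ∨ G.trace ^ 2 = 4 * G.det →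
      s = y * Q⁻¹.trace) ∧ (∀ y, Q⁻¹.trace = 2 * y → Q⁻¹.det = y ^ 2 → G.trace ^ 2 ≠ 4 * G.det → s = y * G.trace) := by
    have huniq : ∀ y z : F, (2 : F) * y = 2 * z → y ^ 2 = z ^ 2 → y = z := fun y z h1 h2 => by
      rcases sq_eq_sq_iff_eq_or_eq_neg.1 h2 with h | h
      · exact h
      · rcases eq_or_ne (2 : F) 0 with h0 | h0
        · rw [h]; linear_combination -z * h0
        · exact mul_left_cancel₀ h0 h1
    by_cases hGs : G.trace ^ 2 = 4 * G.det
    · obtain ⟨y₀, hy₀, hy₀'⟩ := exists_double hGs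
      refine ⟨y₀ * Q⁻¹.trace, fun y hy hy' _ => ?_, fun y _ _ h => absurd hGs h⟩
      rw [huniq y₀ y (hy₀.symm.trans hy) (hy₀'.symm.trans hy')]
    · by_cases hYs : Q⁻¹.trace ^ 2 = 4 * Q⁻¹.det
      · obtain ⟨y₀, hy₀, hy₀'⟩ := exists_double hYs
        refine ⟨y₀ * G.trace, fun y hy hy' _ => absurd (by rw [hy, hy']; ring) hGs, fun y hy hy' _ => ?_⟩
        rw [huniq y₀ y (hy₀.symm.trans hy) (hy₀'.symm.trans hy')]
      · exact ⟨0, fun y hy hy' _ => absurd (by rw [hy, hy']; ring) hGs,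
          fun y hy hy' _ => absurd (by rw [hy, hy']; ring) hYs⟩
  obtain ⟨τ, hτ0, hτs, hτ⟩ := exists_avoid_sq hq (Q.trace ^ 2 - 2 * Q.det) s (4 * Q.det ^ 2)
  obtain ⟨X', hX', hX't⟩ : ∃ X', MSim X' Q⁻¹ ∧ (X' * G).trace = τ := by
    by_cases hor : Q⁻¹.trace ^ 2 ≠ 4 * Q⁻¹.det ∨ G.trace ^ 2 = 4 * G.det
    · exact exists_conj_trace hY hYd hor hG fun y hy hy' e => hτs (e.trans (hs.1 y hy hy' hor).symm)
    · push Not at hor
      obtain ⟨G', hG', hG't⟩ := exists_conj_trace (X := G) (Y := Q⁻¹) hG hG0 (Or.inl hor.2) hY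
        (σ := τ) fun y hy hy' e => hτs (e.trans (hs.2 y hy hy' hor.2).symm)
      obtain ⟨P, P', hPP', hP'P, rfl⟩ := hG'.exists_conj
      refine ⟨P' * Q⁻¹ * P, msim_conj _ _ _ hP'P, ?_⟩
      rw [Matrix.mul_assoc (P * G) P', Matrix.trace_mul_comm, ← Matrix.mul_assoc] at hG't
      exact hG't
  obtain ⟨Q₃, hQ₃⟩ : ∃ Q₃, X' * Q₃ = 1 := exists_inv_of_msim (Matrix.nonsing_inv_mul _ (isUnit_iff_ne_zero.2 he)) hX'
  have hQ₃s : MSim Q₃ Q := msim_inv hQ₃ (Matrix.nonsing_inv_mul _ (isUnit_iff_ne_zero.2 he)) hX'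
  have hGX : (G * X').det = Q.det ^ 2 := by
    have h1 : Q.det * Q⁻¹.det = 1 := by rw [← Matrix.det_mul, hQQ, Matrix.det_one]
    rw [Matrix.det_mul, hGd, hX'.det_eq]
    linear_combination Q.det ^ 2 * h1
  have hGt : (G * X').trace = τ := by rw [Matrix.trace_mul_comm]; exact hX't
  obtain ⟨Q₁, Q₂, h₁, h₂, h₁₂, hsp⟩ := exists_pair_two hQ he hGX (by rw [hGt]; exact hτ)
  exact ⟨Q₁, Q₂, Q₃, h₁, h₂, hQ₃s, by rw [← h₁₂, Matrix.mul_assoc, hQ₃, Matrix.mul_one],
    hsp (by rw [hGt]; exact hτ0)⟩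

/-! ### Corners -/

theorem det_sub_smul_of_msim {Q h : Matrix κ κ F} (hh : MSim h Q) (a : F) : (h - a • 1).det = (Q - a • 1).det := by
  obtain ⟨P, P', hPP', hP'P, rfl⟩ := hh.exists_conj
  rw [show P * Q * P' - a • (1 : Matrix κ κ F) = P * (Q - a • 1) * P' by
    rw [Matrix.mul_sub, Matrix.sub_mul, Matrix.mul_smul, Matrix.mul_one, Matrix.smul_mul, hPP']]
  exact (msim_conj _ _ _ hPP').det_eq

theorem msim_low {a : F} {Q h : Matrix κ κ F} (hh : MSim h Q) (hqa : (Q - a • (1 : Matrix κ κ F)).det ≠ 0) (W : Matrix κ Unit F) :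
    MSim (Matrix.fromBlocks (a • 1 : Matrix Unit Unit F) 0 W h) (Matrix.fromBlocks (a • 1 : Matrix Unit Unit F) 0 0 Q) := by
  have hu : IsUnit (h - a • 1).det := by rw [det_sub_smul_of_msim hh]; exact isUnit_iff_ne_zero.2 hqa
  have hW : W = h * ((h - a • 1)⁻¹ * W) - ((h - a • 1)⁻¹ * W) * (a • 1 : Matrix Unit Unit F) := by
    rw [Matrix.mul_smul, Matrix.mul_one]
    conv_lhs => rw [← Matrix.one_mul W, ← Matrix.mul_nonsing_inv _ hu, Matrix.mul_assoc, Matrix.sub_mul,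
      Matrix.smul_mul, Matrix.one_mul]
  rw [hW]
  exact (ssim_lowM _ _ _).msim.trans (msim_blocks (MSim.refl _) hh)

theorem msim_up {a : F} {Q h : Matrix κ κ F} (hh : MSim h Q) (hqa : (Q - a • (1 : Matrix κ κ F)).det ≠ 0) (R : Matrix Unit κ F) :
    MSim (Matrix.fromBlocks (a • 1 : Matrix Unit Unit F) R 0 h) (Matrix.fromBlocks (a • 1 : Matrix Unit Unit F) 0 0 Q) := by
  have hu : IsUnit (h - a • 1).det := by rw [det_sub_smul_of_msim hh]; exact isUnit_iff_ne_zero.2 hqa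
  set Z := R * (h - a • 1)⁻¹
  have hR : R = Z * h - a • Z := by
    conv_lhs => rw [← Matrix.mul_one R, ← Matrix.nonsing_inv_mul _ hu, ← Matrix.mul_assoc, Matrix.mul_sub,
      Matrix.mul_smul, Matrix.mul_one]
  refine MSim.trans ?_ (msim_blocks (MSim.refl _) hh)
  refine msim_iff.2 ⟨Matrix.fromBlocks 1 (-Z) 0 1, Matrix.fromBlocks 1 Z 0 1, ?_, ?_, ?_⟩
  · simp [Matrix.fromBlocks_multiply]
  · simp [Matrix.fromBlocks_multiply]
  · rw [hR]
    simp [Matrix.fromBlocks_multiply]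
    abel

/-- The arrangement with a nonzero row. -/
theorem rooted_main [Fintype F] (hq : 4 ≤ Fintype.card F) {a : F} {Q : Matrix (Fin 2) (Fin 2) F} (hQ : NS Q)
    (he : Q.det ≠ 0) (ha : a ≠ 0) (hqa : (Q - a • 1).det ≠ 0) {R : Matrix Unit (Fin 2) F} (hR : R ≠ 0)
    (w : Matrix (Fin 2) Unit F) {G : Matrix (Fin 2) (Fin 2) F} (hG : NS G) (hGd : G.det = Q.det ^ 3) :
    ∃ l : List (Matrix (Unit ⊕ Fin 2) (Unit ⊕ Fin 2) F), l.length = 3 ∧
      (∀ y ∈ l, MSim y (Matrix.fromBlocks (a • 1 : Matrix Unit Unit F) 0 0 Q)) ∧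
      l.prod = Matrix.fromBlocks (a ^ 3 • 1 : Matrix Unit Unit F) R w (G + (a ^ 3)⁻¹ • (w * R)) ∧ Spread l := by
  obtain ⟨Q₁, Q₂, Q₃, h₁, h₂, h₃, rfl, hsp⟩ := exists_split3 hq hQ he hG hGd
  refine ⟨[Matrix.fromBlocks (a • 1) 0 ((a ^ 2)⁻¹ • w) Q₁, Matrix.fromBlocks (a • 1) 0 0 Q₂,
    Matrix.fromBlocks (a • 1) ((a ^ 2)⁻¹ • R) 0 Q₃], rfl, ?_, ?_, ?_⟩
  · intro y hy
    simp only [List.mem_cons, List.not_mem_nil, or_false] at hy
    rcases hy with rfl | rfl | rfl
    exacts [msim_low h₁ hqa _, msim_low h₂ hqa _, msim_up h₃ hqa _]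
  · simp only [List.prod_cons, List.prod_nil, Matrix.mul_one, Matrix.fromBlocks_multiply, Matrix.smul_mul,
      Matrix.mul_smul, Matrix.one_mul, Matrix.zero_mul, Matrix.mul_zero, smul_zero, add_zero, zero_add, smul_smul,
      Matrix.mul_assoc]
    congr 1
    · congr 1; ring
    · rw [show (a ^ 2)⁻¹ * a * a = 1 by field_simp, one_smul]
    · rw [show a * a * (a ^ 2)⁻¹ = 1 by field_simp, one_smul]
    · rw [add_comm]
      congr 2
      field_simp
  · intro K hinv heq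
    have h2 : ∀ u ∈ K, ∀ i, u (Sum.inr i) = 0 := by
      have hb := hsp (K.map (LinearMap.funLeft F F Sum.inr)) (fun y hy v hv => by
          obtain ⟨u, hu, rfl⟩ := hv
          simp only [List.mem_cons, List.not_mem_nil, or_false] at hy
          rcases hy with rfl | rfl
          · refine ⟨_, hinv (Matrix.fromBlocks (a • 1) 0 ((a ^ 2)⁻¹ • w) y) (by simp) u hu, ?_⟩
            funext i; simp [Matrix.vecMul_fromBlocks]; rfl
          · refine ⟨_, hinv (Matrix.fromBlocks (a • 1) 0 0 y) (by simp) u hu, ?_⟩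
            funext i; simp [Matrix.vecMul_fromBlocks]; rfl)
        (fun y hy y' hy' v hv => by
          obtain ⟨u, hu, rfl⟩ := hv
          have key : LinearMap.funLeft F F Sum.inr u ᵥ* Q₁ = LinearMap.funLeft F F Sum.inr u ᵥ* Q₂ := by
            funext i
            have h := congrFun (heq (Matrix.fromBlocks (a • 1) 0 ((a ^ 2)⁻¹ • w) Q₁) (by simp)
              (Matrix.fromBlocks (a • 1) 0 0 Q₂) (by simp) u hu) (Sum.inr i)
            simp [Matrix.vecMul_fromBlocks] at h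
            simpa [Function.comp_def, LinearMap.funLeft] using h
          simp only [List.mem_cons, List.not_mem_nil, or_false] at hy hy'
          rcases hy with rfl | rfl <;> rcases hy' with rfl | rfl <;> simp [key])
      intro u hu i
      have h1 : LinearMap.funLeft F F Sum.inr u ∈ K.map (LinearMap.funLeft F F Sum.inr) := ⟨u, hu, rfl⟩
      rw [hb, Submodule.mem_bot] at h1
      exact congrFun h1 i
    refine (Submodule.eq_bot_iff K).2 fun u hu => funext fun s => ?_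
    rcases s with ⟨⟩ | i
    · by_contra h0
      refine hR (Matrix.ext fun ⟨⟩ i => ?_)
      have h := congrFun (heq (Matrix.fromBlocks (a • 1) 0 0 Q₂) (by simp)
        (Matrix.fromBlocks (a • 1) ((a ^ 2)⁻¹ • R) 0 Q₃) (by simp) u hu) (Sum.inr i)
      simp [Matrix.vecMul_fromBlocks, Matrix.vecMul, dotProduct, h2 u hu, ha] at h
      simpa using h.resolve_left h0
    · exact h2 u hu i

/-- A row can be made nonzero. -/
theorem rooted_move [Fintype F] (hq : 4 ≤ Fintype.card F) {A : F} (hA : A ≠ 0) (w : Matrix (Fin 2) Unit F)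
    {G : Matrix (Fin 2) (Fin 2) F} (hG : NS G) (hGd : G.det ≠ 0) :
    ∃ (R' : Matrix Unit (Fin 2) F) (w' : Matrix (Fin 2) Unit F) (G' : Matrix (Fin 2) (Fin 2) F), R' ≠ 0 ∧ NS G' ∧
      G'.det = G.det ∧ MSim (Matrix.fromBlocks (A • 1 : Matrix Unit Unit F) 0 w G)
        (Matrix.fromBlocks (A • 1) R' w' (G' + A⁻¹ • (w' * R'))) := by
  -- conjugation by a transvection block
  have conj : ∀ ρ : Matrix Unit (Fin 2) F, ρ * w = 0 →
      MSim (Matrix.fromBlocks (A • 1 : Matrix Unit Unit F) 0 w G) (Matrix.fromBlocks (A • 1) (ρ * G - A • ρ) w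
        (G - A⁻¹ • (w * (ρ * G)) + A⁻¹ • (w * (ρ * G - A • ρ)))) := by
    intro ρ hρ
    refine msim_iff.2 ⟨Matrix.fromBlocks 1 ρ 0 1, Matrix.fromBlocks 1 (-ρ) 0 1, ?_, ?_, ?_⟩
    · simp [Matrix.fromBlocks_multiply]
    · simp [Matrix.fromBlocks_multiply]
    · simp only [Matrix.fromBlocks_multiply, Matrix.one_mul, Matrix.mul_one, Matrix.zero_mul, Matrix.mul_zero,
        add_zero, zero_add, hρ, Matrix.smul_mul, Matrix.mul_sub, Matrix.mul_smul, smul_sub, smul_smul,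
        inv_mul_cancel₀ hA, one_smul, smul_zero]
      congr 1 <;> abel
  have hdet : ∀ ρ : Matrix Unit (Fin 2) F, ρ * w = 0 → (G - A⁻¹ • (w * (ρ * G))).det = G.det := fun ρ hρ => by
    rw [show G - A⁻¹ • (w * (ρ * G)) = (1 + (-A⁻¹ • w) * ρ) * G by
      rw [Matrix.add_mul, Matrix.one_mul, Matrix.smul_mul, Matrix.smul_mul, Matrix.mul_assoc, neg_smul, sub_eq_add_neg],
      Matrix.det_mul, Matrix.det_one_add_mul_comm, Matrix.mul_smul, hρ, smul_zero, add_zero, Matrix.det_one, one_mul]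
  rcases eq_or_ne w 0 with rfl | hw
  · obtain ⟨ρ, hρ⟩ : ∃ ρ : Matrix Unit (Fin 2) F, ρ * G - A • ρ ≠ 0 := by
      by_contra hn
      push Not at hn
      refine hG A (Matrix.ext fun i j => ?_)
      have h := congrFun (congrFun (hn (Matrix.of fun _ k => if k = i then 1 else 0)) ()) j
      simp [Matrix.mul_apply] at h
      rw [sub_eq_zero] at h
      simpa [Matrix.one_apply, eq_comm] using h
    exact ⟨_, 0, _, hρ, (by simpa using hG), hdet ρ (Matrix.mul_zero _), conj ρ (Matrix.mul_zero _)⟩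
  obtain ⟨w₀, hw₀⟩ : ∃ w₀ : Fin 2 → F, w = Matrix.replicateCol Unit w₀ := ⟨fun i => w i (), rfl⟩
  let ρ : Matrix Unit (Fin 2) F := Matrix.of fun _ => ![-w₀ 1, w₀ 0]
  have hρw : ρ * w = 0 := by
    ext ⟨⟩ ⟨⟩
    simp [ρ, hw₀, Matrix.mul_apply, Fin.sum_univ_two]
    ring
  have hρ0 : ρ ≠ 0 := fun h => hw (by
    have h0 := congrFun (congrFun h ()) 0
    have h1 := congrFun (congrFun h ()) 1
    simp [ρ] at h0 h1
    ext i ⟨⟩
    fin_cases i <;> simp [hw₀, h0, h1])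
  by_cases hρG : ρ * G - A • ρ = 0
  · -- residual rank one
    set D := G - A • (1 : Matrix (Fin 2) (Fin 2) F) with hD
    have hrel : ∀ j, w₀ 0 * D 1 j = w₀ 1 * D 0 j := fun j => by
      have h := congrFun (congrFun hρG ()) j
      simp [ρ, Matrix.mul_apply, Fin.sum_univ_two] at h
      fin_cases j <;> simp [hD] at h ⊢ <;> linear_combination h
    obtain ⟨i, hi⟩ : ∃ i, w₀ i ≠ 0 := by
      by_contra hn; push Not at hn; exact hw (by ext i ⟨⟩; simp [hw₀, hn])
    obtain ⟨s, hs⟩ : ∃ s : Fin 2 → F, D = Matrix.vecMulVec w₀ s := by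
      refine ⟨fun j => D i j / w₀ i, Matrix.ext fun k j => ?_⟩
      rw [Matrix.vecMulVec_apply, ← mul_div_assoc, eq_div_iff hi]
      have := hrel j
      fin_cases i <;> fin_cases k <;> simp at hi ⊢ <;>
        first
          | linear_combination (0 : F)
          | linear_combination this
          | linear_combination -this
    have hGs : G = A • 1 + Matrix.vecMulVec w₀ s := by rw [← hs, hD, add_sub_cancel]
    have hs0 : s ≠ 0 := fun e => hG A (by rw [hGs, e, Matrix.vecMulVec_zero, add_zero])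
    have hw₀0 : w₀ ≠ 0 := fun e => hi (congrFun e i)
    refine ⟨Matrix.replicateRow Unit s, 0, G, fun e => hs0 (funext fun j => congrFun (congrFun e ()) j), hG, rfl, ?_⟩
    have key : ∀ (u v : Unit ⊕ Fin 2 → F), A • (1 + Matrix.vecMulVec u (A⁻¹ • v)) = A • 1 + Matrix.vecMulVec u v :=
      fun u v => by rw [Matrix.vecMulVec_smul, smul_add, smul_smul, mul_inv_cancel₀ hA, one_smul]
    let u₀ : Unit ⊕ Fin 2 → F := Sum.elim 0 w₀
    let v₀ : Unit ⊕ Fin 2 → F := Sum.elim (fun _ => 1) s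
    let u₁ : Unit ⊕ Fin 2 → F := Sum.elim (fun _ => 1) w₀
    let v₁ : Unit ⊕ Fin 2 → F := Sum.elim 0 s
    have h1 : Matrix.fromBlocks (A • 1 : Matrix Unit Unit F) 0 w G = A • 1 + Matrix.vecMulVec u₀ v₀ := by
      rw [hGs, hw₀]
      ext (i | i) (j | j) <;> simp [u₀, v₀, Matrix.one_apply, Matrix.vecMulVec_apply]
    have h2 : Matrix.fromBlocks (A • 1 : Matrix Unit Unit F) (Matrix.replicateRow Unit s) 0
        (G + A⁻¹ • ((0 : Matrix (Fin 2) Unit F) * Matrix.replicateRow Unit s)) = A • 1 + Matrix.vecMulVec u₁ v₁ := by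
      rw [hGs, Matrix.zero_mul, smul_zero, add_zero]
      ext (i | i) (j | j) <;> simp [u₁, v₁, Matrix.one_apply, Matrix.vecMulVec_apply]
    rw [h1, h2, ← key, ← key]
    refine MSim.smul A (ssim_rankone (by simp) ?_ ?_ ?_ ?_ ?_).msim
    · exact fun e => hw₀0 (funext fun k => congrFun e (Sum.inr k))
    · exact fun e => one_ne_zero (α := F) (congrFun e (Sum.inl ()))
    · exact smul_ne_zero (inv_ne_zero hA) fun e => one_ne_zero (α := F) (congrFun e (Sum.inl ()))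
    · exact smul_ne_zero (inv_ne_zero hA) fun e => hs0 (funext fun k => congrFun e (Sum.inr k))
    · simp [u₀, v₀, u₁, v₁, dotProduct, Fintype.sum_sum_type]
  · -- two scales
    obtain ⟨c, hc0, hc1, -⟩ := exists_avoid_sq hq 0 1 0
    by_cases hns : NS (G - A⁻¹ • (w * (ρ * G)))
    · exact ⟨_, w, _, hρG, hns, hdet ρ hρw, conj ρ hρw⟩
    have hcρ : c • ρ * w = 0 := by rw [Matrix.smul_mul, hρw, smul_zero]
    refine ⟨_, w, _, ?_, ?_, hdet _ hcρ, conj _ hcρ⟩
    · rw [Matrix.smul_mul, smul_comm A c, ← smul_sub]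
      exact smul_ne_zero hc0 hρG
    · intro β hβ
      simp only [NS, not_forall, not_not] at hns
      obtain ⟨α, hα⟩ := hns
      have e : (A⁻¹ * (c - 1)) • (w * (ρ * G)) = (α - β) • 1 := by
        rw [sub_smul, ← hα, ← hβ, Matrix.smul_mul, Matrix.mul_smul]
        module
      have hr : (w * (ρ * G)).det = 0 := by
        simp [Matrix.det_fin_two, Matrix.mul_apply]
        ring
      have h0 : α - β = 0 := by
        have h := congrArg Matrix.det e
        rw [Matrix.det_smul, hr, mul_zero, Matrix.det_smul, Matrix.det_one, mul_one] at h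
        exact eq_zero_of_pow_eq_zero h.symm
      rw [h0, zero_smul] at e
      have h3 := (smul_eq_zero.1 e).resolve_left (mul_ne_zero (inv_ne_zero hA) (sub_ne_zero.2 hc1))
      refine hρ0 ?_
      have h4 : ρ * G = 0 := by
        obtain ⟨i, hi⟩ : ∃ i, w₀ i ≠ 0 := by
          by_contra hn; push Not at hn; exact hw (by ext i ⟨⟩; simp [hw₀, hn])
        ext ⟨⟩ j
        have := congrFun (congrFun h3 i) j
        simp [hw₀, Matrix.mul_apply] at this
        simpa [Matrix.mul_apply] using this.resolve_left hi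
      calc ρ = ρ * (G * G⁻¹) := by rw [Matrix.mul_nonsing_inv _ (isUnit_iff_ne_zero.2 hGd), Matrix.mul_one]
        _ = 0 := by rw [← Matrix.mul_assoc, h4, Matrix.zero_mul]

/-- **Three factors for a simple root in front.** -/
theorem cov_rooted [Fintype F] (hq : 4 ≤ Fintype.card F) {a : F} {Q : Matrix (Fin 2) (Fin 2) F} (hQ : NS Q)
    (he : Q.det ≠ 0) (ha : a ≠ 0) (hqa : (Q - a • 1).det ≠ 0) :
    Cov 3 (Matrix.fromBlocks (a • 1 : Matrix Unit Unit F) 0 0 Q) := by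
  intro g hg hgd
  rw [Matrix.det_fromBlocks_zero₂₁, Matrix.det_smul, Matrix.det_one, Fintype.card_unit, pow_one, mul_one] at hgd
  have hgd0 : g.det ≠ 0 := by rw [hgd]; exact pow_ne_zero _ (mul_ne_zero ha he)
  obtain ⟨R, w, G, hs, hG, hdet⟩ := exists_schur hg hgd0 (by simp) (pow_ne_zero 3 ha) (m := 2) (by simp)
  have hGd : G.det = Q.det ^ 3 := mul_left_cancel₀ (pow_ne_zero 3 ha) (by rw [← hdet, hgd, mul_pow])
  obtain ⟨R', w', G', hR', hG', hG'd, hs'⟩ : ∃ (R' : Matrix Unit (Fin 2) F) (w' : Matrix (Fin 2) Unit F)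
      (G' : Matrix (Fin 2) (Fin 2) F), R' ≠ 0 ∧ NS G' ∧ G'.det = G.det ∧
        MSim g (Matrix.fromBlocks (a ^ 3 • 1 : Matrix Unit Unit F) R' w' (G' + (a ^ 3)⁻¹ • (w' * R'))) := by
    rcases eq_or_ne R 0 with rfl | hR
    · rw [Matrix.mul_zero, smul_zero, add_zero] at hs
      obtain ⟨R', w', G', h1, h2, h3, h4⟩ := rooted_move hq (pow_ne_zero 3 ha) w hG (by rw [hGd]; exact pow_ne_zero _ he)
      exact ⟨R', w', G', h1, h2, h3, hs.trans h4⟩
    · exact ⟨R, w, G, hR, hG, rfl, hs⟩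
  obtain ⟨l, hl, hlx, hlp, hsp⟩ := rooted_main hq hQ he ha hqa hR' w' hG' (hG'd.trans hGd)
  obtain ⟨P, P', hPP', hP'P, rfl⟩ := hs'.exists_conj
  refine ⟨l.map fun y => P * y * P', by simp [hl], fun y hy => ?_, by rw [prod_map_conj P P' hPP' hP'P, hlp],
    hsp.map P P' hPP' hP'P⟩
  obtain ⟨y', hy', rfl⟩ := List.mem_map.1 hy
  exact (surj_front a Q).ssim ((msim_conj _ _ _ hPP').trans (hlx y' hy'))

end Cfsg.Lib.Linear.PSLCover
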