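import Cfsg.Agent.Lib.Linear.PSLCover.CubicPair

/-!
# Witnesses over four elements

Four targets of one triple root, checked in the field of four elements.
-/

set_option autoImplicit false
set_option linter.unusedSectionVars false
set_option linter.unusedSimpArgs false

universe u

namespace Cfsg.Lib.Linear.PSLCover

open scoped Matrix

variable {F : Type u} [Field F]

/-- Addition of four symbols. -/
def eAdd : Fin 4 → Fin 4 → Fin 4 := ![![0, 1, 2, 3], ![1, 0, 3, 2], ![2, 3, 0, 1], ![3, 2, 1, 0]]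

/-- Multiplication of four symbols. -/
def eMul : Fin 4 → Fin 4 → Fin 4 := ![![0, 0, 0, 0], ![0, 1, 2, 3], ![0, 2, 3, 1], ![0, 3, 1, 2]]

/-- The value of a symbol. -/
def eVal (w : F) : Fin 4 → F := ![0, 1, w, w + 1]

/-- The matrix product on symbols. -/
def eProd (A B : Fin 3 → Fin 3 → Fin 4) : Fin 3 → Fin 3 → Fin 4 :=
  fun i j => eAdd (eAdd (eMul (A i 0) (B 0 j)) (eMul (A i 1) (B 1 j))) (eMul (A i 2) (B 2 j))

/-- The unit matrix. -/
def eOne : Fin 3 → Fin 3 → Fin 4 := ![![1, 0, 0], ![0, 1, 0], ![0, 0, 1]]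

/-- The determinant on symbols. -/
def eDet (A : Fin 3 → Fin 3 → Fin 4) : Fin 4 :=
  let m := fun a b c => eMul (eMul a b) c
  eAdd (eAdd (eAdd (m (A 0 0) (A 1 1) (A 2 2)) (m (A 0 1) (A 1 2) (A 2 0))) (m (A 0 2) (A 1 0) (A 2 1)))
    (eAdd (eAdd (m (A 0 2) (A 1 1) (A 2 0)) (m (A 0 1) (A 1 0) (A 2 2))) (m (A 0 0) (A 1 2) (A 2 1)))

/-- The companion matrix of the triple root one. -/
def eComp : Fin 3 → Fin 3 → Fin 4 := ![![0, 0, 1], ![1, 0, 1], ![0, 1, 1]]

/-- The matrix of symbols. -/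
def eMat (w : F) (A : Fin 3 → Fin 3 → Fin 4) : Matrix (Fin 3) (Fin 3) F := Matrix.of fun i j => eVal w (A i j)

variable {w : F}

theorem eVal_add (h2 : (2 : F) = 0) (a b : Fin 4) : eVal w (eAdd a b) = eVal w a + eVal w b := by
  fin_cases a <;> fin_cases b <;> simp [eVal, eAdd] <;>
    first
      | linear_combination (0 : F)
      | linear_combination h2
      | linear_combination -h2
      | linear_combination w * h2
      | linear_combination -w * h2
      | linear_combination (w + 1) * h2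
      | linear_combination -(w + 1) * h2

theorem eVal_mul (h2 : (2 : F) = 0) (hw : w ^ 2 + w + 1 = 0) (a b : Fin 4) :
    eVal w (eMul a b) = eVal w a * eVal w b := by
  fin_cases a <;> fin_cases b <;> simp [eVal, eMul] <;>
    first
      | linear_combination (0 : F)
      | linear_combination -hw + (w + 1) * h2
      | linear_combination -hw + h2
      | linear_combination -hw

theorem eMat_prod (h2 : (2 : F) = 0) (hw : w ^ 2 + w + 1 = 0) (A B : Fin 3 → Fin 3 → Fin 4) :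
    eMat w (eProd A B) = eMat w A * eMat w B := by
  ext i j
  simp [eMat, eProd, Matrix.mul_apply, Fin.sum_univ_three, eVal_add h2, eVal_mul h2 hw]

theorem eMat_one : eMat w eOne = 1 := by
  ext i j
  fin_cases i <;> fin_cases j <;> simp [eMat, eOne, eVal]

theorem eMat_det (h2 : (2 : F) = 0) (hw : w ^ 2 + w + 1 = 0) (A : Fin 3 → Fin 3 → Fin 4) :
    (eMat w A).det = eVal w (eDet A) := by
  rw [Matrix.det_fin_three]
  simp only [eMat, Matrix.of_apply, eDet, eVal_add h2, eVal_mul h2 hw]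
  linear_combination -(eVal w (A 0 2) * eVal w (A 1 1) * eVal w (A 2 0) + eVal w (A 0 1) * eVal w (A 1 0) * eVal w (A 2 2) +
    eVal w (A 0 0) * eVal w (A 1 2) * eVal w (A 2 1)) * h2

theorem eMat_sub (h2 : (2 : F) = 0) (A B : Fin 3 → Fin 3 → Fin 4) :
    eMat w A - eMat w B = eMat w fun i j => eAdd (A i j) (B i j) := by
  ext i j
  simp only [eMat, Matrix.of_apply, Matrix.sub_apply, eVal_add h2]
  linear_combination -(eVal w (B i j)) * h2

theorem eVal_ne_zero (hw : w ^ 2 + w + 1 = 0) {a : Fin 4} (ha : a ≠ 0) : eVal w a ≠ 0 := by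
  have h0 : w ≠ 0 := fun e => by rw [e] at hw; simp at hw
  have h1 : w + 1 ≠ 0 := fun e => one_ne_zero (α := F) (by linear_combination hw - w * e)
  fin_cases a
  · exact absurd rfl ha
  all_goals simp [eVal, h0, h1]

/-- A checked list of three conjugates. -/
def eGood (G : Fin 3 → Fin 3 → Fin 4) (P Q : Fin 3 → Fin 3 → Fin 3 → Fin 4) : Prop :=
  (∀ i, eProd (P i) (Q i) = eOne ∧ eDet (P i) = 1) ∧
    eProd (eProd (eProd (eProd (P 0) eComp) (Q 0)) (eProd (eProd (P 1) eComp) (Q 1)))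
      (eProd (eProd (P 2) eComp) (Q 2)) = G ∧
    eDet (fun i j => eAdd (eProd (eProd (P 0) eComp) (Q 0) i j) (eProd (eProd (P 1) eComp) (Q 1) i j)) ≠ 0

theorem list_of_good (h2 : (2 : F) = 0) (hw : w ^ 2 + w + 1 = 0) {G : Fin 3 → Fin 3 → Fin 4}
    {P Q : Fin 3 → Fin 3 → Fin 3 → Fin 4} (h : eGood G P Q) :
    ∃ l : List (Matrix (Fin 3) (Fin 3) F), l.length = 3 ∧ (∀ a ∈ l, SSim a (eMat w eComp)) ∧ l.prod = eMat w G ∧
      Spread l := by
  obtain ⟨h1, hG, hd⟩ := h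
  let y : Fin 3 → Matrix (Fin 3) (Fin 3) F := fun i => eMat w (P i) * eMat w eComp * eMat w (Q i)
  have hy : ∀ i, SSim (y i) (eMat w eComp) := fun i =>
    ⟨eMat w (P i), eMat w (Q i), by rw [← eMat_prod h2 hw, (h1 i).1, eMat_one],
      by rw [eMat_det h2 hw, (h1 i).2]; rfl, rfl⟩
  refine ⟨[y 0, y 1, y 2], rfl, fun a ha => ?_, ?_, (spread_pair_of_det (a := y 0) (b := y 1) ?_).mono (l' := [y 0, y 1, y 2]) (by simp)⟩
  · simp only [List.mem_cons, List.not_mem_nil, or_false] at ha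
    rcases ha with rfl | rfl | rfl <;> exact hy _
  · rw [List.prod_cons, List.prod_cons, List.prod_singleton, ← Matrix.mul_assoc (y 0), ← hG]
    simp only [y, eMat_prod h2 hw]
  · simp only [y, ← eMat_prod h2 hw, eMat_sub h2, eMat_det h2 hw]
    exact eVal_ne_zero hw hd

theorem good_w : eGood ![![1, 0, 0], ![1, 1, 0], ![0, 2, 1]]
    ![![![1, 0, 0], ![0, 0, 3], ![0, 2, 1]], ![![0, 0, 2], ![0, 1, 0], ![3, 0, 0]], ![![1, 0, 0], ![0, 0, 3], ![0, 2, 0]]]
    ![![![1, 0, 0], ![0, 1, 3], ![0, 2, 0]], ![![0, 0, 2], ![0, 1, 0], ![3, 0, 0]], ![![1, 0, 0], ![0, 0, 3], ![0, 2, 0]]] := by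
  unfold eGood; decide

theorem good_scaled : eGood ![![2, 0, 0], ![2, 2, 0], ![0, 2, 2]]
    ![![![0, 0, 2], ![0, 1, 0], ![3, 0, 0]], ![![1, 0, 0], ![0, 1, 1], ![0, 1, 0]], ![![1, 2, 0], ![0, 1, 0], ![1, 0, 1]]]
    ![![![0, 0, 2], ![0, 1, 0], ![3, 0, 0]], ![![1, 0, 0], ![0, 0, 1], ![0, 1, 1]], ![![1, 2, 0], ![0, 1, 0], ![1, 2, 1]]] := by
  unfold eGood; decide

theorem good_transvection : eGood ![![1, 0, 0], ![0, 1, 0], ![1, 0, 1]]
    ![![![1, 1, 0], ![1, 0, 0], ![2, 0, 1]], ![![0, 0, 2], ![0, 1, 0], ![3, 0, 0]], ![![0, 0, 3], ![0, 1, 0], ![2, 0, 1]]]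
    ![![![0, 1, 0], ![1, 1, 0], ![0, 2, 1]], ![![0, 0, 2], ![0, 1, 0], ![3, 0, 0]], ![![1, 0, 3], ![0, 1, 0], ![2, 0, 0]]] := by
  unfold eGood; decide

theorem good_transvection' : eGood ![![2, 0, 0], ![0, 2, 0], ![1, 0, 2]]
    ![![![3, 2, 0], ![3, 0, 0], ![0, 0, 1]], ![![2, 0, 2], ![0, 1, 0], ![3, 0, 0]], ![![0, 0, 2], ![0, 1, 0], ![3, 0, 0]]]
    ![![![0, 2, 0], ![3, 3, 0], ![0, 0, 1]], ![![0, 0, 2], ![0, 1, 0], ![3, 0, 2]], ![![0, 0, 2], ![0, 1, 0], ![3, 0, 0]]] := by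
  unfold eGood; decide

end Cfsg.Lib.Linear.PSLCover
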