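import Cfsg.Agent.Lib.Linear.PSLCover.Cubic

/-!
# Pairs in a cubic class

A lower triangular matrix times an inverse companion matrix runs through a cubic class; its inverse
is again lower triangular, so every nonscalar matrix is a pair times one factor.
-/

set_option autoImplicit false
set_option linter.unusedSectionVars false
set_option linter.unusedSimpArgs false

universe u

namespace Cfsg.Lib.Linear.PSLCover

open Module Polynomial
open Cfsg.Lib.Linear.SLComm (Sim rt Cyc dv comp_sim cyclic_sim exists_change sim_aeval rt_aeval exists_mulLeft_det)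
open scoped Matrix

variable {F : Type u} [Field F]

/-- Lower triangular of size three. -/
def tri (z w a b c : F) : Matrix (Fin 3) (Fin 3) F := !![z, 0, 0; a, z, 0; c, b, w]

theorem det_tri (z w a b c : F) : (tri z w a b c).det = z ^ 2 * w := by
  simp [tri, Matrix.det_fin_three]; left; ring

theorem charpoly_tri (z w a b c : F) : (tri z w a b c).charpoly = (X - C z) ^ 2 * (X - C w) := by
  simp [Matrix.charpoly, tri, Matrix.det_fin_three, Matrix.charmatrix_apply, Matrix.diagonal]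
  left; ring

theorem krylov_three (A : Matrix (Fin 3) (Fin 3) F) (e : Fin 3 → F) :
    krylov A e = Matrix.of fun i j => ![e, A *ᵥ e, A *ᵥ (A *ᵥ e)] j i := by
  ext i j
  fin_cases j <;> simp [krylov, Matrix.mulVec_mulVec, sq]

theorem krylov_tri (z w a b c t : F) :
    (krylov (tri z w a b c) ![1, 0, t]).det = a * (a * b + (w - z) * c + t * (w - z) ^ 2) := by
  rw [krylov_three]
  simp [Matrix.det_fin_three, tri, Matrix.mulVec, dotProduct, Fin.sum_univ_three]
  ring

theorem tri_cyc {z w a b c : F} (ha : a ≠ 0) (h : z ≠ w ∨ b ≠ 0) : ∃ e, Cyc (tri z w a b c) e := by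
  obtain ⟨t, ht⟩ : ∃ t, a * b + (w - z) * c + t * (w - z) ^ 2 ≠ 0 := by
    rcases eq_or_ne z w with rfl | hzw
    · exact ⟨0, by simpa using mul_ne_zero ha (h.resolve_left (fun e => e rfl))⟩
    · have h2 : (w - z) ^ 2 ≠ 0 := pow_ne_zero _ (sub_ne_zero.2 (Ne.symm hzw))
      refine ⟨(1 - (a * b + (w - z) * c)) / (w - z) ^ 2, ?_⟩
      rw [div_mul_cancel₀ _ h2, add_sub_cancel]
      exact one_ne_zero
  exact ⟨_, cyc_of_krylov (e := ![1, 0, t]) (by rw [krylov_tri]; exact mul_ne_zero ha ht)⟩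

theorem msim_comp_of_cyc {r : ℕ} {A : Matrix (Fin r) (Fin r) F} {e : Fin r → F} (he : Cyc A e) :
    MSim A (SLComm.comp A.charpoly r) := by
  have hd : A.charpoly.natDegree = Fintype.card (Fin r) := A.charpoly_natDegree_eq_dim
  exact (cyclic_sim A e he A.charpoly_monic hd (by rw [Matrix.aeval_self_charpoly, Matrix.zero_mulVec])).symm.trans
    (comp_sim A.charpoly_monic (by rw [hd, Fintype.card_fin]))

theorem msim_tri {z w a b c a' b' c' : F} (ha : a ≠ 0) (h : z ≠ w ∨ b ≠ 0) (ha' : a' ≠ 0) (h' : z ≠ w ∨ b' ≠ 0) :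
    MSim (tri z w a b c) (tri z w a' b' c') := by
  obtain ⟨e, he⟩ := tri_cyc (c := c) ha h
  obtain ⟨e', he'⟩ := tri_cyc (c := c') ha' h'
  refine (msim_comp_of_cyc he).trans (MSim.symm ?_)
  have := msim_comp_of_cyc he'
  rwa [charpoly_tri z w a' b' c', ← charpoly_tri z w a b c] at this

theorem tri_inv {z w : F} (hz : z ≠ 0) (hw : w ≠ 0) (a b c : F) :
    tri z w a b c * tri z⁻¹ w⁻¹ (-a / z ^ 2) (-b / (z * w)) ((a * b / z - c) / (z * w)) = 1 := by
  ext i j
  fin_cases i <;> fin_cases j <;>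
    simp [tri, Matrix.mul_apply, Fin.sum_univ_three] <;> field_simp <;> ring

theorem dv_three {p : F[X]} (hp : p.natDegree = 3) : dv p = -p.coeff 0 := by
  rw [dv, hp]; ring

theorem compInv_three {p : F[X]} (hp : p.Monic) (hdeg : p.natDegree = 3) :
    compInv p 3 = !![-p.coeff 1 / p.coeff 0, 1, 0; -p.coeff 2 / p.coeff 0, 0, 1; -1 / p.coeff 0, 0, 0] := by
  have h3 : p.coeff 3 = 1 := by rw [← hdeg]; exact hp.coeff_natDegree
  ext i j
  fin_cases i <;> fin_cases j <;> simp [compInv, h3]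

/-- Equal Krylov determinants up to cubes. -/
theorem ssim_of_krylov_cube {A B : Matrix (Fin 3) (Fin 3) F} (h : A.charpoly = B.charpoly) {e e' : Fin 3 → F} {s : F}
    (hs : s ≠ 0) (hB : (krylov B e').det ≠ 0) (hd : (krylov A e).det = s ^ 3 * (krylov B e').det) : SSim A B :=
  ssim_of_krylov h rfl e (s • e') (by rw [hd]; exact mul_ne_zero (pow_ne_zero _ hs) hB)
    (by rw [hd, krylov_smul, Matrix.det_smul, Fintype.card_fin])

/-- **The members**: one free entry below the diagonal. -/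
theorem exists_tri {p f : F[X]} (hp : p.Monic) (hpd : p.natDegree = 3) (hp0 : p.coeff 0 ≠ 0) (hf : f.Monic)
    (hfd : f.natDegree = 3) {z : F} (hz : z ≠ 0) (a : F) :
    ∃ b c w : F, b = -f.coeff 2 + z * p.coeff 1 / p.coeff 0 - a ∧ z ^ 2 * w = dv f * dv p ∧
      SSim (tri z w a b c * compInv p 3) (SLComm.comp f 3) := by
  set A₀ := tri z 0 a 0 0 * compInv p 3 with hA₀
  have hkr : ∀ w b c, (krylov (tri z w a b c * compInv p 3) (Pi.single 2 1)).det = (-z) ^ 3 := fun w b c => by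
    rw [krylov_three, compInv_three hp hpd]
    simp [Matrix.det_fin_three, tri, Matrix.mulVec, dotProduct, Fin.sum_univ_three, Matrix.mul_apply, Pi.single_apply]
    ring
  obtain ⟨v, hv⟩ := exists_change A₀ (Pi.single 2 1)
    (cyc_of_krylov (by rw [hA₀, hkr]; exact pow_ne_zero _ (neg_ne_zero.2 hz))) hf (by rw [hfd, Fintype.card_fin])
  set r := v ᵥ* SLComm.comp p 3 with hr
  have hM : A₀ + Matrix.vecMulVec (Pi.single 2 1) v = tri z (r 2) a (r 1) (r 0) * compInv p 3 := by
    have hvr : v = r ᵥ* compInv p 3 := by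
      rw [hr, Matrix.vecMul_vecMul, comp_mul_compInv (m := 2) hp hpd hp0, Matrix.vecMul_one]
    conv_lhs => rw [hA₀, hvr, ← Matrix.vecMulVec_mul, ← Matrix.add_mul]
    congr 1
    ext i j
    fin_cases i <;> fin_cases j <;> simp [tri, Matrix.vecMulVec_apply]
  rw [hM] at hv
  have hsim : MSim (tri z (r 2) a (r 1) (r 0) * compInv p 3) (SLComm.comp f 3) :=
    Sim.trans (Sim.symm hv) (comp_sim hf hfd)
  have hchar : (tri z (r 2) a (r 1) (r 0) * compInv p 3).charpoly = f := by
    rw [charpoly_of_msim hsim, comp_charpoly hf hfd]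
  refine ⟨r 1, r 0, r 2, ?_, ?_, ?_⟩
  · have htr := Matrix.trace_eq_neg_charpoly_coeff (tri z (r 2) a (r 1) (r 0) * compInv p 3)
    rw [hchar, Fintype.card_fin, compInv_three hp hpd] at htr
    simp [tri, Matrix.trace_fin_three, Matrix.mul_apply, Fin.sum_univ_three] at htr
    field_simp at htr ⊢
    linear_combination htr
  · have h1 := hsim.det_eq
    have h2 : (SLComm.comp p 3).det * (compInv p 3).det = 1 := by
      rw [← Matrix.det_mul, comp_mul_compInv (m := 2) hp hpd hp0, Matrix.det_one]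
    rw [Matrix.det_mul, det_tri, comp_det hf hfd] at h1
    rw [comp_det hp hpd] at h2
    linear_combination dv p * h1 - z ^ 2 * r 2 * h2
  · refine ssim_of_krylov_cube (hchar.trans (comp_charpoly hf hfd).symm) (neg_ne_zero.2 hz) (e := Pi.single 2 1)
      (e' := Pi.single 0 1) ?_ ?_
    · rw [krylov_comp_self (m := 2) hf hfd]; exact one_ne_zero
    · rw [hkr, krylov_comp_self (m := 2) hf hfd, mul_one]

/-! ### Centralisers -/

theorem msim_comp_one (a : F) : MSim (SLComm.comp (X - C a) 1) (a • 1 : Matrix Unit Unit F) := by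
  convert msim_reindex finOneEquiv (SLComm.comp (X - C a) 1) using 1
  ext i j
  simp [SLComm.comp, Matrix.reindex_apply, Matrix.one_apply]

theorem msim_comp_root {a : F} {q : F[X]} (hq : q.Monic) (hqd : q.natDegree = 2) (hqa : q.eval a ≠ 0) :
    MSim (SLComm.comp ((X - C a) * q) 3) (Matrix.fromBlocks (a • 1 : Matrix Unit Unit F) 0 0 (SLComm.comp q 2)) :=
  (msim_comp_mul (monic_X_sub_C a) hq
    ((irreducible_X_sub_C a).coprime_iff_not_dvd.2 fun h => hqa (dvd_iff_isRoot.1 h))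
    (by rw [(monic_X_sub_C a).natDegree_mul hq, natDegree_X_sub_C, hqd]) (natDegree_X_sub_C a) hqd).trans
    (msim_blocks (msim_comp_one a) (MSim.refl _))

theorem surj_comp_irred [Fintype F] {f : F[X]} (hf : f.Monic) (hi : Irreducible f) {k : ℕ} (hk : f.natDegree = k) :
    Surj (SLComm.comp f k) := fun c hc => by
  haveI := hf.finite_adjoinRoot
  haveI : PerfectField F := PerfectField.ofFinite
  obtain ⟨u, hu⟩ := exists_mulLeft_det hf hi.natDegree_pos (PerfectField.separable_of_irreducible hi) c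
  obtain ⟨P, rfl⟩ := AdjoinRoot.mk_surjective u
  refine ⟨aeval (SLComm.comp f k) P, ?_, ?_⟩
  · have h := (sim_aeval (comp_sim hf hk) P).det_eq
    rw [rt_aeval, hu] at h
    rw [h, ← LinearMap.det_toLin']
    congr 1
    exact (Polynomial.aeval_algHom_apply Matrix.toLinAlgEquiv'.toAlgHom _ P).symm
  · have := (Commute.all (X : F[X]) P).map (aeval (SLComm.comp f k))
    rw [aeval_X] at this
    exact this.eq.symm

/-- Split root, irreducible, or one triple root. -/
theorem cubic_cases {f : F[X]} (hf : f.Monic) (hfd : f.natDegree = 3) :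
    (∃ (a : F) (q : F[X]), q.Monic ∧ q.natDegree = 2 ∧ q.eval a ≠ 0 ∧ f = (X - C a) * q) ∨ Irreducible f ∨
      ∃ β : F, f = (X - C β) ^ 3 := by
  by_cases hr : ∃ a, f.IsRoot a
  · obtain ⟨a, ha⟩ := hr
    obtain ⟨q, rfl⟩ := dvd_iff_isRoot.2 ha
    have hq : q.Monic := (monic_X_sub_C a).of_mul_monic_left hf
    have hqd : q.natDegree = 2 := by
      rw [(monic_X_sub_C a).natDegree_mul hq, natDegree_X_sub_C] at hfd; omega
    by_cases hqa : q.eval a = 0
    · obtain ⟨r, rfl⟩ := dvd_iff_isRoot.2 (show q.IsRoot a from hqa)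
      have hr : r.Monic := (monic_X_sub_C a).of_mul_monic_left hq
      have hrd : r.natDegree = 1 := by
        rw [(monic_X_sub_C a).natDegree_mul hr, natDegree_X_sub_C] at hqd; omega
      obtain ⟨b, hb⟩ : ∃ b, r = X - C b := ⟨-r.coeff 0, by rw [map_neg, sub_neg_eq_add]; exact hr.eq_X_add_C hrd⟩
      subst hb
      rcases eq_or_ne b a with rfl | hne
      · exact Or.inr (Or.inr ⟨b, by ring⟩)
      · refine Or.inl ⟨b, (X - C a) * (X - C a), (monic_X_sub_C a).mul (monic_X_sub_C a), ?_, ?_, by ring⟩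
        · rw [(monic_X_sub_C a).natDegree_mul (monic_X_sub_C a), natDegree_X_sub_C]
        · simp [sub_eq_zero, hne]
    · exact Or.inl ⟨a, q, hq, hqd, hqa, rfl⟩
  · exact Or.inr (Or.inl (irreducible_of_degree_le_three_of_not_isRoot (by simp [hfd]) fun x hx => hr ⟨x, hx⟩))

theorem msim_scalar {ι κ : Type} [Fintype ι] [DecidableEq ι] [Fintype κ] [DecidableEq κ]
    (h : Fintype.card ι = Fintype.card κ) (lam : F) :
    MSim (lam • 1 : Matrix ι ι F) (lam • 1 : Matrix κ κ F) := by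
  convert msim_reindex (Fintype.equivOfCardEq h) (lam • 1 : Matrix ι ι F) using 1
  ext i j
  simp [Matrix.reindex_apply, Matrix.one_apply]

theorem blk_linear {lam : F} : ∀ L : List F[X], (∀ f ∈ L, f = X - C lam) →
    MSim (blk L) (lam • 1 : Matrix (Fin L.length) (Fin L.length) F)
  | [], _ => by
    haveI : IsEmpty (Fin (degs ([] : List F[X]))) := by simp only [degs, List.map_nil, List.sum_nil]; infer_instance
    haveI : IsEmpty (Fin ([] : List F[X]).length) := Fin.isEmpty'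
    exact msim_empty _ _
  | f :: L, h => by
    obtain rfl := h f List.mem_cons_self
    refine (blk_cons _ L).trans ((msim_blocks (κ := Unit) (A' := lam • 1) ?_
      (blk_linear L fun g hg => h g (List.mem_cons_of_mem _ hg))).trans ?_)
    · rw [natDegree_X_sub_C]; exact msim_comp_one lam
    · rw [show Matrix.fromBlocks (lam • 1 : Matrix Unit Unit F) 0 0 (lam • 1 : Matrix (Fin L.length) (Fin L.length) F) =
        lam • 1 by ext (i | i) (j | j) <;> simp [Matrix.one_apply]]
      exact msim_scalar (by simp; omega) lam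

theorem msim_quad_lam {ν : Type} [Fintype ν] [DecidableEq ν] {q : F[X]} (hqd : q.natDegree = 2) (hq : q.Monic)
    {lam : F} (hl : lam ≠ 0) (hroot : q.eval lam = 0) :
    ∃ u v : Fin 2 ⊕ ν → F, u ≠ 0 ∧ v ≠ 0 ∧
      Matrix.fromBlocks (SLComm.comp q 2) 0 0 (lam • 1 : Matrix ν ν F) = lam • (1 + Matrix.vecMulVec u v) := by
  have h0 : q.coeff 0 = -lam ^ 2 - q.coeff 1 * lam := by
    rw [Polynomial.eval_eq_sum_range, hqd, Finset.sum_range_succ, Finset.sum_range_succ, Finset.sum_range_one] at hroot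
    rw [show q.coeff 2 = 1 by rw [← hqd]; exact hq.coeff_natDegree] at hroot
    linear_combination hroot
  refine ⟨Sum.elim ![-lam, 1] 0, lam⁻¹ • Sum.elim ![1, -q.coeff 1 - lam] 0,
    fun e => one_ne_zero (α := F) (congrFun e (Sum.inl 1)),
    smul_ne_zero (inv_ne_zero hl) fun e => one_ne_zero (α := F) (congrFun e (Sum.inl 0)), ?_⟩
  rw [Matrix.vecMulVec_smul, smul_add, smul_smul, mul_inv_cancel₀ hl, one_smul]
  ext (i | i) (j | j)
  · fin_cases i <;> fin_cases j <;> simp [SLComm.comp, Matrix.vecMulVec_apply] <;>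
      first
        | linear_combination (0 : F)
        | linear_combination -h0
        | linear_combination h0
  all_goals simp [Matrix.vecMulVec_apply, Matrix.one_apply]

/-- In size three, cyclic or residual rank one. -/
theorem cyclic_or_rankone {A : Matrix (Fin 3) (Fin 3) F} (hA : NS A) (hd : A.det ≠ 0) :
    (∃ p : F[X], p.Monic ∧ p.natDegree = 3 ∧ MSim A (SLComm.comp p 3)) ∨
      ∃ (γ : F) (u v : Fin 3 → F), γ ≠ 0 ∧ u ≠ 0 ∧ v ≠ 0 ∧ MSim A (γ • (1 + Matrix.vecMulVec u v)) := by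
  classical
  obtain ⟨L, hL, hsim, hchain⟩ := exists_chain A
  have hsum : degs L = 3 := by
    obtain ⟨e, -⟩ := hsim
    have := e.finrank_eq
    rwa [Module.finrank_fin_fun, Module.finrank_fin_fun, eq_comm] at this
  match L, hL, hsim, hchain, hsum with
  | [], _, _, _, h => simp [degs] at h
  | [f], hL, hsim, _, h =>
    have hfd : f.natDegree = 3 := by simpa [degs] using h
    refine Or.inl ⟨f, (hL f (by simp)).1, hfd, hsim.trans ((blk_cons f []).trans ((msim_blocks_comm _ _).trans ?_))⟩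
    haveI : IsEmpty (Fin (degs ([] : List F[X]))) := by simp only [degs, List.map_nil, List.sum_nil]; infer_instance
    refine (msim_blocks_empty _ _).trans ?_
    rw [hfd]
    exact MSim.refl _
  | [f, g], hL, hsim, hchain, h =>
    have hf := hL f (by simp)
    have hg := hL g (by simp)
    simp [degs] at h
    obtain ⟨q, l, hq, hl, hql, hqd, hld, hs⟩ : ∃ q l : F[X], q.Monic ∧ l.Monic ∧ l ∣ q ∧ q.natDegree = 2 ∧
        l.natDegree = 1 ∧ MSim A (blk [q, l]) := by
      rcases Nat.lt_or_ge g.natDegree f.natDegree with hlt | hge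
      · exact ⟨f, g, hf.1, hg.1, hchain f (by simp) g (by simp) hlt.le, by omega, by omega, hsim⟩
      · exact ⟨g, f, hg.1, hf.1, hchain g (by simp) f (by simp) hge, by omega, by omega,
          hsim.trans (blk_perm (List.Perm.swap _ _ _))⟩
    obtain ⟨lam, rfl⟩ : ∃ lam, l = X - C lam := ⟨-l.coeff 0, by rw [map_neg, sub_neg_eq_add]; exact hl.eq_X_add_C hld⟩
    have hsim' : MSim A (Matrix.fromBlocks (SLComm.comp q 2) 0 0 (lam • 1 : Matrix Unit Unit F)) := by
      refine hs.trans ((blk_cons q _).trans (msim_blocks ?_ ?_))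
      · rw [hqd]; exact MSim.refl _
      · refine (blk_cons _ []).trans ((msim_blocks_comm _ _).trans ?_)
        haveI : IsEmpty (Fin (degs ([] : List F[X]))) := by simp only [degs, List.map_nil, List.sum_nil]; infer_instance
        refine (msim_blocks_empty _ _).trans ?_
        rw [natDegree_X_sub_C]
        exact msim_comp_one lam
    have hl0 : lam ≠ 0 := fun e => hd (by
      rw [hsim'.det_eq, e, Matrix.det_fromBlocks_zero₂₁, zero_smul, Matrix.det_zero, mul_zero])
    obtain ⟨u, v, hu, hv, he⟩ := msim_quad_lam (ν := Unit) hqd hq hl0 (dvd_iff_isRoot.1 hql)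
    rw [he] at hsim'
    let e : Fin 2 ⊕ Unit ≃ Fin 3 := Fintype.equivFinOfCardEq (by simp)
    refine Or.inr ⟨lam, u ∘ e.symm, v ∘ e.symm, hl0,
      fun h' => hu (funext fun i => by simpa using congrFun h' (e i)),
      fun h' => hv (funext fun i => by simpa using congrFun h' (e i)), hsim'.trans ?_⟩
    convert msim_reindex e (lam • (1 + Matrix.vecMulVec u v)) using 1
    ext i j
    simp [Matrix.vecMulVec_apply, Matrix.one_apply, mul_add]
  | [f, g, k], hL, hsim, hchain, h =>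
    have hf := hL f (by simp)
    have hg := hL g (by simp)
    have hk := hL k (by simp)
    simp [degs] at h
    have h1 : f.natDegree = 1 ∧ g.natDegree = 1 ∧ k.natDegree = 1 := by omega
    have hgf : f = g := Polynomial.eq_of_monic_of_dvd_of_natDegree_le hg.1 hf.1
      (hchain f (by simp) g (by simp) (by omega)) (by omega)
    have hkf : f = k := Polynomial.eq_of_monic_of_dvd_of_natDegree_le hk.1 hf.1
      (hchain f (by simp) k (by simp) (by omega)) (by omega)
    subst hgf hkf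
    obtain ⟨lam, rfl⟩ : ∃ lam, f = X - C lam := ⟨-f.coeff 0, by rw [map_neg, sub_neg_eq_add]; exact hf.1.eq_X_add_C (by omega)⟩
    exact absurd rfl ((hA.of_msim hsim).of_msim (blk_linear _ (fun x hx => by simpa using hx)) lam)
  | f :: g :: k :: m :: L, hL, _, _, h =>
    exfalso
    have hf := (hL f (by simp)).2
    have hg := (hL g (by simp)).2
    have hk := (hL k (by simp)).2
    have hm := (hL m (by simp)).2
    simp [degs] at h
    omega

/-! ### Pair times one -/

/-- A spread pair of the class with given product. -/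
def HasPair {ι : Type} [Fintype ι] [DecidableEq ι] (x T : Matrix ι ι F) : Prop :=
  ∃ y y', SSim y x ∧ SSim y' x ∧ y * y' = T ∧ Spread [y, y']

theorem HasPair.conj {ι : Type} [Fintype ι] [DecidableEq ι] {x T T' : Matrix ι ι F} (h : HasPair x T)
    (hT : SSim T' T ∨ MSim T' T ∧ Surj x) : HasPair x T' := by
  obtain ⟨y, y', hy, hy', rfl, hs⟩ := h
  obtain ⟨P, Q, hPQ, hQP, hP, he⟩ : ∃ P Q : Matrix ι ι F, P * Q = 1 ∧ Q * P = 1 ∧ (P.det = 1 ∨ Surj x) ∧
      T' = P * (y * y') * Q := by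
    rcases hT with ⟨P, Q, hPQ, hP, he⟩ | ⟨hT, hx⟩
    · exact ⟨P, Q, hPQ, mul_eq_one_comm.1 hPQ, Or.inl hP, he⟩
    · obtain ⟨P, Q, hPQ, hQP, he⟩ := hT.exists_conj
      exact ⟨P, Q, hPQ, hQP, Or.inr hx, he⟩
  have hz : ∀ z, SSim z x → SSim (P * z * Q) x := fun z hz => by
    rcases hP with hP | hx
    · exact SSim.trans ⟨P, Q, hPQ, hP, rfl⟩ hz
    · exact hx.ssim ((msim_conj _ _ _ hPQ).trans hz.msim)
  refine ⟨P * y * Q, P * y' * Q, hz y hy, hz y' hy', ?_, hs.map P Q hPQ hQP⟩
  rw [he]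
  simp only [Matrix.mul_assoc]
  rw [← Matrix.mul_assoc Q P, hQP, Matrix.one_mul]

/-- Three factors from a pair and one. -/
theorem list_of_pair {ι : Type} [Fintype ι] [DecidableEq ι] {x M T y g : Matrix ι ι F} (hM : HasPair x M)
    (hg : MSim g (T * y)) (hT : MSim T M) (hy : MSim y x) (h : Surj x ∨ (Surj M ∧ Surj g)) :
    ∃ l : List (Matrix ι ι F), l.length = 3 ∧ (∀ a ∈ l, SSim a x) ∧ l.prod = g ∧ Spread l := by
  obtain ⟨P, Q, hPQ, hQP, rfl⟩ := hy.exists_conj
  have hT' : MSim (Q * T * P) M := (msim_conj _ _ _ hQP).trans hT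
  obtain ⟨y₁, y₂, h₁, h₂, h₁₂, hs⟩ := hM.conj (T' := Q * T * P) (by
    rcases h with h | ⟨h, -⟩
    exacts [Or.inr ⟨hT', h⟩, Or.inl (h.ssim hT')])
  have hg' : MSim g (Q * T * P * x) := by
    refine hg.trans ((msim_conj (T * (P * x * Q)) Q P hQP).symm.trans ?_)
    simp only [Matrix.mul_assoc, hQP, Matrix.mul_one]
    exact MSim.refl _
  obtain ⟨R, S, hRS, hSR, hd, rfl⟩ : ∃ R S : Matrix ι ι F, R * S = 1 ∧ S * R = 1 ∧ (R.det = 1 ∨ Surj x) ∧
      g = R * (Q * T * P * x) * S := by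
    rcases h with h | ⟨-, h⟩
    · obtain ⟨R, S, hRS, hSR, he⟩ := hg'.exists_conj
      exact ⟨R, S, hRS, hSR, Or.inr h, he⟩
    · obtain ⟨R, S, hRS, hR, he⟩ := (h.ssim hg'.symm).symm
      exact ⟨R, S, hRS, mul_eq_one_comm.1 hRS, Or.inl hR, he⟩
  refine ⟨[y₁, y₂, x].map fun z => R * z * S, rfl, fun a ha => ?_, ?_,
    (hs.mono (l' := [y₁, y₂, x]) (by simp)).map R S hRS hSR⟩
  · obtain ⟨z, hz, rfl⟩ := List.mem_map.1 ha
    have hzx : SSim z x := by
      simp only [List.mem_cons, List.not_mem_nil, or_false] at hz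
      rcases hz with rfl | rfl | rfl
      exacts [h₁, h₂, SSim.refl _]
    rcases hd with hd | hd
    · exact SSim.trans ⟨R, S, hRS, hd, rfl⟩ hzx
    · exact hd.ssim ((msim_conj _ _ _ hRS).trans hzx.msim)
  · rw [prod_map_conj R S hRS hSR, List.prod_cons, List.prod_cons, List.prod_singleton, ← Matrix.mul_assoc y₁, h₁₂]

/-- A pair lands on a triangular matrix; spreading needs only that the two differ on a fixed row. -/
theorem hasPair_tri {f : F[X]} (hf : f.Monic) (hfd : f.natDegree = 3) (h0 : f.coeff 0 ≠ 0) {z w a b c : F}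
    (hy : SSim (tri z w a b c * compInv f 3) (SLComm.comp f 3))
    (hs : Spread [tri z w a b c * compInv f 3, SLComm.comp f 3]) : HasPair (SLComm.comp f 3) (tri z w a b c) :=
  ⟨_, _, hy, SSim.refl _, by
    rw [Matrix.mul_assoc, mul_eq_one_comm.1 (comp_mul_compInv (m := 2) hf hfd h0), Matrix.mul_one], hs⟩

/-- Every nonscalar target factors through the pair class. -/
theorem exists_factor [Fintype F] (hq : 4 ≤ Fintype.card F) {f : F[X]} (hf : f.Monic) (hfd : f.natDegree = 3)
    {z w : F} (hz : z ≠ 0) (hzw : z ^ 2 * w = dv f ^ 2)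
    (hne : ∀ r s : F, f = (X - C r) ^ 2 * (X - C s) → r = s ∧ z ≠ w) (hf0 : f.coeff 0 ≠ 0)
    {g : Matrix (Fin 3) (Fin 3) F} (hg : NS g) (hgd : g.det = dv f ^ 3) :
    ∃ T y : Matrix (Fin 3) (Fin 3) F, ∃ a b c : F, a ≠ 0 ∧ (z ≠ w ∨ b ≠ 0) ∧ T = tri z w a b c ∧
      MSim y (SLComm.comp f 3) ∧ MSim g (T * y) := by
  classical
  have hd : dv f ≠ 0 := by rw [dv_three hfd]; exact neg_ne_zero.2 hf0
  have hw : w ≠ 0 := fun e => pow_ne_zero 2 hd (by rw [← hzw, e, mul_zero])
  have hg0 : g.det ≠ 0 := by rw [hgd]; exact pow_ne_zero _ hd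
  have hgg : g * g⁻¹ = 1 := Matrix.mul_nonsing_inv _ (isUnit_iff_ne_zero.2 hg0)
  have hgid : g.det * g⁻¹.det = 1 := by rw [← Matrix.det_mul, hgg, Matrix.det_one]
  rcases cyclic_or_rankone (hg.inv hgg) (right_ne_zero_of_mul_eq_one hgid) with
    ⟨p, hp, hpd, hgp⟩ | ⟨γ, u, v, hγ, hu, hv, hgp⟩
  · have hpdet : dv p = g⁻¹.det := by rw [hgp.det_eq, comp_det hp hpd]
    have hp0 : p.coeff 0 ≠ 0 := fun e => by
      have h := right_ne_zero_of_mul_eq_one hgid
      rw [← hpdet, dv_three hpd, e, neg_zero] at h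
      exact h rfl
    obtain ⟨a, ha0, haS, -⟩ := exists_avoid_sq hq 0 (-f.coeff 2 + z⁻¹ * p.coeff 1 / p.coeff 0) 0
    obtain ⟨b, c, w', hb, hw', hy⟩ := exists_tri hp hpd hp0 hf hfd (inv_ne_zero hz) a
    have hb0 : b ≠ 0 := by rw [hb]; exact sub_ne_zero.2 (Ne.symm haS)
    have hw'w : w' = w⁻¹ := by
      have h1 : dv f ^ 3 * dv p = 1 := by rw [hpdet, ← hgd]; exact hgid
      field_simp at hw'
      refine eq_inv_of_mul_eq_one_left (mul_left_cancel₀ (pow_ne_zero 2 hd) ?_)
      linear_combination w * dv f ^ 2 * hw' + z ^ 2 * 0 * h1 + dv f ^ 3 * dv p * hzw + dv f ^ 2 * h1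
    subst hw'w
    refine ⟨_, _, -a / z⁻¹ ^ 2, -b / (z⁻¹ * w⁻¹), (a * b / z⁻¹ - c) / (z⁻¹ * w⁻¹), ?_, Or.inr ?_, rfl, hy.msim, ?_⟩
    · exact div_ne_zero (neg_ne_zero.2 ha0) (pow_ne_zero _ (inv_ne_zero hz))
    · exact div_ne_zero (neg_ne_zero.2 hb0) (mul_ne_zero (inv_ne_zero hz) (inv_ne_zero hw))
    · have h1 := tri_inv (inv_ne_zero hz) (inv_ne_zero hw) a b c
      rw [inv_inv, inv_inv] at h1
      rw [← Matrix.mul_assoc, mul_eq_one_comm.1 h1, Matrix.one_mul]
      exact msim_inv (mul_eq_one_comm.1 hgg) (comp_mul_compInv (m := 2) hp hpd hp0) hgp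
  · -- residual rank one
    have hgd' : g⁻¹.det = γ ^ 3 * (1 + v ⬝ᵥ u) := by
      rw [hgp.det_eq, Matrix.det_smul, Fintype.card_fin, Matrix.vecMulVec_eq Unit,
        Matrix.det_one_add_replicateCol_mul_replicateRow]
    have hν : 1 + v ⬝ᵥ u ≠ 0 := fun e => right_ne_zero_of_mul_eq_one hgid (by rw [hgd', e, mul_zero])
    have hginv : MSim g (γ⁻¹ • (1 + Matrix.vecMulVec (-(1 + v ⬝ᵥ u)⁻¹ • u) v)) := by
      refine msim_inv (mul_eq_one_comm.1 hgg) ?_ hgp
      rw [Matrix.smul_mul, Matrix.mul_smul, smul_smul, mul_inv_cancel₀ hγ, one_smul, Matrix.add_mul, Matrix.one_mul,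
        Matrix.mul_add, Matrix.mul_one, Matrix.smul_vecMulVec, Matrix.mul_smul, Matrix.vecMulVec_mul_vecMulVec,
        Matrix.vecMulVec_smul, smul_smul]
      have e : -(1 + v ⬝ᵥ u)⁻¹ + -(1 + v ⬝ᵥ u)⁻¹ * (v ⬝ᵥ u) + 1 = 0 := by field_simp; ring
      match_scalars <;> first | linear_combination e | linear_combination (0 : F)
    set δ := γ⁻¹ with hδdef
    have hδ : δ ≠ 0 := inv_ne_zero hγ
    set H := tri z⁻¹ w⁻¹ (-(1 : F) / z ^ 2) (-1 / (z * w)) ((1 * 1 / z - 0) / (z * w)) with hH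
    have hTH : tri z w 1 1 0 * H = 1 := tri_inv hz hw 1 1 0
    obtain ⟨e, he⟩ := tri_cyc (z := z⁻¹) (w := w⁻¹) (a := -(1 : F) / z ^ 2) (b := -1 / (z * w))
      (c := (1 * 1 / z - 0) / (z * w)) (div_ne_zero (neg_ne_zero.2 one_ne_zero) (pow_ne_zero _ hz))
      (Or.inr (div_ne_zero (neg_ne_zero.2 one_ne_zero) (mul_ne_zero hz hw)))
    have hcyc : Cyc (δ • H) e := by
      have hs : ∀ i : ℕ, (δ • H) ^ i *ᵥ e = δ ^ i • (H ^ i *ᵥ e) := fun i => by
        rw [_root_.smul_pow, Matrix.smul_mulVec]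
      rw [Cyc, eq_top_iff, ← he, Submodule.span_le]
      rintro _ ⟨i, rfl⟩
      show H ^ i *ᵥ e ∈ _
      rw [show H ^ i *ᵥ e = (δ ^ i)⁻¹ • ((δ • H) ^ i *ᵥ e) by
        rw [hs, inv_smul_smul₀ (pow_ne_zero _ hδ)]]
      exact Submodule.smul_mem _ _ (Submodule.subset_span ⟨i, rfl⟩)
    obtain ⟨x, hx⟩ := exists_change (δ • H) e hcyc hf (by rw [hfd, Fintype.card_fin])
    have hy : MSim (δ • H + Matrix.vecMulVec e x) (SLComm.comp f 3) := Sim.trans (Sim.symm hx) (comp_sim hf hfd)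
    refine ⟨_, _, 1, 1, 0, one_ne_zero, Or.inr one_ne_zero, rfl, hy, ?_⟩
    have hTy : tri z w 1 1 0 * (δ • H + Matrix.vecMulVec e x) =
        δ • (1 + Matrix.vecMulVec (tri z w 1 1 0 *ᵥ e) (δ⁻¹ • x)) := by
      rw [Matrix.mul_add, Matrix.mul_smul, hTH, Matrix.mul_vecMulVec, Matrix.vecMulVec_smul, smul_add, smul_smul,
        mul_inv_cancel₀ hδ, one_smul]
    rw [hTy]
    refine hginv.trans (MSim.smul δ (ssim_rankone (by simp) (smul_ne_zero (neg_ne_zero.2 (inv_ne_zero hν)) hu) ?_ hv ?_ ?_).msim)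
    · intro h
      have he0 : e = 0 := by
        rw [← Matrix.one_mulVec e, ← mul_eq_one_comm.1 hTH, ← Matrix.mulVec_mulVec, h, Matrix.mulVec_zero]
      subst he0
      have h2 := (SLComm.cyc_iff _ _).1 he ⊥ (zero_mem _) (fun v hv => by
        rw [Submodule.mem_bot] at hv ⊢; rw [hv, Matrix.mulVec_zero])
      exact bot_ne_top h2
    · refine smul_ne_zero (inv_ne_zero hδ) fun h => ?_
      rw [h, Matrix.vecMulVec_zero, add_zero] at hy
      have hc := charpoly_of_msim hy
      rw [comp_charpoly hf hfd] at hc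
      have hsm : δ • H = tri (δ * z⁻¹) (δ * w⁻¹) (δ * (-(1 : F) / z ^ 2)) (δ * (-1 / (z * w)))
          (δ * ((1 * 1 / z - 0) / (z * w))) := by
        ext i j
        fin_cases i <;> fin_cases j <;> simp [hH, tri]
      rw [hsm, charpoly_tri] at hc
      obtain ⟨h1, h2⟩ := hne _ _ hc.symm
      exact h2 (inv_injective (mul_left_cancel₀ hδ h1))
    · have h1 : (δ • H + Matrix.vecMulVec e x).det = dv f := by rw [hy.det_eq, comp_det hf hfd]
      have h2 : (tri z w 1 1 0 * (δ • H + Matrix.vecMulVec e x)).det = g.det := by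
        rw [Matrix.det_mul, det_tri, h1, hzw, hgd]; ring
      rw [hTy, hginv.det_eq, Matrix.det_smul, Matrix.det_smul, Matrix.vecMulVec_eq Unit,
        Matrix.det_one_add_replicateCol_mul_replicateRow, Matrix.vecMulVec_eq Unit,
        Matrix.det_one_add_replicateCol_mul_replicateRow] at h2
      exact (add_left_cancel (mul_left_cancel₀ (pow_ne_zero _ hδ) h2)).symm

end Cfsg.Lib.Linear.PSLCover
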