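import Cfsg.Agent.Lib.Linear.PSLCover.Glue

/-!
# Steps by frames

A block is added with two factors when some rows of the matrix are independent of their images: the
factors carry prescribed rows to prescribed rows and leave a nonscalar quotient.
-/

set_option autoImplicit false
set_option linter.unusedSectionVars false
set_option linter.unusedSimpArgs false

universe u

namespace Cfsg.Lib.Linear.PSLCover

open Module
open scoped Matrix

variable {F : Type u} [Field F]
variable {ι κ μ ρ : Type} [Fintype ι] [DecidableEq ι] [Fintype κ] [DecidableEq κ] [Fintype μ] [DecidableEq μ]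
  [Fintype ρ] [DecidableEq ρ]

/-- Independent rows are carried to independent rows in determinant one, short of a full basis. -/
theorem exists_det_map {v w : ρ → μ → F} (hv : LinearIndependent F v) (hw : LinearIndependent F w)
    (hc : Fintype.card ρ < Fintype.card μ) :
    ∃ S S' : Matrix μ μ F, S * S' = 1 ∧ S.det = 1 ∧ ∀ i, v i ᵥ* S = w i := by
  classical
  let bv := Basis.sumExtend hv
  let bw := Basis.sumExtend hw
  haveI : Finite (Basis.sumExtendIndex hv) := by
    haveI := FiniteDimensional.fintypeBasisIndex bv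
    exact Finite.of_injective (Sum.inr : _ → ρ ⊕ _) Sum.inr_injective
  haveI : Finite (Basis.sumExtendIndex hw) := by
    haveI := FiniteDimensional.fintypeBasisIndex bw
    exact Finite.of_injective (Sum.inr : _ → ρ ⊕ _) Sum.inr_injective
  haveI := Fintype.ofFinite (Basis.sumExtendIndex hv)
  haveI := Fintype.ofFinite (Basis.sumExtendIndex hw)
  have cv : Fintype.card ρ + Fintype.card (Basis.sumExtendIndex hv) = Fintype.card μ := by
    rw [← Fintype.card_sum, ← Module.finrank_eq_card_basis bv, Module.finrank_fintype_fun_eq_card]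
  have cw : Fintype.card ρ + Fintype.card (Basis.sumExtendIndex hw) = Fintype.card μ := by
    rw [← Fintype.card_sum, ← Module.finrank_eq_card_basis bw, Module.finrank_fintype_fun_eq_card]
  let e : Basis.sumExtendIndex hv ≃ Basis.sumExtendIndex hw := Fintype.equivOfCardEq (by omega)
  obtain ⟨j₀⟩ : Nonempty (Basis.sumExtendIndex hv) := Fintype.card_pos_iff.1 (by omega)
  let φ : (μ → F) ≃ₗ[F] (μ → F) := bv.equiv bw (Equiv.sumCongr (Equiv.refl ρ) e)
  let D : F := LinearMap.det (φ : (μ → F) →ₗ[F] (μ → F))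
  have hD : D ≠ 0 := (LinearEquiv.isUnit_det' φ).ne_zero
  let d : ρ ⊕ Basis.sumExtendIndex hv → F := Function.update 1 (Sum.inr j₀) D⁻¹
  let σ : (μ → F) →ₗ[F] (μ → F) := Matrix.toLin bv bv (Matrix.diagonal d)
  have hσ : ∀ i, σ (bv (Sum.inl i)) = bv (Sum.inl i) := fun i => by
    simp only [σ, Matrix.toLin_self]
    rw [Finset.sum_eq_single (Sum.inl i) (fun b _ hb => by rw [Matrix.diagonal_apply_ne _ hb, zero_smul]) (by simp),
      Matrix.diagonal_apply_eq]
    simp [d]
  let S : Matrix μ μ F := (LinearMap.toMatrix' ((φ : (μ → F) →ₗ[F] (μ → F)) ∘ₗ σ))ᵀ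
  have hS : S.det = 1 := by
    rw [Matrix.det_transpose, LinearMap.det_toMatrix', LinearMap.det_comp, LinearMap.det_toLin, Matrix.det_diagonal,
      Finset.prod_update_of_mem (Finset.mem_univ _)]
    simp only [Pi.one_apply, Finset.prod_const_one, mul_one]
    exact mul_inv_cancel₀ hD
  refine ⟨S, S⁻¹, Matrix.mul_nonsing_inv _ (by rw [hS]; exact isUnit_one), hS, fun i => ?_⟩
  have hbv : bv (Sum.inl i) = v i := by simp [bv, Basis.sumExtend, Basis.extend]; rfl
  have hbw : bw (Sum.inl i) = w i := by simp [bw, Basis.sumExtend, Basis.extend]; rfl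
  rw [Matrix.vecMul_transpose, LinearMap.toMatrix'_mulVec, LinearMap.comp_apply, ← hbv, hσ, LinearEquiv.coe_coe,
    Basis.equiv_apply]
  simpa using hbw

theorem exists_notMem_two {V : Type*} [AddCommGroup V] [Module F V] {A B : Submodule F V} (hA : A ≠ ⊤) (hB : B ≠ ⊤) :
    ∃ v, v ∉ A ∧ v ∉ B := by
  obtain ⟨a, ha⟩ : ∃ a, a ∉ A := by
    by_contra h; push Not at h; exact hA (Submodule.eq_top_iff'.2 h)
  obtain ⟨b, hb⟩ : ∃ b, b ∉ B := by
    by_contra h; push Not at h; exact hB (Submodule.eq_top_iff'.2 h)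
  by_cases ha' : a ∈ B
  · by_cases hb' : b ∈ A
    · exact ⟨a + b, fun h => ha (by simpa using sub_mem h hb'), fun h => hb (by simpa using sub_mem h ha')⟩
    · exact ⟨b, hb', hb⟩
  · exact ⟨a, ha, ha'⟩

/-- A common complement to two families. -/
theorem exists_middle {r : ℕ} {E U : Fin r → μ → F} (hE : LinearIndependent F E) (hU : LinearIndependent F U)
    (hr : 2 * r ≤ Fintype.card μ) : ∀ j, j ≤ r → ∃ W : Fin j → μ → F,
      LinearIndependent F (Sum.elim E W) ∧ LinearIndependent F (Sum.elim U W)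
  | 0, _ => ⟨Fin.elim0, hE.sum_type linearIndependent_empty_type (by simp),
      hU.sum_type linearIndependent_empty_type (by simp)⟩
  | j + 1, hj => by
    obtain ⟨W, hW, hW'⟩ := exists_middle hE hU hr j (by omega)
    have hne : ∀ f : Fin r → μ → F, Submodule.span F (Set.range (Sum.elim f W)) ≠ ⊤ := fun f h => by
      have h1 := finrank_range_le_card (R := F) (Sum.elim f W)
      rw [Set.finrank, h, finrank_top, Module.finrank_fintype_fun_eq_card, Fintype.card_sum, Fintype.card_fin,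
        Fintype.card_fin] at h1
      omega
    obtain ⟨v, hv, hv'⟩ := exists_notMem_two (hne E) (hne U)
    let q : Option (Fin r ⊕ Fin j) ≃ Fin r ⊕ Fin (j + 1) :=
      { toFun := fun o => o.elim (Sum.inr 0) (Sum.map id Fin.succ)
        invFun := fun s => s.elim (fun i => some (Sum.inl i)) (fun i => Fin.cases none (fun i => some (Sum.inr i)) i)
        left_inv := fun o => by rcases o with _ | (i | i) <;> simp
        right_inv := fun s => by
          rcases s with i | i
          · simp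
          · induction i using Fin.cases <;> simp }
    have key : ∀ f : Fin r → μ → F, LinearIndependent F (Sum.elim f W) →
        v ∉ Submodule.span F (Set.range (Sum.elim f W)) → LinearIndependent F (Sum.elim f (Fin.cons v W)) :=
      fun f hf hvf => by
        refine (linearIndependent_equiv q).1 ?_
        have e1 : Sum.elim f (Fin.cons v W) ∘ q = fun o => Option.casesOn' o v (Sum.elim f W) := by
          funext o; rcases o with _ | (i | i) <;> simp [q]
        rw [e1, linearIndependent_option']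
        exact ⟨hf, hvf⟩
    exact ⟨Fin.cons v W, key E hW hv, key U hW' hv'⟩

/-- Some rows independent of their images. -/
def HasFrame (ρ : Type) [Fintype ρ] (X : Matrix μ μ F) : Prop :=
  ∃ E : ρ → μ → F, LinearIndependent F (Sum.elim E fun i => E i ᵥ* X)

theorem exists_frame_conj' {X X' : Matrix μ μ F} (hX' : X * X' = 1) (hX : HasFrame ρ X) {E U : ρ → μ → F}
    (hEU : LinearIndependent F (Sum.elim E U)) (hc : 2 * Fintype.card ρ < Fintype.card μ) :
    ∃ h h' : Matrix μ μ F, SSim h X ∧ h * h' = 1 ∧ ∀ i, E i ᵥ* h = U i := by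
  obtain ⟨E₀, hE₀⟩ := hX
  obtain ⟨S, S', hSS', hS, hmap⟩ := exists_det_map hE₀ hEU (by rw [Fintype.card_sum]; omega)
  have hS'S := mul_eq_one_comm.1 hSS'
  refine ⟨S' * X * S, S' * X' * S, ⟨S', S, hS'S, ?_, rfl⟩, ?_, fun i => ?_⟩
  · simpa [hS] using congrArg Matrix.det hSS'
  · simp only [Matrix.mul_assoc]
    rw [← Matrix.mul_assoc S S', hSS', Matrix.one_mul, ← Matrix.mul_assoc X, hX', Matrix.one_mul, hS'S]
  · have hE : E i ᵥ* S' = E₀ i := by
      have h0 : E₀ i ᵥ* S = E i := hmap (Sum.inl i)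
      rw [← h0, Matrix.vecMul_vecMul, hSS', Matrix.vecMul_one]
    rw [← Matrix.vecMul_vecMul, ← Matrix.vecMul_vecMul, hE]
    exact hmap (Sum.inr i)

/-- **One step**: the rows `E` are moved as prescribed and the quotient is covered below. -/
theorem sprod_step {x₁ c c' : Matrix ι ι F} {x₂ : Matrix κ κ F} {k : ℕ} (hk : Cov k x₂)
    (hc : SSim c x₁) (hcc : c * c' = 1) (hx₂ : x₂.det ≠ 0) (hι : 0 < Fintype.card ι)
    (hn : Fintype.card ι < Fintype.card κ) (hX : HasFrame ι (Matrix.fromBlocks x₁ 0 0 x₂))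
    {g : Matrix (ι ⊕ κ) (ι ⊕ κ) F} (hg : g.det = (Matrix.fromBlocks x₁ 0 0 x₂).det ^ (k + 1))
    (E : Matrix ι (ι ⊕ κ) F) (hEU : LinearIndependent F (Sum.elim E.row (c' ^ k * E * g).row)) :
    ∃ l : List (Matrix (ι ⊕ κ) (ι ⊕ κ) F), l.length = k + 1 ∧
      (∀ a ∈ l, SSim a (Matrix.fromBlocks x₁ 0 0 x₂)) ∧ l.prod = g ∧ Spread l := by
  classical
  set X := Matrix.fromBlocks x₁ 0 0 x₂ with hXdef
  set U := c' ^ k * E * g with hUdef
  have hd₁ : x₁.det ≠ 0 := by
    rw [← hc.det_eq]; exact left_ne_zero_of_mul_eq_one (by rw [← Matrix.det_mul, hcc, Matrix.det_one] : c.det * c'.det = 1)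
  have hXd : X.det ≠ 0 := by rw [hXdef, Matrix.det_fromBlocks_zero₂₁]; exact mul_ne_zero hd₁ hx₂
  have hXX : X * X⁻¹ = 1 := Matrix.mul_nonsing_inv _ (isUnit_iff_ne_zero.2 hXd)
  have hcard : 2 * Fintype.card ι < Fintype.card (ι ⊕ κ) := by rw [Fintype.card_sum]; omega
  obtain ⟨h, h', hh, hhh', hEh⟩ := exists_frame_conj' hXX hX hEU hcard
  obtain ⟨P, P', hPP', hP, hPE⟩ := exists_det_map (v := fun i : ι => (Pi.single (Sum.inl i) 1 : ι ⊕ κ → F))
    ((Pi.linearIndependent_single_one (ι ⊕ κ) F).comp Sum.inl Sum.inl_injective) (hEU.comp Sum.inl Sum.inl_injective)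
    (by rw [Fintype.card_sum]; omega)
  simp only [Matrix.single_one_vecMul] at hPE
  replace hPE : ∀ i, P.row (Sum.inl i) = E.row i := hPE
  have hP'P := mul_eq_one_comm.1 hPP'
  have hPrange : ∀ y : ι ⊕ κ → F, (∀ j, y (Sum.inr j) = 0) → y ᵥ* P = (y ∘ Sum.inl) ᵥ* E := fun y hy => by
    funext j
    simp only [Matrix.vecMul, dotProduct, Fintype.sum_sum_type, hy, zero_mul, Finset.sum_const_zero, add_zero,
      Function.comp_apply]
    exact Finset.sum_congr rfl fun i _ => congrArg _ (congrFun (hPE i) j)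
  have hcpow : c ^ k * c' ^ k = 1 := by
    rw [← (show Commute c c' from hcc.trans (mul_eq_one_comm.1 hcc).symm).mul_pow, hcc, one_pow]
  have hEg : E * g = c ^ k * U := by
    rw [hUdef, ← Matrix.mul_assoc, ← Matrix.mul_assoc, hcpow, Matrix.one_mul]
  -- the shape of the quotient for an admissible factor
  have htop : ∀ y y' : Matrix (ι ⊕ κ) (ι ⊕ κ) F, y * y' = 1 → (∀ i, E.row i ᵥ* y = U.row i) →
      P * g * y' * P' = Matrix.fromBlocks (c ^ k) 0 (P * g * y' * P').toBlocks₂₁ (P * g * y' * P').toBlocks₂₂ := by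
    intro y y' hy hEy
    have hEyU : E * y = U := by
      ext i j; exact congrFun (hEy i) j
    have hEP : E * P' = Matrix.fromCols (1 : Matrix ι ι F) 0 := by
      ext i j
      have : E.row i ᵥ* P' = Pi.single (Sum.inl i) 1 := by
        rw [← hPE i]
        show (P.row (Sum.inl i)) ᵥ* P' = _
        rw [← Matrix.single_one_vecMul (Sum.inl i) P, Matrix.vecMul_vecMul, hPP', Matrix.vecMul_one]
      have h2 := congrFun this j
      rw [show (E * P') i j = (E.row i ᵥ* P') j from rfl, h2]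
      rcases j with j | j <;> simp [Pi.single_apply, Matrix.one_apply, eq_comm]
    have hEgy : E * g * y' * P' = Matrix.fromCols (c ^ k) 0 := by
      rw [hEg, ← hEyU, Matrix.mul_assoc (c ^ k), Matrix.mul_assoc E, hy, Matrix.mul_one, Matrix.mul_assoc, hEP]
      ext i (j | j) <;> simp [Matrix.mul_apply, Matrix.one_apply]
    conv_lhs => rw [← Matrix.fromBlocks_toBlocks (P * g * y' * P')]
    have hrow : ∀ i j, (P * g * y' * P') (Sum.inl i) j = (E * g * y' * P') i j := fun i j => by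
      simp only [Matrix.mul_assoc]
      rw [Matrix.mul_apply, Matrix.mul_apply]
      exact Finset.sum_congr rfl fun b _ => by rw [show P (Sum.inl i) b = E i b from congrFun (hPE i) b]
    congr 1
    · ext i j; simp [Matrix.toBlocks₁₁, hrow, hEgy]
    · ext i j; simp [Matrix.toBlocks₁₂, hrow, hEgy]
  -- a bad quotient pins the factor
  have hbad : ∀ y y' : Matrix (ι ⊕ κ) (ι ⊕ κ) F, y * y' = 1 → (∀ i, E.row i ᵥ* y = U.row i) → ∀ σ : F,
      (P * g * y' * P').toBlocks₂₂ = σ • 1 → ∀ w, ∃ a : ι → F, w ᵥ* g - σ • (w ᵥ* y) = a ᵥ* U := by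
    intro y y' hy hEy σ hσ w
    have hM := htop y y' hy hEy
    let z := (w ᵥ* P') ᵥ* (P * g * y' * P') - σ • (w ᵥ* P')
    have hz : ∀ j, z (Sum.inr j) = 0 := fun j => by
      simp only [z, Pi.sub_apply, Pi.smul_apply]
      rw [hM, hσ, Matrix.vecMul_fromBlocks]
      simp [Matrix.vecMul_smul]
    refine ⟨z ∘ Sum.inl, ?_⟩
    have h1 : z ᵥ* P = (z ∘ Sum.inl) ᵥ* E := hPrange z hz
    have h2 : z ᵥ* P = w ᵥ* g ᵥ* y' - σ • w := by
      simp only [z, Matrix.sub_vecMul, Matrix.smul_vecMul, Matrix.vecMul_vecMul, hP'P, Matrix.vecMul_one]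
      simp only [← Matrix.mul_assoc, hP'P, Matrix.one_mul]
      simp only [Matrix.mul_assoc, hP'P, Matrix.mul_one]
    have hEyU : E * y = U := by
      ext i j; exact congrFun (hEy i) j
    rw [← hEyU, ← Matrix.vecMul_vecMul, ← h1, h2, Matrix.sub_vecMul, Matrix.smul_vecMul, Matrix.vecMul_vecMul,
      mul_eq_one_comm.1 hy, Matrix.vecMul_one]
  have hyd : ∀ y y' : Matrix (ι ⊕ κ) (ι ⊕ κ) F, SSim y X → y * y' = 1 → (∀ i, E.row i ᵥ* y = U.row i) →
      (P * g * y' * P').toBlocks₂₂.det = x₂.det ^ k := by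
    intro y y' hy hyy hEy
    have h1 : (P * g * y' * P').det = X.det ^ k := by
      have hyd : X.det * y'.det = 1 := by rw [← hy.det_eq, ← Matrix.det_mul, hyy, Matrix.det_one]
      have hPd : P'.det = 1 := by simpa [hP] using congrArg Matrix.det hPP'
      rw [Matrix.det_mul, Matrix.det_mul, Matrix.det_mul, hP, hPd, one_mul, mul_one, hg, pow_succ, mul_assoc, hyd, mul_one]
    rw [htop y y' hyy hEy, Matrix.det_fromBlocks_zero₁₂, Matrix.det_pow, hc.det_eq, hXdef,
      Matrix.det_fromBlocks_zero₂₁, mul_pow] at h1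
    exact mul_left_cancel₀ (pow_ne_zero _ hd₁) h1
  -- a good factor
  obtain ⟨y, y', hy, hyy, hEy, hns⟩ : ∃ y y' : Matrix (ι ⊕ κ) (ι ⊕ κ) F, SSim y X ∧ y * y' = 1 ∧
      (∀ i, E.row i ᵥ* y = U.row i) ∧ NS (P * g * y' * P').toBlocks₂₂ := by
    by_cases hns : NS (P * g * h' * P').toBlocks₂₂
    · exact ⟨h, h', hh, hhh', hEh, hns⟩
    obtain ⟨i₀⟩ := Fintype.card_pos_iff.1 hι
    obtain ⟨φ, hφ0, hφ⟩ := Submodule.exists_dual_map_eq_bot_of_lt_top
      (p := Submodule.span F (Set.range (Sum.elim E.row U.row))) (lt_top_iff_ne_top.2 fun e => by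
        have h1 := finrank_range_le_card (R := F) (Sum.elim E.row U.row)
        rw [Set.finrank, e, finrank_top, Module.finrank_fintype_fun_eq_card, Fintype.card_sum (α := ι) (β := ι)] at h1
        omega) inferInstance
    let a : ι ⊕ κ → F := fun i => φ (Pi.single i 1)
    have ha : ∀ x, x ⬝ᵥ a = φ x := fun x => by
      conv_rhs => rw [pi_eq_sum_univ' x]
      simp [dotProduct, a, map_sum]
    have hperp : ∀ s, Sum.elim E.row U.row s ⬝ᵥ a = 0 := fun s => by
      rw [ha]
      have h1 : φ (Sum.elim E.row U.row s) ∈ (Submodule.span F (Set.range (Sum.elim E.row U.row))).map φ :=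
        ⟨_, Submodule.subset_span ⟨s, rfl⟩, rfl⟩
      rw [hφ, Submodule.mem_bot] at h1
      exact h1
    set e := E.row i₀ with he
    let S := 1 + Matrix.vecMulVec a e
    let S' := 1 - Matrix.vecMulVec a e
    have hea : e ⬝ᵥ a = 0 := hperp (Sum.inl i₀)
    have hSS : S * S' = 1 := by
      have h0 : Matrix.vecMulVec a e * Matrix.vecMulVec a e = 0 := by
        rw [Matrix.vecMulVec_mul_vecMulVec, hea, zero_smul, Matrix.vecMulVec_zero]
      simp only [S, S', Matrix.add_mul, Matrix.one_mul, Matrix.mul_sub, Matrix.mul_one, h0, sub_zero]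
      abel
    have hwS : ∀ w, w ᵥ* S = w + (w ⬝ᵥ a) • e := fun w => by
      simp only [S, Matrix.vecMul_add, Matrix.vecMul_one, Matrix.vecMul_vecMulVec]
    have hwS' : ∀ w, w ᵥ* S' = w - (w ⬝ᵥ a) • e := fun w => by
      simp only [S', Matrix.vecMul_sub, Matrix.vecMul_one, Matrix.vecMul_vecMulVec]
    have hS : S.det = 1 := by
      simp only [S]
      rw [Matrix.vecMulVec_eq Unit, Matrix.det_one_add_replicateCol_mul_replicateRow, hea, add_zero]
    have hE2 : ∀ i, E.row i ᵥ* (S * h * S') = U.row i := fun i => by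
      rw [← Matrix.vecMul_vecMul, ← Matrix.vecMul_vecMul, hwS, show E.row i ⬝ᵥ a = 0 from hperp (Sum.inl i), zero_smul,
        add_zero, hEh i, hwS', show U.row i ⬝ᵥ a = 0 from hperp (Sum.inr i), zero_smul, sub_zero]
    have hinv : S * h * S' * (S * h' * S') = 1 := by
      simp only [Matrix.mul_assoc]
      rw [← Matrix.mul_assoc S' S, mul_eq_one_comm.1 hSS, Matrix.one_mul, ← Matrix.mul_assoc h, hhh', Matrix.one_mul, hSS]
    refine ⟨S * h * S', S * h' * S', SSim.trans ⟨S, S', hSS, hS, rfl⟩ hh, hinv, hE2, fun σ' hσ' => ?_⟩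
    simp only [NS, not_forall, not_not] at hns
    obtain ⟨σ, hσ⟩ := hns
    have hσ0 : σ' ≠ 0 := fun e0 => by
      have h1 := hyd _ _ (SSim.trans ⟨S, S', hSS, hS, rfl⟩ hh) hinv hE2
      haveI : Nonempty κ := Fintype.card_pos_iff.1 (by omega)
      rw [hσ', e0, zero_smul, Matrix.det_zero] at h1
      exact pow_ne_zero _ hx₂ h1.symm
    have hUa : ∀ x : ι → F, (x ᵥ* U) ⬝ᵥ a = 0 := fun x => by
      rw [← Matrix.dotProduct_mulVec]
      have : U *ᵥ a = 0 := funext fun i => hperp (Sum.inr i)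
      rw [this, dotProduct_zero]
    have hzero : ∀ w, (w ᵥ* h) ⬝ᵥ a = 0 := fun w => by
      obtain ⟨α, hα⟩ := hbad h h' hhh' hEh σ hσ w
      obtain ⟨β, hβ⟩ := hbad _ _ hinv hE2 σ' hσ' w
      have hexp : w ᵥ* (S * h * S') = w ᵥ* h + (w ⬝ᵥ a) • U.row i₀ - ((w ᵥ* h) ⬝ᵥ a) • e := by
        have hu : U.row i₀ ⬝ᵥ a = 0 := hperp (Sum.inr i₀)
        rw [← Matrix.vecMul_vecMul, ← Matrix.vecMul_vecMul, hwS, Matrix.add_vecMul, Matrix.smul_vecMul, he, hEh i₀, hwS',
          add_dotProduct, smul_dotProduct, hu, smul_zero, add_zero]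
      have hdiff : (σ' - σ) • (w ᵥ* h) + (σ' * (w ⬝ᵥ a)) • U.row i₀ - (σ' * ((w ᵥ* h) ⬝ᵥ a)) • e = (α - β) ᵥ* U := by
        rw [Matrix.sub_vecMul, ← hα, ← hβ, hexp, smul_sub, smul_add, smul_smul, smul_smul, sub_smul]
        abel
      have hd := congrArg (fun x => x ⬝ᵥ a) hdiff
      have hu : U.row i₀ ⬝ᵥ a = 0 := hperp (Sum.inr i₀)
      simp only [sub_dotProduct, add_dotProduct, smul_dotProduct, smul_eq_mul, hea, hu, mul_zero, add_zero, sub_zero,
        hUa] at hd
      rcases mul_eq_zero.1 hd with hd | hd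
      · rw [sub_eq_zero] at hd
        rw [hd, sub_self, zero_smul, zero_add] at hdiff
        by_contra hne
        have hpos : σ * ((w ᵥ* h) ⬝ᵥ a) ≠ 0 := mul_ne_zero (hd ▸ hσ0) hne
        have hli := Fintype.linearIndependent_iff.1 hEU (Sum.elim (Pi.single i₀ (σ * ((w ᵥ* h) ⬝ᵥ a)))
          (fun j => (α - β) j - (Pi.single i₀ (σ * (w ⬝ᵥ a)) : ι → F) j)) (by
            simp only [Fintype.sum_sum_type, Sum.elim_inl, Sum.elim_inr, sub_smul, Finset.sum_sub_distrib]
            rw [Finset.sum_eq_single i₀ (fun b _ hb => by simp [hb]) (by simp),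
              Finset.sum_eq_single i₀ (f := fun j => (Pi.single i₀ (σ * (w ⬝ᵥ a)) : ι → F) j • U.row j)
                (fun b _ hb => by simp [hb]) (by simp),
              show (∑ j, (α - β) j • U.row j) = (α - β) ᵥ* U from (Matrix.vecMul_eq_sum _ _).symm, ← hdiff]
            simp only [Pi.single_eq_same, ← he]
            abel) (Sum.inl i₀)
        simp at hli
        exact hne ((mul_eq_zero.1 (by simpa using hli : σ * ((w ᵥ* h) ⬝ᵥ a) = 0)).resolve_left (hd ▸ hσ0))
      · exact hd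
    refine hφ0 (LinearMap.ext fun x => ?_)
    rw [← ha]
    have := hzero (x ᵥ* h')
    rwa [Matrix.vecMul_vecMul, mul_eq_one_comm.1 hhh', Matrix.vecMul_one] at this
  -- assemble
  set M := P * g * y' * P' with hMdef
  obtain ⟨ll, hll, hllx, hllp, hlls⟩ := hk M.toBlocks₂₂ hns (hyd y y' hy hyy hEy)
  obtain ⟨L, hL, hLp⟩ := exists_corner (mul_eq_one_comm.1 hcc) hlls M.toBlocks₂₁
  rw [hll, hllp, ← htop y y' hyy hEy] at hLp
  refine ⟨(L.map fun b => P' * b * P) ++ [y], by simp [hL.length_eq, hll], fun b hb => ?_, ?_, ?_⟩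
  · rcases List.mem_append.1 hb with hb | hb
    · obtain ⟨b', hb', rfl⟩ := List.mem_map.1 hb
      obtain ⟨q, hq, Z, rfl⟩ := exists_forall₂_left hL b' hb'
      refine SSim.trans ⟨P', P, hP'P, ?_, rfl⟩ ((ssim_lowM c q Z).trans (ssim_blocks hc (hllx q hq)))
      simpa [hP] using congrArg Matrix.det hPP'
    · simp at hb; exact hb ▸ hy
  · rw [List.prod_append, prod_map_conj P' P hP'P hPP', hLp, List.prod_singleton]
    simp only [Matrix.mul_assoc]
    rw [← Matrix.mul_assoc P' (P : Matrix (ι ⊕ κ) (ι ⊕ κ) F) y, hP'P, Matrix.one_mul, mul_eq_one_comm.1 hyy, Matrix.mul_one,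
      ← Matrix.mul_assoc, hP'P, Matrix.one_mul]
  · intro K hinv heq
    have hmem : ∀ b ∈ L, P' * b * P ∈ (L.map fun b => P' * b * P) ++ [y] := fun b hb =>
      List.mem_append_left _ (List.mem_map.2 ⟨b, hb, rfl⟩)
    let π : (ι ⊕ κ → F) →ₗ[F] (κ → F) := (LinearMap.funLeft F F Sum.inr).comp P'.vecMulLinear
    have hπ : ∀ w q Z, π (w ᵥ* (P' * lowM c q Z * P)) = π w ᵥ* q := fun w q Z => by
      funext j
      show (w ᵥ* (P' * lowM c q Z * P) ᵥ* P') (Sum.inr j) = _
      rw [Matrix.vecMul_vecMul, Matrix.mul_assoc _ P, hPP', Matrix.mul_one, ← Matrix.vecMul_vecMul, lowM,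
        Matrix.vecMul_fromBlocks]
      simp [π, LinearMap.funLeft_apply, Function.comp_def]
      rfl
    have hb := hlls (K.map π) (fun q hq v hv => by
        obtain ⟨w, hw, rfl⟩ := hv
        obtain ⟨b, hb, Z, rfl⟩ := exists_forall₂_right hL q hq
        exact ⟨_, hinv _ (hmem _ hb) w hw, hπ w q Z⟩)
      (fun q hq q' hq' v hv => by
        obtain ⟨w, hw, rfl⟩ := hv
        obtain ⟨b, hb, Z, rfl⟩ := exists_forall₂_right hL q hq
        obtain ⟨b', hb', Z', rfl⟩ := exists_forall₂_right hL q' hq'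
        rw [← hπ w q Z, ← hπ w q' Z', heq _ (hmem _ hb) _ (hmem _ hb') w hw])
    refine (Submodule.eq_bot_iff K).2 fun w hw => ?_
    have hz : ∀ v ∈ K, ∀ j, (v ᵥ* P') (Sum.inr j) = 0 := fun v hv j => by
      have h1 : π v ∈ K.map π := ⟨v, hv, rfl⟩
      rw [hb, Submodule.mem_bot] at h1
      exact congrFun h1 j
    obtain ⟨α, hα⟩ : ∃ α : ι → F, w = α ᵥ* E := ⟨_, by
      rw [← hPrange _ (hz w hw), Matrix.vecMul_vecMul, hP'P, Matrix.vecMul_one]⟩
    obtain ⟨β, hβ⟩ : ∃ β : ι → F, w ᵥ* y = β ᵥ* E := ⟨_, by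
      rw [← hPrange _ (hz _ (hinv y (by simp) w hw)), Matrix.vecMul_vecMul, hP'P, Matrix.vecMul_one]⟩
    have hEyU : E * y = U := by
      ext i j; exact congrFun (hEy i) j
    have h2 : α ᵥ* U - β ᵥ* E = 0 := by
      rw [← hEyU, ← Matrix.vecMul_vecMul, ← hα, hβ, sub_self]
    have hli := Fintype.linearIndependent_iff.1 hEU (Sum.elim (-β) α) (by
      simp only [Fintype.sum_sum_type, Sum.elim_inl, Sum.elim_inr, Pi.neg_apply, neg_smul, Finset.sum_neg_distrib]
      rw [show (∑ j, β j • E.row j) = β ᵥ* E from (Matrix.vecMul_eq_sum _ _).symm,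
        show (∑ j, α j • U.row j) = α ᵥ* U from (Matrix.vecMul_eq_sum _ _).symm, ← h2]
      abel)
    rw [hα, show α = 0 from funext fun i => hli (Sum.inr i), Matrix.zero_vecMul]

/-- **Two steps**: two factors add a block, for every target of the right determinant. -/
theorem sprod_two {x₁ : Matrix ι ι F} {x₂ : Matrix κ κ F} {k : ℕ} (hk : Cov k x₂) (hx₁ : x₁.det ≠ 0)
    (hx₂ : x₂.det ≠ 0) (hι : 0 < Fintype.card ι) (hn : Fintype.card ι < Fintype.card κ)
    (hX : HasFrame ι (Matrix.fromBlocks x₁ 0 0 x₂)) (g : Matrix (ι ⊕ κ) (ι ⊕ κ) F)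
    (hg : g.det = (Matrix.fromBlocks x₁ 0 0 x₂).det ^ (k + 2)) :
    ∃ l : List (Matrix (ι ⊕ κ) (ι ⊕ κ) F), l.length = k + 2 ∧
      (∀ a ∈ l, SSim a (Matrix.fromBlocks x₁ 0 0 x₂)) ∧ l.prod = g ∧ Spread l := by
  classical
  set X := Matrix.fromBlocks x₁ 0 0 x₂ with hXdef
  have hXd : X.det ≠ 0 := by rw [hXdef, Matrix.det_fromBlocks_zero₂₁]; exact mul_ne_zero hx₁ hx₂
  have hXX : X * X⁻¹ = 1 := Matrix.mul_nonsing_inv _ (isUnit_iff_ne_zero.2 hXd)
  have hcard : 2 * Fintype.card ι < Fintype.card (ι ⊕ κ) := by rw [Fintype.card_sum]; omega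
  have hgd : g.det ≠ 0 := by rw [hg]; exact pow_ne_zero _ hXd
  let c' := x₁⁻¹
  have hcc : x₁ * c' = 1 := Matrix.mul_nonsing_inv _ (isUnit_iff_ne_zero.2 hx₁)
  let E : Matrix ι (ι ⊕ κ) F := Matrix.fromCols 1 0
  let U : Matrix ι (ι ⊕ κ) F := c' ^ k * E * g
  let q := Fintype.equivFin ι
  have hE : LinearIndependent F E.row := by
    rw [← Matrix.vecMul_injective_iff]
    intro v w h
    funext i
    simpa [E, Matrix.vecMul_fromCols] using congrFun h (Sum.inl i)
  have hU : LinearIndependent F U.row := by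
    rw [← Matrix.vecMul_injective_iff]
    intro v w h
    have h1 := congrArg (fun z => z ᵥ* g⁻¹) h
    simp only [U, Matrix.vecMul_vecMul, Matrix.mul_assoc, Matrix.mul_nonsing_inv _ (isUnit_iff_ne_zero.2 hgd),
      Matrix.mul_one] at h1
    rw [← Matrix.vecMul_vecMul, ← Matrix.vecMul_vecMul] at h1
    have h2 : v ᵥ* c' ^ k = w ᵥ* c' ^ k := by
      funext i
      simpa [E, Matrix.vecMul_fromCols] using congrFun h1 (Sum.inl i)
    have h3 := congrArg (fun z => z ᵥ* x₁ ^ k) h2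
    simpa [Matrix.vecMul_vecMul, ← (show Commute c' x₁ from (mul_eq_one_comm.1 hcc).trans hcc.symm).mul_pow,
      mul_eq_one_comm.1 hcc] using h3
  obtain ⟨W, hEW, hUW⟩ := exists_middle (E := E.row ∘ q.symm) (U := U.row ∘ q.symm) (hE.comp _ q.symm.injective)
    (hU.comp _ q.symm.injective) (by rw [Fintype.card_sum]; omega) (Fintype.card ι) le_rfl
  have hEW' : LinearIndependent F (Sum.elim E.row (W ∘ q)) := by
    convert hEW.comp _ (Equiv.sumCongr q q).injective using 1
    funext s; rcases s with i | i <;> simp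
  have hWU : LinearIndependent F (Sum.elim (W ∘ q) U.row) := by
    convert hUW.comp _ ((Equiv.sumCongr q q).trans (Equiv.sumComm _ _)).injective using 1
    funext s; rcases s with i | i <;> simp
  obtain ⟨h, h', hh, hhh', hWh⟩ := exists_frame_conj' hXX hX hWU hcard
  have hU₁ : c' ^ k * E * (g * h') = Matrix.of (W ∘ q) := by
    ext i j
    have h1 : W (q i) = U.row i ᵥ* h' := by
      rw [← hWh i, Matrix.vecMul_vecMul, hhh', Matrix.vecMul_one]
      rfl
    rw [← Matrix.mul_assoc]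
    exact (congrFun h1 j).symm
  have hh'd : X.det * h'.det = 1 := by rw [← hh.det_eq, ← Matrix.det_mul, hhh', Matrix.det_one]
  obtain ⟨l, hl, hlx, hlp, hls⟩ := sprod_step hk (SSim.refl x₁) hcc hx₂ hι hn hX (g := g * h')
    (by rw [Matrix.det_mul, hg, pow_succ _ (k + 1), mul_assoc, hh'd, mul_one]) E (by rw [hU₁]; exact hEW')
  refine ⟨l ++ [h], by simp [hl], fun a ha => ?_, ?_, hls.mono fun a ha => List.mem_append_left _ ha⟩
  · rcases List.mem_append.1 ha with ha | ha
    · exact hlx a ha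
    · simp at ha; exact ha ▸ hh
  · rw [List.prod_append, hlp, List.prod_singleton, Matrix.mul_assoc, mul_eq_one_comm.1 hhh', Matrix.mul_one]

/-- **An eigenvalue block with one factor.** -/
theorem cov_lam {x₂ : Matrix κ κ F} {k : ℕ} {lam : F} (hk : Cov k x₂) (hlam : lam ≠ 0) (hx₂ : x₂.det ≠ 0)
    (hn₂ : NS x₂) (hκ : 2 ≤ Fintype.card κ) : Cov (k + 1) (Matrix.fromBlocks (lam • 1 : Matrix Unit Unit F) 0 0 x₂) := by
  intro g hg hgd
  have hT : ∀ {ν : Type} [Fintype ν] [DecidableEq ν] (y : Matrix ν ν F), NS y → NS yᵀ := fun y hy σ hσ => hy σ (by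
    rw [← Matrix.transpose_transpose y, hσ, Matrix.transpose_smul, Matrix.transpose_one])
  have key : ∀ y : Matrix (Unit ⊕ κ) (Unit ⊕ κ) F, NS y → ∃ e, LinearIndependent F ![e, e ᵥ* y] := fun y hy => by
    obtain ⟨e, he⟩ := (hT y hy).exists_indep
    exact ⟨e, by rwa [Matrix.mulVec_transpose] at he⟩
  have hsum : ∀ e f : Unit ⊕ κ → F, LinearIndependent F ![e, f] →
      LinearIndependent F (Sum.elim (fun _ : Unit => e) (fun _ : Unit => f)) := fun e f h => by
    convert h.comp (Sum.elim (fun _ => (0 : Fin 2)) (fun _ => 1)) ?_ using 1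
    · funext s; rcases s with ⟨⟩ | ⟨⟩ <;> rfl
    · intro s t hst; rcases s with ⟨⟩ | ⟨⟩ <;> rcases t with ⟨⟩ | ⟨⟩ <;> simp_all
  have hX : NS (Matrix.fromBlocks (lam • 1 : Matrix Unit Unit F) 0 0 x₂) := fun σ hσ => hn₂ σ (by
    ext i j
    simpa [Matrix.one_apply] using congrFun (congrFun hσ (Sum.inr i)) (Sum.inr j))
  obtain ⟨e₀, he₀⟩ := key _ hX
  obtain ⟨e, he⟩ := key g hg
  have hcc : (lam • 1 : Matrix Unit Unit F) * (lam⁻¹ • 1) = 1 := by
    rw [Matrix.smul_mul, Matrix.one_mul, smul_smul, mul_inv_cancel₀ hlam, one_smul]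
  refine sprod_step hk (SSim.refl _) hcc hx₂ (by simp) (by simp; omega) ⟨fun _ => e₀, hsum _ _ he₀⟩ hgd
    (Matrix.of fun _ j => e j) ?_
  have hs : (lam⁻¹ • 1 : Matrix Unit Unit F) ^ k = (lam⁻¹ ^ k) • 1 := by rw [smul_pow, one_pow]
  have h1 := hsum e ((lam⁻¹ ^ k) • (e ᵥ* g)) (by
    refine LinearIndependent.pair_iff.2 fun a b hab => ?_
    rw [smul_smul] at hab
    obtain ⟨h1, h2⟩ := LinearIndependent.pair_iff.1 he a _ hab
    exact ⟨h1, (mul_eq_zero.1 h2).resolve_right (pow_ne_zero _ (inv_ne_zero hlam))⟩)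
  convert h1 using 1
  funext s
  rcases s with ⟨⟩ | ⟨⟩
  · rfl
  · rw [hs, Matrix.smul_mul, Matrix.one_mul, Matrix.smul_mul]
    rfl

end Cfsg.Lib.Linear.PSLCover
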