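import Cfsg.Agent.Lib.Linear.PSLCover.Cover4

/-!
# Gluing a block under a spread product

A constant factor on one block and a spread list on the other give every corner; with a block pivot this
adds the factor counts of two blocks.
-/

set_option autoImplicit false
set_option linter.unusedSectionVars false
set_option linter.unusedSimpArgs false

universe u

namespace Cfsg.Lib.Linear.PSLCover

open scoped Matrix

variable {F : Type u} [Field F]
variable {ι κ : Type} [Fintype ι] [DecidableEq ι] [Fintype κ] [DecidableEq κ]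

/-- A conjugate of a block diagonal matrix with a free lower corner. -/
def lowM (c : Matrix ι ι F) (h : Matrix κ κ F) (Z : Matrix κ ι F) : Matrix (ι ⊕ κ) (ι ⊕ κ) F :=
  Matrix.fromBlocks c 0 (h * Z - Z * c) h

theorem ssim_lowM (c : Matrix ι ι F) (h : Matrix κ κ F) (Z : Matrix κ ι F) :
    SSim (lowM c h Z) (Matrix.fromBlocks c 0 0 h) := by
  refine ⟨Matrix.fromBlocks 1 0 (-Z) 1, Matrix.fromBlocks 1 0 Z 1, ?_, by simp, ?_⟩
  · simp [Matrix.fromBlocks_multiply]
  · simp [lowM, Matrix.fromBlocks_multiply, sub_eq_neg_add]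

/-- The attainable corners. -/
def cornerSet (c : Matrix ι ι F) : List (Matrix κ κ F) → Submodule F (Matrix κ ι F)
  | [] => ⊥
  | h :: l => LinearMap.range
      ({ toFun := fun Z => (h * Z - Z * c) * c ^ l.length
         map_add' := fun Z Z' => by simp only [Matrix.mul_add, Matrix.add_mul, Matrix.sub_mul]; abel
         map_smul' := fun a Z => by
           simp only [Matrix.mul_smul, Matrix.smul_mul, RingHom.id_apply, ← smul_sub] } : Matrix κ ι F →ₗ[F] Matrix κ ι F) ⊔
      (cornerSet c l).map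
        ({ toFun := fun W => h * W
           map_add' := Matrix.mul_add h
           map_smul' := fun a W => by simp [Matrix.mul_smul] } : Matrix κ ι F →ₗ[F] Matrix κ ι F)

theorem exists_of_cornerSet (c : Matrix ι ι F) : ∀ (l : List (Matrix κ κ F)) (W : Matrix κ ι F), W ∈ cornerSet c l →
    ∃ L : List (Matrix (ι ⊕ κ) (ι ⊕ κ) F), List.Forall₂ (fun a h => ∃ Z, a = lowM c h Z) L l ∧
      L.prod = Matrix.fromBlocks (c ^ l.length) 0 W l.prod
  | [], W, hW => by
    rw [cornerSet, Submodule.mem_bot] at hW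
    subst hW
    exact ⟨[], List.Forall₂.nil, by simp [Matrix.fromBlocks_one]⟩
  | h :: l, W, hW => by
    rw [cornerSet, Submodule.mem_sup] at hW
    obtain ⟨_, ⟨Z, rfl⟩, _, ⟨W', hW', rfl⟩, rfl⟩ := hW
    obtain ⟨L, hL, hp⟩ := exists_of_cornerSet c l W' hW'
    refine ⟨lowM c h Z :: L, List.Forall₂.cons ⟨Z, rfl⟩ hL, ?_⟩
    rw [List.prod_cons, hp, lowM, Matrix.fromBlocks_multiply]
    simp [pow_succ']

theorem cornerSet_dual (c : Matrix ι ι F) : ∀ (l : List (Matrix κ κ F)) (Φ : Matrix ι κ F),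
    (∀ W ∈ cornerSet c l, (Φ * W).trace = 0) → ∀ h ∈ l, c ^ l.length * Φ * h = c * (c ^ l.length * Φ)
  | [], Φ, _, h, hh => by simp at hh
  | h₀ :: l, Φ, hΦ, h, hh => by
    have key : c ^ l.length * Φ * h₀ = c * (c ^ l.length * Φ) := by
      refine Matrix.ext_iff_trace_mul_right.2 fun Z => ?_
      have h1 := hΦ ((h₀ * Z - Z * c) * c ^ l.length) (by
        rw [cornerSet]; exact Submodule.mem_sup_left ⟨Z, rfl⟩)
      rw [Matrix.sub_mul, Matrix.mul_sub, Matrix.trace_sub, sub_eq_zero] at h1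
      calc (c ^ l.length * Φ * h₀ * Z).trace = (Φ * (h₀ * Z * c ^ l.length)).trace := by
            rw [Matrix.mul_assoc (c ^ l.length), Matrix.mul_assoc (c ^ l.length), Matrix.trace_mul_comm]
            simp only [Matrix.mul_assoc]
        _ = (Φ * (Z * c * c ^ l.length)).trace := h1
        _ = (c * (c ^ l.length * Φ) * Z).trace := by
            rw [← Matrix.mul_assoc c, ← pow_succ', Matrix.mul_assoc (c ^ (l.length + 1)), Matrix.trace_mul_comm (c ^ (l.length + 1)),
              Matrix.mul_assoc Z c, ← pow_succ', Matrix.mul_assoc Φ]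
    have ht := cornerSet_dual c l (Φ * h₀) (fun W hW => by
      rw [Matrix.mul_assoc]
      exact hΦ _ (by rw [cornerSet]; exact Submodule.mem_sup_right ⟨W, hW, rfl⟩))
    have e : c ^ (h₀ :: l).length * Φ = c ^ l.length * Φ * h₀ := by
      rw [key, List.length_cons, pow_succ', Matrix.mul_assoc]
    rcases List.mem_cons.1 hh with rfl | hh
    · conv_rhs => rw [e, key]
      rw [List.length_cons, pow_succ', Matrix.mul_assoc c, Matrix.mul_assoc c, key]
    · have h2 := ht h hh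
      rw [← Matrix.mul_assoc] at h2
      rw [e, h2]

/-- Every corner over a spread list. -/
theorem exists_corner {c c' : Matrix ι ι F} (hc : c' * c = 1) {l : List (Matrix κ κ F)} (hl : Spread l)
    (W : Matrix κ ι F) :
    ∃ L : List (Matrix (ι ⊕ κ) (ι ⊕ κ) F), List.Forall₂ (fun a h => ∃ Z, a = lowM c h Z) L l ∧
      L.prod = Matrix.fromBlocks (c ^ l.length) 0 W l.prod := by
  refine exists_of_cornerSet c l W ?_
  suffices h : cornerSet c l = ⊤ by rw [h]; trivial
  by_contra hne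
  obtain ⟨φ, hφ0, hφ⟩ := Submodule.exists_dual_map_eq_bot_of_lt_top (lt_top_iff_ne_top.2 hne) inferInstance
  let Φ : Matrix ι κ F := Matrix.of fun i j => φ (Matrix.single j i 1)
  have htr : ∀ V : Matrix κ ι F, φ V = (Φ * V).trace := fun V => by
    conv_lhs => rw [Matrix.matrix_eq_sum_single V]
    simp only [map_sum, Matrix.trace, Matrix.diag_apply, Matrix.mul_apply, Φ, Matrix.of_apply]
    rw [Finset.sum_comm]
    refine Finset.sum_congr rfl fun j _ => Finset.sum_congr rfl fun i _ => ?_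
    rw [show Matrix.single i j (V i j) = V i j • Matrix.single i j 1 by rw [Matrix.smul_single, smul_eq_mul, mul_one],
      map_smul, smul_eq_mul, mul_comm]
  have hann : ∀ V ∈ cornerSet c l, (Φ * V).trace = 0 := fun V hV => by
    rw [← htr]
    have h1 : φ V ∈ (cornerSet c l).map φ := ⟨V, hV, rfl⟩
    rw [hφ, Submodule.mem_bot] at h1
    exact h1
  have hΨ := cornerSet_dual c l Φ hann
  have hK := hl (LinearMap.range (c ^ l.length * Φ).vecMulLinear) (fun a ha w hw => by
      obtain ⟨u, rfl⟩ := hw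
      refine ⟨u ᵥ* c, ?_⟩
      show (u ᵥ* c) ᵥ* (c ^ l.length * Φ) = (u ᵥ* (c ^ l.length * Φ)) ᵥ* a
      rw [Matrix.vecMul_vecMul, Matrix.vecMul_vecMul, hΨ a ha])
    (fun a ha b hb w hw => by
      obtain ⟨u, rfl⟩ := hw
      show (u ᵥ* (c ^ l.length * Φ)) ᵥ* a = (u ᵥ* (c ^ l.length * Φ)) ᵥ* b
      rw [Matrix.vecMul_vecMul, Matrix.vecMul_vecMul, hΨ a ha, hΨ b hb])
  have h0 : c ^ l.length * Φ = 0 := Matrix.ext_iff_vecMul.2 fun u => by
    have h1 : u ᵥ* (c ^ l.length * Φ) ∈ LinearMap.range (c ^ l.length * Φ).vecMulLinear := ⟨u, rfl⟩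
    rw [hK, Submodule.mem_bot] at h1
    rw [h1, Matrix.vecMul_zero]
  refine hφ0 (LinearMap.ext fun V => ?_)
  have hΦ : Φ = 0 := by
    calc Φ = (c' * c) ^ l.length * Φ := by rw [hc, one_pow, Matrix.one_mul]
      _ = c' ^ l.length * (c ^ l.length * Φ) := by
          rw [(show Commute c' c from hc.trans (mul_eq_one_comm.1 hc).symm).mul_pow, Matrix.mul_assoc]
      _ = 0 := by rw [h0, Matrix.mul_zero]
  rw [htr, hΦ]
  simp

/-- The mirrored corner. -/
theorem exists_corner' {d d' : Matrix κ κ F} (hd : d' * d = 1) {l : List (Matrix ι ι F)} (hl : Spread l)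
    (R : Matrix ι κ F) :
    ∃ L : List (Matrix (ι ⊕ κ) (ι ⊕ κ) F),
      List.Forall₂ (fun a h => SSim a (Matrix.fromBlocks h 0 0 d) ∧ ∃ R', a = Matrix.fromBlocks h R' 0 d) L l ∧
      L.prod = Matrix.fromBlocks l.prod R 0 (d ^ l.length) := by
  obtain ⟨L, hL, hp⟩ := exists_corner hd hl R
  let E : Matrix (ι ⊕ κ) (κ ⊕ ι) F := Matrix.fromBlocks 0 1 1 0
  let E' : Matrix (κ ⊕ ι) (ι ⊕ κ) F := Matrix.fromBlocks 0 1 1 0
  have hEE : E * E' = 1 := by simp [E, E', Matrix.fromBlocks_multiply]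
  have hEE' : E' * E = 1 := by simp [E, E', Matrix.fromBlocks_multiply]
  have hflip : ∀ (a : Matrix κ κ F) (b : Matrix κ ι F) (c : Matrix ι κ F) (e : Matrix ι ι F),
      E * Matrix.fromBlocks a b c e * E' = Matrix.fromBlocks e c b a := fun a b c e => by
    simp [E, E', Matrix.fromBlocks_multiply]
  refine ⟨L.map fun a => E * a * E', ?_, by rw [prod_map_conj E E' hEE hEE', hp, hflip]⟩
  rw [List.forall₂_map_left_iff]
  refine hL.imp fun a h ⟨Z, hZ⟩ => ⟨?_, _, by rw [hZ, lowM, hflip]⟩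
  have h1 := ssim_map E E' hEE hEE' (ssim_lowM d h Z)
  rw [hflip] at h1
  rwa [hZ]

/-- A block pivot in multiplicative form. -/
def pivForm {ρ ν : Type} [Fintype ρ] [Fintype ν] (A : Matrix ρ ρ F) (V : Matrix ν ρ F) (R : Matrix ρ ν F)
    (G : Matrix ν ν F) : Matrix (ρ ⊕ ν) (ρ ⊕ ν) F :=
  Matrix.fromBlocks A (A * R) (V * A) (V * A * R + G)

theorem det_pivForm {ρ ν : Type} [Fintype ρ] [DecidableEq ρ] [Fintype ν] [DecidableEq ν] (A : Matrix ρ ρ F)
    (V : Matrix ν ρ F) (R : Matrix ρ ν F) (G : Matrix ν ν F) : (pivForm A V R G).det = A.det * G.det := by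
  have : pivForm A V R G = Matrix.fromBlocks 1 0 V 1 * Matrix.fromBlocks A 0 0 G * Matrix.fromBlocks 1 R 0 1 := by
    simp [pivForm, Matrix.fromBlocks_multiply]
  rw [this]
  simp

theorem reindex_assoc {α β γ : Type} (a : Matrix α α F) (b₁ : Matrix α β F) (b₂ : Matrix α γ F) (c₁ : Matrix β α F)
    (c₂ : Matrix γ α F) (d₁₁ : Matrix β β F) (d₁₂ : Matrix β γ F) (d₂₁ : Matrix γ β F) (d₂₂ : Matrix γ γ F) :
    Matrix.reindex (Equiv.sumAssoc α β γ).symm (Equiv.sumAssoc α β γ).symm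
      (Matrix.fromBlocks a (Matrix.fromCols b₁ b₂) (Matrix.fromRows c₁ c₂) (Matrix.fromBlocks d₁₁ d₁₂ d₂₁ d₂₂)) =
    Matrix.fromBlocks (Matrix.fromBlocks a b₁ c₁ d₁₁) (Matrix.fromRows b₂ d₁₂) (Matrix.fromCols c₂ d₂₁) d₂₂ := by
  ext ((i | i) | i) ((j | j) | j) <;> rfl

theorem exists_block_pivot [Fintype F] (hq : 4 ≤ Fintype.card F) :
    ∀ (r N : ℕ) {μ : Type} [Fintype μ] [DecidableEq μ] (g : Matrix μ μ F), 1 ≤ r → 2 ≤ N → NS g → g.det ≠ 0 →
      Fintype.card μ = r + N → ∀ δ : F, δ ≠ 0 →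
      ∃ (A : Matrix (Fin r) (Fin r) F) (V : Matrix (Fin N) (Fin r) F) (R : Matrix (Fin r) (Fin N) F)
        (G : Matrix (Fin N) (Fin N) F), MSim g (pivForm A V R G) ∧ A.det = δ ∧ (2 ≤ r → NS A) ∧ NS G
  | 0, _, _, _, _, _, h, _, _, _, _, _, _ => absurd h (by omega)
  | 1, N, μ, _, _, g, _, hN, hg, hd, hcard, δ, hδ => by
    obtain ⟨R, w, G, hs, hG, -⟩ := exists_schur hg hd (by omega) hδ (m := N) (by omega)
    let e : Unit ⊕ Fin N ≃ Fin 1 ⊕ Fin N := Equiv.sumCongr finOneEquiv.symm (Equiv.refl _)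
    refine ⟨δ • 1, Matrix.of fun i _ => δ⁻¹ * w i (), Matrix.of fun _ j => δ⁻¹ * R () j, G,
      hs.trans ?_, by simp, fun h => absurd h (by omega), hG⟩
    have he : Matrix.reindex e e (Matrix.fromBlocks (δ • 1 : Matrix Unit Unit F) R w (G + δ⁻¹ • (w * R))) =
        pivForm (δ • 1) (Matrix.of fun i _ => δ⁻¹ * w i ()) (Matrix.of fun _ j => δ⁻¹ * R () j) G := by
      ext (i | i) (j | j)
      · simp [pivForm, e, Matrix.one_apply, Subsingleton.elim i j]
      · simp [pivForm, e, Matrix.mul_apply, hδ, Matrix.one_apply]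
      · simp [pivForm, e, Matrix.mul_apply, hδ, Matrix.one_apply]
      · simp [pivForm, e, Matrix.mul_apply, hδ, Matrix.one_apply]
        field_simp
        ring
    exact he ▸ msim_reindex e _
  | r + 2, N, μ, _, _, g, _, hN, hg, hd, hcard, δ, hδ => by
    obtain ⟨c, hc0, -, hc2⟩ := exists_avoid_sq hq 0 0 δ
    obtain ⟨R₀, w, G₀, hs, hG₀, hdet⟩ := exists_schur hg hd (by omega) hc0 (m := r + 1 + N) (by omega)
    obtain ⟨A, V, R, G, hs', hA, hAns, hG⟩ := exists_block_pivot hq (r + 1) N G₀ (by omega) hN hG₀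
      (fun h => hd (by rw [hdet, h, mul_zero])) (Fintype.card_fin _) (δ / c) (div_ne_zero hδ hc0)
    obtain ⟨P, Q, hPQ, hQP, he⟩ := msim_iff.1 hs'
    let Ra : Matrix Unit (Fin (r + 1)) F := Matrix.of fun i j => (c⁻¹ • (R₀ * Q)) i (Sum.inl j)
    let Rb : Matrix Unit (Fin N) F := Matrix.of fun i j => (c⁻¹ • (R₀ * Q)) i (Sum.inr j)
    let Va : Matrix (Fin (r + 1)) Unit F := Matrix.of fun i j => (c⁻¹ • (P * w)) (Sum.inl i) j
    let Vb : Matrix (Fin N) Unit F := Matrix.of fun i j => (c⁻¹ • (P * w)) (Sum.inr i) j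
    let A₁ : Matrix (Unit ⊕ Fin (r + 1)) (Unit ⊕ Fin (r + 1)) F := pivForm (c • 1) Va Ra A
    let R₁ : Matrix (Unit ⊕ Fin (r + 1)) (Fin N) F := Matrix.fromRows (Rb - Ra * R) R
    let V₁ : Matrix (Fin N) (Unit ⊕ Fin (r + 1)) F := Matrix.fromCols (Vb - V * Va) V
    have h1 : MSim g (pivForm A₁ V₁ R₁ G) := by
      refine hs.trans ?_
      have hconj : MSim (Matrix.fromBlocks (c • 1 : Matrix Unit Unit F) R₀ w (G₀ + c⁻¹ • (w * R₀)))
          (Matrix.fromBlocks (c • 1 : Matrix Unit Unit F) (R₀ * Q) (P * w)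
            (pivForm A V R G + c⁻¹ • (P * w * (R₀ * Q)))) := by
        refine msim_iff.2 ⟨Matrix.fromBlocks 1 0 0 P, Matrix.fromBlocks 1 0 0 Q, ?_, ?_, ?_⟩
        · simp [Matrix.fromBlocks_multiply, hPQ]
        · simp [Matrix.fromBlocks_multiply, hQP]
        · simp only [Matrix.fromBlocks_multiply, Matrix.one_mul, Matrix.mul_one, Matrix.zero_mul, Matrix.mul_zero,
            add_zero, zero_add, Matrix.mul_add, Matrix.add_mul, he, Matrix.mul_assoc, hQP, Matrix.mul_smul, smul_zero,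
            Matrix.smul_mul]
      refine hconj.trans ?_
      have hRQ : R₀ * Q = c • Matrix.fromCols Ra Rb := by
        ext i (j | j) <;> simp [Ra, Rb, hc0]
      have hPw : P * w = c • Matrix.fromRows Va Vb := by
        ext (i | i) j <;> simp [Va, Vb, hc0]
      have he1 : A₁ * R₁ = Matrix.fromRows (c • Rb) (c • (Va * Rb) + A * R) := by
        simp only [A₁, R₁, pivForm, Matrix.fromBlocks_mul_fromRows, Matrix.smul_mul, Matrix.one_mul, Matrix.mul_smul,
          Matrix.mul_one, Matrix.mul_sub, smul_sub, Matrix.add_mul, Matrix.mul_assoc]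
        congr 1 <;> abel
      have he2 : V₁ * A₁ = Matrix.fromCols (c • Vb) (c • (Vb * Ra) + V * A) := by
        simp only [A₁, V₁, pivForm, Matrix.fromCols_mul_fromBlocks, Matrix.smul_mul, Matrix.one_mul, Matrix.mul_smul,
          Matrix.mul_one, Matrix.sub_mul, smul_sub, Matrix.mul_add, Matrix.mul_assoc]
        congr 1 <;> abel
      have he : Matrix.reindex (Equiv.sumAssoc Unit (Fin (r + 1)) (Fin N)).symm (Equiv.sumAssoc Unit (Fin (r + 1)) (Fin N)).symm
          (Matrix.fromBlocks (c • 1 : Matrix Unit Unit F) (R₀ * Q) (P * w)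
            (pivForm A V R G + c⁻¹ • (P * w * (R₀ * Q)))) = pivForm A₁ V₁ R₁ G := by
        have hd : pivForm A V R G + c⁻¹ • (P * w * (R₀ * Q)) = Matrix.fromBlocks (c • (Va * Ra) + A) (c • (Va * Rb) + A * R)
            (c • (Vb * Ra) + V * A) (c • (Vb * Rb) + (V * A * R + G)) := by
          rw [hRQ, hPw, Matrix.smul_mul, Matrix.mul_smul, smul_smul, smul_smul, inv_mul_cancel₀ hc0,
            one_mul, Matrix.fromRows_mul_fromCols, Matrix.fromBlocks_smul, pivForm, Matrix.fromBlocks_add,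
            add_comm A, add_comm (A * R), add_comm (V * A), add_comm (V * A * R + G)]
        have h22 : V₁ * A₁ * R₁ = c • (Vb * Rb) + V * A * R := by
          rw [Matrix.mul_assoc, he1]
          simp only [V₁, Matrix.fromCols_mul_fromRows, Matrix.sub_mul, Matrix.mul_smul, Matrix.mul_add,
            Matrix.mul_assoc, smul_sub]
          abel
        rw [hd, hRQ, hPw, show c • Matrix.fromCols Ra Rb = Matrix.fromCols (c • Ra) (c • Rb) by ext i (j | j) <;> rfl,
          show c • Matrix.fromRows Va Vb = Matrix.fromRows (c • Va) (c • Vb) by ext (i | i) j <;> rfl, reindex_assoc]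
        rw [pivForm, he1, h22, he2]
        simp only [A₁, pivForm, Matrix.smul_mul, Matrix.one_mul, Matrix.mul_smul, Matrix.mul_one, add_assoc]
      exact he ▸ msim_reindex _ _
    have hA₁ : A₁.det = δ := by
      rw [det_pivForm, hA, Matrix.det_smul, Matrix.det_one, Fintype.card_unit, pow_one, mul_one, mul_div_cancel₀ _ hc0]
    have hns : NS A₁ := by
      intro σ hσ
      have e11 : c = σ := by simpa [A₁, pivForm] using congrFun (congrFun hσ (Sum.inl ())) (Sum.inl ())
      have hRa : Ra = 0 := by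
        ext i j
        simpa [A₁, pivForm, hc0, Matrix.one_apply, Matrix.mul_apply] using congrFun (congrFun hσ (Sum.inl ())) (Sum.inr j)
      have hAσ : A = σ • 1 := by
        ext i j
        have := congrFun (congrFun hσ (Sum.inr i)) (Sum.inr j)
        simpa [A₁, pivForm, hRa, Matrix.one_apply] using this
      rcases Nat.eq_zero_or_pos r with rfl | hr
      · rw [hAσ, Matrix.det_smul, Matrix.det_one, Fintype.card_fin, pow_one, mul_one, ← e11, eq_div_iff hc0] at hA
        exact hc2 (by rw [sq, hA])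
      · exact hAns (by omega) σ hAσ
    let e : Unit ⊕ Fin (r + 1) ≃ Fin (r + 2) := Fintype.equivFinOfCardEq (by simp; omega)
    refine ⟨Matrix.reindex e e A₁, V₁.submatrix id e.symm, R₁.submatrix e.symm id, G,
      h1.trans ((msim_reindex (Equiv.sumCongr e (Equiv.refl _)) _).trans ?_), by rw [Matrix.det_reindex_self, hA₁],
      fun _ => hns.of_msim (msim_reindex e A₁), hG⟩
    have he : Matrix.reindex (Equiv.sumCongr e (Equiv.refl (Fin N))) (Equiv.sumCongr e (Equiv.refl (Fin N)))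
        (pivForm A₁ V₁ R₁ G) = pivForm (Matrix.reindex e e A₁) (V₁.submatrix id e.symm) (R₁.submatrix e.symm id) G := by
      simp only [pivForm, Matrix.reindex_apply, Matrix.submatrix_mul_equiv]
      ext (i | i) (j | j) <;> simp
    rw [he]
    exact MSim.refl _

theorem exists_nspow {G x : Matrix ι ι F} (hG : NS G) (hns : NS x) (hx : x.det ≠ 0) (a : ℕ) :
    ∃ c c' : Matrix ι ι F, SSim c x ∧ c * c' = 1 ∧ NS (c' ^ a * G) := by
  have hx' : x * x⁻¹ = 1 := Matrix.mul_nonsing_inv _ (isUnit_iff_ne_zero.2 hx)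
  by_cases h : NS (x⁻¹ ^ a * G)
  · exact ⟨x, x⁻¹, SSim.refl x, hx', h⟩
  simp only [NS, not_forall, not_not] at h
  obtain ⟨σ, hσ⟩ := h
  have hinv : x ^ a * x⁻¹ ^ a = 1 := by
    rw [← (show Commute x x⁻¹ from hx'.trans (mul_eq_one_comm.1 hx').symm).mul_pow, hx', one_pow]
  have hGx : G = σ • x ^ a := by
    rw [← Matrix.mul_one (x ^ a), ← Matrix.mul_smul, ← hσ, ← Matrix.mul_assoc, hinv, Matrix.one_mul]
  have hpns : NS (x ^ a) := fun γ hγ => hG (σ * γ) (by rw [hGx, hγ, smul_smul])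
  obtain ⟨P, Q, hPQ, hP, hne⟩ := hpns.exists_conj_ne
  have hQP := mul_eq_one_comm.1 hPQ
  have hpow : ∀ (y : Matrix ι ι F) (n : ℕ), (P * y * Q) ^ n = P * y ^ n * Q := fun y n => by
    induction n with
    | zero => rw [pow_zero, pow_zero, Matrix.mul_one, hPQ]
    | succ n ih =>
      rw [pow_succ, pow_succ, ih]
      simp only [Matrix.mul_assoc]
      rw [← Matrix.mul_assoc Q P, hQP, Matrix.one_mul]
  refine ⟨P * x * Q, P * x⁻¹ * Q, ⟨P, Q, hPQ, hP, rfl⟩, ?_, fun τ hτ => ?_⟩
  · simp only [Matrix.mul_assoc]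
    rw [← Matrix.mul_assoc Q P, hQP, Matrix.one_mul, ← Matrix.mul_assoc x, hx', Matrix.one_mul, hPQ]
  · have h1 : G = τ • (P * x ^ a * Q) := by
      rw [← Matrix.mul_one (P * x ^ a * Q), ← Matrix.mul_smul, ← hτ, hpow]
      simp only [Matrix.mul_assoc]
      rw [← Matrix.mul_assoc Q P, hQP, Matrix.one_mul, ← Matrix.mul_assoc (x ^ a), hinv, Matrix.one_mul,
        ← Matrix.mul_assoc, hPQ, Matrix.one_mul]
    rcases eq_or_ne τ 0 with rfl | hτ0
    · exact hG 0 (by rw [h1, zero_smul, zero_smul])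
    · exact hne (τ⁻¹ * σ) (by rw [mul_smul, ← hGx, h1, inv_smul_smul₀ hτ0])

theorem exists_rep {X' : Matrix (ι ⊕ κ) (ι ⊕ κ) F} {x₁ : Matrix ι ι F} {x₂ : Matrix κ κ F} [Nonempty ι]
    (h : MSim X' (Matrix.fromBlocks x₁ 0 0 x₂)) :
    ∃ x₁' : Matrix ι ι F, MSim x₁' x₁ ∧ SSim X' (Matrix.fromBlocks x₁' 0 0 x₂) := by
  obtain ⟨P, Q, hPQ, hQP, rfl⟩ := h.exists_conj
  obtain ⟨i₀⟩ := ‹Nonempty ι›
  have h1 : P.det * Q.det = 1 := by rw [← Matrix.det_mul, hPQ, Matrix.det_one]
  let E : Matrix ι ι F := Matrix.diagonal (Function.update 1 i₀ P.det)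
  let E' : Matrix ι ι F := Matrix.diagonal (Function.update 1 i₀ Q.det)
  have hEE : E * E' = 1 := by
    rw [Matrix.diagonal_mul_diagonal, ← Matrix.diagonal_one]
    refine congrArg _ (funext fun i => ?_)
    rcases eq_or_ne i i₀ with rfl | hi <;> simp [*]
  have hEd : E'.det = Q.det := by
    rw [Matrix.det_diagonal, Finset.prod_update_of_mem (Finset.mem_univ _)]
    simp
  refine ⟨E * x₁ * E', msim_conj _ _ _ hEE, P * Matrix.fromBlocks E' 0 0 1, Matrix.fromBlocks E 0 0 1 * Q, ?_, ?_, ?_⟩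
  · rw [Matrix.mul_assoc, ← Matrix.mul_assoc (Matrix.fromBlocks E' 0 0 1), Matrix.fromBlocks_multiply]
    simp [mul_eq_one_comm.1 hEE, hPQ]
  · rw [Matrix.det_mul, Matrix.det_fromBlocks_zero₂₁, hEd, Matrix.det_one, mul_one, h1]
  · rw [show Matrix.fromBlocks x₁ 0 0 x₂ =
        Matrix.fromBlocks E' 0 0 1 * Matrix.fromBlocks (E * x₁ * E') 0 0 x₂ * Matrix.fromBlocks E 0 0 1 by
      simp [Matrix.fromBlocks_multiply, Matrix.mul_assoc, mul_eq_one_comm.1 hEE]
      rw [← Matrix.mul_assoc E' E, mul_eq_one_comm.1 hEE, Matrix.one_mul]]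
    simp only [Matrix.mul_assoc]

theorem ssim_blocks {a b : Matrix ι ι F} {a' b' : Matrix κ κ F} (h : SSim a b) (h' : SSim a' b') :
    SSim (Matrix.fromBlocks a 0 0 a') (Matrix.fromBlocks b 0 0 b') := by
  obtain ⟨P, Q, hPQ, hd, rfl⟩ := h
  obtain ⟨P', Q', hPQ', hd', rfl⟩ := h'
  exact ⟨Matrix.fromBlocks P 0 0 P', Matrix.fromBlocks Q 0 0 Q', by simp [Matrix.fromBlocks_multiply, hPQ, hPQ'],
    by simp [hd, hd'], by simp [Matrix.fromBlocks_multiply]⟩

theorem ns_blocks {x₁ : Matrix ι ι F} {x₂ : Matrix κ κ F} (h : NS x₁) : NS (Matrix.fromBlocks x₁ 0 0 x₂) :=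
  fun c hc => h c (by
    ext i j
    simpa [Matrix.one_apply] using congrFun (congrFun hc (Sum.inl i)) (Sum.inl j))

theorem exists_forall₂_left {α β : Type*} {R : α → β → Prop} {l : List α} {l' : List β} (h : List.Forall₂ R l l') :
    ∀ a ∈ l, ∃ b ∈ l', R a b := by
  induction h with
  | nil => simp
  | cons h _ ih =>
    intro a ha
    rcases List.mem_cons.1 ha with rfl | ha
    · exact ⟨_, List.mem_cons_self, h⟩
    · obtain ⟨b, hb, hR⟩ := ih a ha
      exact ⟨b, List.mem_cons_of_mem _ hb, hR⟩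

theorem exists_forall₂_right {α β : Type*} {R : α → β → Prop} {l : List α} {l' : List β} (h : List.Forall₂ R l l') :
    ∀ b ∈ l', ∃ a ∈ l, R a b := exists_forall₂_left h.flip

/-- **Joining two blocks.** -/
theorem cov_join [Fintype F] (hq : 4 ≤ Fintype.card F) {x₁ : Matrix ι ι F} {x₂ : Matrix κ κ F} {a b : ℕ}
    (hι : 2 ≤ Fintype.card ι) (hκ : 2 ≤ Fintype.card κ) (h₁ : Cov b x₁) (h₂ : Cov a x₂) (hn₁ : NS x₁) (hn₂ : NS x₂)
    (hd₁ : x₁.det ≠ 0) (hd₂ : x₂.det ≠ 0) : Cov (a + b) (Matrix.fromBlocks x₁ 0 0 x₂) := by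
  haveI : Nonempty ι := Fintype.card_pos_iff.1 (by omega)
  intro g hg hgd
  rw [Matrix.det_fromBlocks_zero₂₁] at hgd
  have hgd0 : g.det ≠ 0 := by rw [hgd]; exact pow_ne_zero _ (mul_ne_zero hd₁ hd₂)
  obtain ⟨A', V', R', G', hs, hA', hAns', hG'⟩ := exists_block_pivot hq (Fintype.card ι) (Fintype.card κ) g
    (by omega) hκ hg hgd0 (by rw [Fintype.card_sum]) (x₁.det ^ (a + b)) (pow_ne_zero _ hd₁)
  let e := Fintype.equivFin ι
  let e' := Fintype.equivFin κ
  -- transport the pivot back to the given index types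
  set A := A'.submatrix e e with hAdef
  set G := G'.submatrix e' e' with hGdef
  set V := V'.submatrix e' e
  set R := R'.submatrix e e'
  have hs' : MSim g (pivForm A V R G) := by
    refine hs.trans ((msim_reindex (Equiv.sumCongr e e').symm _).trans ?_)
    convert MSim.refl (pivForm A V R G) using 1
    simp only [pivForm, A, V, R, G, Matrix.submatrix_mul_equiv]
    ext (i | i) (j | j) <;> simp [pivForm, Matrix.reindex_apply]
  have hA : A.det = x₁.det ^ (a + b) := by rw [hAdef, Matrix.det_submatrix_equiv_self, hA']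
  have hAns : NS A := (hAns' hι).of_msim (msim_reindex e.symm A')
  have hG : NS G := hG'.of_msim (msim_reindex e'.symm G')
  have hGdet : G.det = x₂.det ^ (a + b) := by
    have h1 := hs'.det_eq
    rw [hgd, det_pivForm, hA, mul_pow] at h1
    exact (mul_left_cancel₀ (pow_ne_zero _ hd₁) h1).symm
  obtain ⟨P, Q, hPQ, hQP, rfl⟩ := hs'.exists_conj
  obtain ⟨x₁', hx₁', hX⟩ := exists_rep (X' := Q * Matrix.fromBlocks x₁ 0 0 x₂ * P) (x₁ := x₁) (x₂ := x₂)
    (msim_conj _ _ _ hQP)
  have hn₁' : NS x₁' := hn₁.of_msim hx₁'.symm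
  have hd₁' : x₁'.det ≠ 0 := by rw [hx₁'.det_eq]; exact hd₁
  obtain ⟨c, c', hc, hcc', hQ₁⟩ := exists_nspow hAns hn₁' hd₁' a
  -- the transpose supplies the right quotient
  obtain ⟨h, h', hh, hhh', hP₂⟩ : ∃ h h' : Matrix κ κ F, SSim h x₂ ∧ h * h' = 1 ∧ NS (G * h' ^ b) := by
    have hT : ∀ y : Matrix κ κ F, NS y → NS yᵀ := fun y hy σ hσ => hy σ (by
      rw [← Matrix.transpose_transpose y, hσ, Matrix.transpose_smul, Matrix.transpose_one])
    obtain ⟨h, h', hh, hhh', hn⟩ := exists_nspow (hT G hG) (hT x₂ hn₂) (by rw [Matrix.det_transpose]; exact hd₂) b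
    refine ⟨hᵀ, h'ᵀ, ?_, by rw [← Matrix.transpose_mul, mul_eq_one_comm.1 hhh', Matrix.transpose_one], ?_⟩
    · obtain ⟨S, S', hSS', hS, rfl⟩ := hh
      refine ⟨S'ᵀ, Sᵀ, by rw [← Matrix.transpose_mul, hSS', Matrix.transpose_one], ?_, ?_⟩
      · rw [Matrix.det_transpose]
        simpa [hS] using congrArg Matrix.det hSS'
      · rw [Matrix.transpose_mul, Matrix.transpose_mul, Matrix.transpose_transpose, Matrix.mul_assoc]
    · have := hT _ hn
      rwa [Matrix.transpose_mul, Matrix.transpose_pow, Matrix.transpose_transpose] at this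
  have hc'd : x₁'.det * c'.det = 1 := by rw [← hc.det_eq, ← Matrix.det_mul, hcc', Matrix.det_one]
  have hh'd : x₂.det * h'.det = 1 := by rw [← hh.det_eq, ← Matrix.det_mul, hhh', Matrix.det_one]
  obtain ⟨lt, hlt, hltx, hltp, hlts⟩ := (h₁.of_msim hx₁'.symm) (c' ^ a * A) hQ₁ (by
    rw [Matrix.det_mul, Matrix.det_pow, hA, ← hx₁'.det_eq, pow_add, ← mul_assoc, ← mul_pow, mul_comm c'.det, hc'd,
      one_pow, one_mul])
  obtain ⟨ll, hll, hllx, hllp, hlls⟩ := h₂ (G * h' ^ b) hP₂ (by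
    rw [Matrix.det_mul, Matrix.det_pow, hGdet, pow_add, mul_assoc, ← mul_pow, hh'd, one_pow, mul_one])
  have hcpow : c ^ a * c' ^ a = 1 := by
    rw [← (show Commute c c' from hcc'.trans (mul_eq_one_comm.1 hcc').symm).mul_pow, hcc', one_pow]
  have hhpow : h' ^ b * h ^ b = 1 := by
    rw [← (show Commute h' h from (mul_eq_one_comm.1 hhh').trans hhh'.symm).mul_pow, mul_eq_one_comm.1 hhh', one_pow]
  obtain ⟨L, hL, hLp⟩ := exists_corner (mul_eq_one_comm.1 hcc') hlls (V * c ^ a)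
  obtain ⟨U, hU, hUp⟩ := exists_corner' (mul_eq_one_comm.1 hhh') hlts (c' ^ a * A * R)
  have hLU : (L ++ U).prod = pivForm A V R G := by
    rw [List.prod_append, hLp, hUp, hllp, hltp, hll, hlt, Matrix.fromBlocks_multiply, pivForm]
    simp only [Matrix.zero_mul, Matrix.mul_zero, add_zero, zero_add]
    congr 1
    · rw [← Matrix.mul_assoc, hcpow, Matrix.one_mul]
    · rw [← Matrix.mul_assoc, ← Matrix.mul_assoc, hcpow, Matrix.one_mul]
    · rw [Matrix.mul_assoc, ← Matrix.mul_assoc (c ^ a), hcpow, Matrix.one_mul]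
    · congr 1
      · rw [Matrix.mul_assoc V (c ^ a), ← Matrix.mul_assoc (c ^ a), ← Matrix.mul_assoc (c ^ a), hcpow, Matrix.one_mul,
          ← Matrix.mul_assoc]
      · rw [Matrix.mul_assoc, hhpow, Matrix.mul_one]
  have hLX : ∀ y ∈ L ++ U, SSim y (Q * Matrix.fromBlocks x₁ 0 0 x₂ * P) := fun y hy => by
    refine SSim.trans ?_ hX.symm
    rcases List.mem_append.1 hy with hy | hy
    · obtain ⟨k, hk, Z, rfl⟩ := exists_forall₂_left hL y hy
      exact (ssim_lowM c k Z).trans (ssim_blocks hc (hllx k hk))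
    · obtain ⟨k, hk, hsy, -⟩ := exists_forall₂_left hU y hy
      exact hsy.trans (ssim_blocks (hltx k hk) hh)
  have hspread : Spread (L ++ U) := by
    intro K hinv heq
    have hK2 : ∀ w ∈ K, ∀ i, w (Sum.inr i) = 0 := by
      have hb := hlls (K.map (LinearMap.funLeft F F Sum.inr)) (fun k hk v hv => by
          obtain ⟨w, hw, rfl⟩ := hv
          obtain ⟨y, hy, Z, rfl⟩ := exists_forall₂_right hL k hk
          refine ⟨w ᵥ* lowM c k Z, hinv _ (List.mem_append_left _ hy) w hw, ?_⟩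
          funext i
          simp [lowM, Matrix.vecMul_fromBlocks, LinearMap.funLeft_apply, Function.comp_def]
          rfl)
        (fun k hk k' hk' v hv => by
          obtain ⟨w, hw, rfl⟩ := hv
          obtain ⟨y, hy, Z, rfl⟩ := exists_forall₂_right hL k hk
          obtain ⟨y', hy', Z', rfl⟩ := exists_forall₂_right hL k' hk'
          have h1 := heq _ (List.mem_append_left _ hy) _ (List.mem_append_left _ hy') w hw
          funext i
          have h2 := congrFun h1 (Sum.inr i)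
          simp [lowM, Matrix.vecMul_fromBlocks] at h2
          simpa [Function.comp_def, LinearMap.funLeft] using h2)
      intro w hw i
      have h1 : LinearMap.funLeft F F Sum.inr w ∈ K.map (LinearMap.funLeft F F Sum.inr) := ⟨w, hw, rfl⟩
      rw [hb, Submodule.mem_bot] at h1
      exact congrFun h1 i
    have hb := hlts (K.map (LinearMap.funLeft F F Sum.inl)) (fun k hk v hv => by
        obtain ⟨w, hw, rfl⟩ := hv
        obtain ⟨y, hy, -, Z, rfl⟩ := exists_forall₂_right hU k hk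
        refine ⟨w ᵥ* Matrix.fromBlocks k Z 0 h, hinv _ (List.mem_append_right _ hy) w hw, ?_⟩
        funext i
        simp [Matrix.vecMul_fromBlocks, LinearMap.funLeft_apply, Function.comp_def]
        rfl)
      (fun k hk k' hk' v hv => by
        obtain ⟨w, hw, rfl⟩ := hv
        obtain ⟨y, hy, -, Z, rfl⟩ := exists_forall₂_right hU k hk
        obtain ⟨y', hy', -, Z', rfl⟩ := exists_forall₂_right hU k' hk'
        have h1 := heq _ (List.mem_append_right _ hy) _ (List.mem_append_right _ hy') w hw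
        funext i
        have h2 := congrFun h1 (Sum.inl i)
        simp [Matrix.vecMul_fromBlocks] at h2
        simpa [Function.comp_def, LinearMap.funLeft] using h2)
    refine (Submodule.eq_bot_iff K).2 fun w hw => funext fun i => ?_
    rcases i with i | i
    · have h1 : LinearMap.funLeft F F Sum.inl w ∈ K.map (LinearMap.funLeft F F Sum.inl) := ⟨w, hw, rfl⟩
      rw [hb, Submodule.mem_bot] at h1
      exact congrFun h1 i
    · exact hK2 w hw i
  refine ⟨(L ++ U).map fun y => P * y * Q, ?_, fun y hy => ?_, by rw [prod_map_conj P Q hPQ hQP, hLU],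
    hspread.map P Q hPQ hQP⟩
  · simp [hL.length_eq, hU.length_eq, hll, hlt]
  · obtain ⟨y', hy', rfl⟩ := List.mem_map.1 hy
    have h1 := ssim_map P Q hPQ hQP (hLX y' hy')
    simp only [← Matrix.mul_assoc] at h1
    rw [hPQ, Matrix.one_mul, Matrix.mul_assoc _ P Q, hPQ, Matrix.mul_one] at h1
    exact h1

end Cfsg.Lib.Linear.PSLCover
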