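import Cfsg.Agent.Lib.Linear.PSLCover.Pair

/-!
# No fewer factors for transvections
-/

set_option autoImplicit false
set_option linter.unusedSectionVars false
set_option linter.unusedSimpArgs false

universe u

namespace Cfsg.Lib.Linear.PSLCover

open Module Polynomial
open Cfsg.Lib.Linear.SLComm (dv)
open scoped Matrix

variable {F : Type u} [Field F]

/-- A matrix of determinant one without eigenvalues. -/
theorem exists_no_eigen [Fintype F] {n : ℕ} (hn : 2 ≤ n) :
    ∃ g : Matrix (Fin n) (Fin n) F, g.det = 1 ∧ ∀ (μ : F) (w : Fin n → F), w ≠ 0 → g *ᵥ w ≠ μ • w := by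
  classical
  obtain ⟨a, ha⟩ : ∃ a : F, ∀ r : F, r ≠ 0 → a ≠ -((r ^ n + (-1) ^ n) / r) := by
    by_contra h
    push Not at h
    choose r hr hra using h
    have hinj : Function.Injective fun a => (⟨r a, hr a⟩ : {r : F // r ≠ 0}) := fun a b hab => by
      have hr' : r a = r b := congrArg Subtype.val hab
      calc a = -((r a ^ n + (-1) ^ n) / r a) := hra a
        _ = -((r b ^ n + (-1) ^ n) / r b) := by rw [hr']
        _ = b := (hra b).symm
    have h1 := Fintype.card_le_of_injective _ hinj
    have h2 : Fintype.card {r : F // r ≠ 0} < Fintype.card F :=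
      Fintype.card_subtype_lt (x := (0 : F)) (by simp)
    omega
  have hdeg : (C a * X + C ((-1) ^ n) : F[X]).degree < (n : WithBot ℕ) :=
    lt_of_le_of_lt degree_linear_le (by exact_mod_cast hn)
  have hm : (X ^ n + (C a * X + C ((-1) ^ n))).Monic := monic_X_pow_add hdeg
  have hd : (X ^ n + (C a * X + C ((-1) ^ n))).natDegree = n := by
    refine natDegree_eq_of_degree_eq_some ?_
    rw [degree_add_eq_left_of_degree_lt (by rw [degree_X_pow]; exact hdeg), degree_X_pow]
  refine ⟨SLComm.comp (X ^ n + (C a * X + C ((-1) ^ n))) n, ?_, fun μ w hw he => ?_⟩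
  · rw [comp_det hm hd, dv, hd]
    simp [Polynomial.coeff_zero_eq_eval_zero, zero_pow (show n ≠ 0 by omega), ← mul_pow]
  · have h0 : (Matrix.scalar (Fin n) μ - SLComm.comp (X ^ n + (C a * X + C ((-1) ^ n))) n).det = 0 :=
      Matrix.exists_mulVec_eq_zero_iff.1 ⟨w, hw, by
        rw [Matrix.sub_mulVec, he, Matrix.scalar_apply, ← Matrix.smul_one_eq_diagonal, Matrix.smul_mulVec,
          Matrix.one_mulVec, sub_self]⟩
    rw [← Matrix.eval_charpoly, comp_charpoly hm hd] at h0
    simp at h0
    rcases eq_or_ne μ 0 with rfl | hμ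
    · simp [zero_pow (show n ≠ 0 by omega)] at h0
    · refine ha μ hμ ?_
      field_simp
      linear_combination h0

/-- Too few conjugates of a transvection fix a common vector. -/
theorem exists_fixed {n m : ℕ} (hm : m < n) {i j : Fin n} {t : F} (P Q : Fin m → Matrix (Fin n) (Fin n) F)
    (h : ∀ k, P k * Q k = 1) :
    ∃ w : Fin n → F, w ≠ 0 ∧ (List.ofFn fun k => P k * Matrix.transvection i j t * Q k).prod *ᵥ w = w := by
  let φ : (Fin n → F) →ₗ[F] Fin m → F := LinearMap.pi fun k => (LinearMap.proj j).comp (Matrix.toLin' (Q k))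
  have hk : LinearMap.ker φ ≠ ⊥ := LinearMap.ker_ne_bot_of_finrank_lt (by simpa using hm)
  obtain ⟨w, hw, hw0⟩ := (Submodule.ne_bot_iff _).1 hk
  refine ⟨w, hw0, ?_⟩
  have hfix : ∀ a ∈ List.ofFn (fun k => P k * Matrix.transvection i j t * Q k), a *ᵥ w = w := by
    intro a ha
    obtain ⟨k, rfl⟩ := List.mem_ofFn.1 ha
    have hwk : (Q k *ᵥ w) j = 0 := congrFun hw k
    have htr : Matrix.transvection i j t *ᵥ (Q k *ᵥ w) = Q k *ᵥ w := by
      rw [Matrix.transvection, Matrix.add_mulVec, Matrix.one_mulVec, Matrix.single_mulVec, hwk]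
      simp
    rw [← Matrix.mulVec_mulVec, ← Matrix.mulVec_mulVec, htr, Matrix.mulVec_mulVec, h k, Matrix.one_mulVec]
  generalize List.ofFn (fun k => P k * Matrix.transvection i j t * Q k) = l at hfix
  induction l with
  | nil => simp
  | cons a l ih =>
    rw [List.prod_cons, ← Matrix.mulVec_mulVec, ih fun b hb => hfix b (List.mem_cons_of_mem _ hb),
      hfix a List.mem_cons_self]

end Cfsg.Lib.Linear.PSLCover
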