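import Cfsg.Agent.Lib.Linear.PSLCover.RankOne
import Cfsg.Agent.Lib.Linear.SLCommutator.Family

/-!
# Cyclic blocks, each dividing the larger ones
-/

set_option autoImplicit false
set_option linter.unusedSectionVars false
set_option linter.unusedSimpArgs false

universe u

namespace Cfsg.Lib.Linear.PSLCover

open Module Polynomial
open Cfsg.Lib.Linear.SLComm (Sim rt opFam comp_sim rt_mul toLin'_diag_sim opFam_sum opFam_unique opFam_sim_of_map_eq)
open scoped Matrix

variable {F : Type u} [Field F]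

/-- The total degree. -/
abbrev degs (L : List F[X]) : ℕ := (L.map natDegree).sum

/-- The block matrix of a list of polynomials. -/
noncomputable def blk : (L : List F[X]) → Matrix (Fin (degs L)) (Fin (degs L)) F
  | [] => 0
  | f :: L => Matrix.reindex finSumFinEquiv finSumFinEquiv
      (Matrix.fromBlocks (SLComm.comp f f.natDegree) 0 0 (blk L))

theorem blk_cons (f : F[X]) (L : List F[X]) :
    MSim (blk (f :: L)) (Matrix.fromBlocks (SLComm.comp f f.natDegree) 0 0 (blk L)) :=
  (msim_reindex finSumFinEquiv (Matrix.fromBlocks (SLComm.comp f f.natDegree) 0 0 (blk L))).symm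

theorem msim_empty {ι κ : Type} [Fintype ι] [DecidableEq ι] [Fintype κ] [DecidableEq κ] [IsEmpty ι] [IsEmpty κ]
    (A : Matrix ι ι F) (B : Matrix κ κ F) : MSim A B :=
  ⟨LinearEquiv.ofLinear 0 0 (LinearMap.ext fun _ => Subsingleton.elim _ _) (LinearMap.ext fun _ => Subsingleton.elim _ _),
    fun _ => Subsingleton.elim _ _⟩

theorem msim_blocks_empty {ι κ : Type} [Fintype ι] [DecidableEq ι] [Fintype κ] [DecidableEq κ] [IsEmpty ι]
    (A : Matrix ι ι F) (B : Matrix κ κ F) : MSim (Matrix.fromBlocks A 0 0 B) B := by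
  convert msim_reindex (Equiv.emptySum ι κ) (Matrix.fromBlocks A 0 0 B) using 1
  ext i j
  simp [Matrix.reindex_apply]

theorem blk_unit {f : F[X]} (hf : f.natDegree = 0) (L : List F[X]) : MSim (blk (f :: L)) (blk L) := by
  haveI : IsEmpty (Fin f.natDegree) := by rw [hf]; infer_instance
  exact (blk_cons f L).trans (msim_blocks_empty _ _)

theorem blk_perm {L L' : List F[X]} (h : L.Perm L') : MSim (blk L) (blk L') := by
  induction h with
  | nil => exact MSim.refl _
  | cons f _ ih => exact (blk_cons f _).trans ((msim_blocks (MSim.refl _) ih).trans (blk_cons f _).symm)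
  | swap f g L =>
    refine (blk_cons g _).trans ((msim_blocks (MSim.refl _) (blk_cons f L)).trans ?_)
    refine (msim_blocks_assoc _ _ _).symm.trans ?_
    refine (msim_blocks (msim_blocks_comm _ _) (MSim.refl _)).trans ?_
    exact (msim_blocks_assoc _ _ _).trans ((msim_blocks (MSim.refl _) (blk_cons g L).symm).trans (blk_cons f _).symm)
  | trans _ _ ih ih' => exact ih.trans ih'

theorem msim_comp_mul {f g : F[X]} (hf : f.Monic) (hg : g.Monic) (h : IsCoprime f g) {k a b : ℕ}
    (hk : (f * g).natDegree = k) (ha : f.natDegree = a) (hb : g.natDegree = b) :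
    MSim (SLComm.comp (f * g) k) (Matrix.fromBlocks (SLComm.comp f a) 0 0 (SLComm.comp g b)) :=
  (comp_sim (hf.mul hg) hk).symm.trans ((rt_mul hf hg h).trans
    ((Sim.prod (comp_sim hf ha) (comp_sim hg hb)).trans (toLin'_diag_sim _ _)))

theorem blk_merge {f g : F[X]} (hf : f.Monic) (hg : g.Monic) (h : IsCoprime f g) (L : List F[X]) :
    MSim (blk ((f * g) :: L)) (blk (f :: g :: L)) :=
  (blk_cons _ L).trans ((msim_blocks (msim_comp_mul hf hg h rfl rfl rfl) (MSim.refl _)).trans
    ((msim_blocks_assoc _ _ _).trans ((msim_blocks (MSim.refl _) (blk_cons g L).symm).trans (blk_cons f _).symm)))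

theorem opFam_blk : ∀ L : List F[X], (∀ f ∈ L, f.Monic) →
    Sim (opFam fun i : Fin L.length => L[i]) (Matrix.toLin' (blk L))
  | [], _ => by
    haveI : IsEmpty (Fin (degs ([] : List F[X]))) := by simp only [degs, List.map_nil, List.sum_nil]; infer_instance
    haveI : IsEmpty (Fin ([] : List F[X]).length) := Fin.isEmpty'
    exact ⟨LinearEquiv.ofLinear 0 0 (LinearMap.ext fun _ => Subsingleton.elim _ _)
      (LinearMap.ext fun _ => Subsingleton.elim _ _), fun _ => Subsingleton.elim _ _⟩
  | f :: L, h => by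
    let p : Unit ⊕ Fin L.length → F[X] := Sum.elim (fun _ => f) fun i => L[i]
    have hp : (Finset.univ : Finset _).val.map p = (Finset.univ : Finset (Fin (f :: L).length)).val.map fun i => (f :: L)[i] := by
      rw [show (Finset.univ : Finset (Unit ⊕ Fin L.length)).val =
        (Finset.univ.val.map Sum.inl) + (Finset.univ.val.map Sum.inr) from rfl, Multiset.map_add, Multiset.map_map,
        Multiset.map_map]
      show Finset.univ.val.map (fun _ : Unit => f) + Finset.univ.val.map (fun i : Fin L.length => L[i]) = _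
      rw [SLComm.map_univ_fin, SLComm.map_univ_fin, ← Multiset.cons_coe, ← Multiset.singleton_add]
      rfl
    refine Sim.trans (opFam_sim_of_map_eq p (fun i : Fin (f :: L).length => (f :: L)[i]) hp) (Sim.trans (opFam_sum p) ?_)
    refine Sim.trans (Sim.prod ((opFam_unique _).trans (comp_sim (h f List.mem_cons_self) rfl))
      (opFam_blk L fun g hg => h g (List.mem_cons_of_mem _ hg))) ?_
    exact (toLin'_diag_sim _ _).trans (blk_cons f L).symm

/-- Some list of blocks. -/
theorem exists_list {ι : Type} [Fintype ι] [DecidableEq ι] (A : Matrix ι ι F) :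
    ∃ L : List F[X], (∀ f ∈ L, f.Monic ∧ 1 ≤ f.natDegree) ∧ MSim A (blk L) := by
  classical
  set A' := Matrix.reindex (Fintype.equivFin ι) (Fintype.equivFin ι) A
  obtain ⟨τ, _, p, e, hp, hi, he, hform⟩ := Cfsg.Lib.CanonicalForm.exists_form A'
  let M : Multiset F[X] := (Finset.univ : Finset τ).val.map fun i => p i ^ e i
  refine ⟨M.toList, fun f hf => ?_, (msim_reindex (Fintype.equivFin ι) A).trans ?_⟩
  · obtain ⟨i, -, rfl⟩ := Multiset.mem_map.1 (Multiset.mem_toList.1 hf)
    refine ⟨(hp i).pow _, ?_⟩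
    rw [natDegree_pow]
    exact Nat.one_le_iff_ne_zero.2 (Nat.mul_ne_zero (by have := he i; omega) (hi i).natDegree_pos.ne')
  · obtain ⟨Ψ, hΨ⟩ := hform
    have h1 : Sim (Matrix.toLin' A') (opFam fun i => p i ^ e i) := ⟨Ψ, fun v => funext fun i => hΨ v i⟩
    refine Sim.trans h1 (Sim.trans (opFam_sim_of_map_eq (fun i : Fin M.toList.length => M.toList[i])
      (fun i => p i ^ e i) ?_) (opFam_blk _ fun f hf => ?_))
    · rw [SLComm.map_univ_fin, Multiset.coe_toList]
    · obtain ⟨i, -, rfl⟩ := Multiset.mem_map.1 (Multiset.mem_toList.1 hf)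
      exact (hp i).pow _

theorem exists_prime_split {g : F[X]} (hg : g.Monic) {p : F[X]} (hp : p.Monic) (hi : Irreducible p) :
    ∃ (a : ℕ) (g' : F[X]), g'.Monic ∧ ¬ p ∣ g' ∧ g = p ^ a * g' := by
  obtain ⟨a, g', hndvd, rfl⟩ := WfDvdMonoid.max_power_factor hg.ne_zero hi
  exact ⟨a, g', (hp.pow a).of_mul_monic_left hg, hndvd, rfl⟩

theorem exists_pow_not_dvd : ∀ (n : ℕ) (g f : F[X]), g.natDegree ≤ n → g.Monic → ¬ g ∣ f →
    ∃ (p : F[X]) (b : ℕ), p.Monic ∧ Irreducible p ∧ p ^ b ∣ g ∧ ¬ p ^ b ∣ f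
  | 0, g, f, hn, hg, h => absurd (by rw [hg.natDegree_eq_zero.1 (by omega)]; exact one_dvd f) h
  | n + 1, g, f, hn, hg, h => by
    rcases eq_or_ne g.natDegree 0 with h0 | h0
    · exact absurd (by rw [hg.natDegree_eq_zero.1 h0]; exact one_dvd f) h
    obtain ⟨p, hpm, hpi, hpd⟩ := Polynomial.exists_monic_irreducible_factor g fun hu => h0 (natDegree_eq_zero_of_isUnit hu)
    obtain ⟨b, g', hg', hndvd, rfl⟩ := exists_prime_split hg hpm hpi
    by_cases hb : p ^ b ∣ f
    · have hb1 : 1 ≤ b := by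
        by_contra hb0
        rw [show b = 0 by omega, pow_zero, one_mul] at hpd
        exact hndvd hpd
      have hlt : g'.natDegree ≤ n := by
        have := hpi.natDegree_pos
        rw [(hpm.pow b).natDegree_mul hg', natDegree_pow] at hn
        have : 1 * p.natDegree ≤ b * p.natDegree := Nat.mul_le_mul_right _ hb1
        omega
      have hd' : ¬ g' ∣ f := fun hd => h ((((hpi.coprime_iff_not_dvd).2 hndvd).pow_left).mul_dvd hb hd)
      obtain ⟨r, c, h1, h2, h3, h4⟩ := exists_pow_not_dvd n g' f hlt hg' hd'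
      exact ⟨r, c, h1, h2, h3.mul_left _, h4⟩
    · exact ⟨p, b, hpm, hpi, dvd_mul_right _ _, hb⟩

/-- The sum of the squares of the degrees. -/
noncomputable def weight (L : List F[X]) : ℕ := (L.map fun f => f.natDegree ^ 2).sum

theorem weight_le : ∀ L : List F[X], weight L ≤ degs L ^ 2
  | [] => by simp [weight]
  | f :: L => by
    have h1 : weight (f :: L) = f.natDegree ^ 2 + weight L := by simp [weight]
    have h2 : degs (f :: L) = f.natDegree + degs L := by simp [degs]
    have := weight_le L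
    rw [h1, h2]
    calc f.natDegree ^ 2 + weight L ≤ f.natDegree ^ 2 + degs L ^ 2 := Nat.add_le_add_left this _
      _ ≤ (f.natDegree + degs L) ^ 2 := by rw [add_sq]; omega

/-- A pair out of order is improved. -/
theorem exists_better {f g : F[X]} (hf : f.Monic) (hg : g.Monic) (hdeg : g.natDegree ≤ f.natDegree) (h : ¬ g ∣ f)
    (L : List F[X]) : ∃ f' g' : F[X], f'.Monic ∧ g'.Monic ∧ 1 ≤ f'.natDegree ∧
      MSim (blk (f :: g :: L)) (blk (f' :: g' :: L)) ∧
      f.natDegree ^ 2 + g.natDegree ^ 2 < f'.natDegree ^ 2 + g'.natDegree ^ 2 := by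
  obtain ⟨p, b₀, hp, hi, hbg, hbf⟩ := exists_pow_not_dvd _ g f le_rfl hg h
  obtain ⟨a, f₁, hf₁, hnf, rfl⟩ := exists_prime_split hf hp hi
  obtain ⟨b, g₁, hg₁, hng, rfl⟩ := exists_prime_split hg hp hi
  have hab : a < b := by
    have h1 : b₀ ≤ b := by
      have := ((hi.coprime_iff_not_dvd.2 hng).pow_left (m := b₀)).dvd_of_dvd_mul_right hbg
      exact (pow_dvd_pow_iff hp.ne_zero hi.not_isUnit).1 this
    have h2 : a < b₀ := by
      by_contra h'
      exact hbf ((pow_dvd_pow p (by omega)).trans (dvd_mul_right _ _))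
    omega
  have cf : ∀ k, IsCoprime (p ^ k) f₁ := fun k => (hi.coprime_iff_not_dvd.2 hnf).pow_left
  have cg : ∀ k, IsCoprime (p ^ k) g₁ := fun k => (hi.coprime_iff_not_dvd.2 hng).pow_left
  refine ⟨p ^ b * f₁, p ^ a * g₁, (hp.pow b).mul hf₁, (hp.pow a).mul hg₁, ?_, ?_, ?_⟩
  · rw [(hp.pow b).natDegree_mul hf₁, natDegree_pow]
    have : 1 * 1 ≤ b * p.natDegree := Nat.mul_le_mul (by omega) hi.natDegree_pos
    omega
  · refine (blk_merge (hp.pow a) hf₁ (cf a) _).trans ?_
    refine (blk_perm (L' := (p ^ b * g₁) :: p ^ a :: f₁ :: L) ?_).trans ?_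
    · exact ((List.Perm.swap _ _ _).cons _).trans (List.Perm.swap _ _ _)
    refine (blk_merge (hp.pow b) hg₁ (cg b) _).trans ?_
    refine MSim.trans ?_ (blk_merge (hp.pow b) hf₁ (cf b) _).symm
    refine MSim.trans ?_ (blk_perm (L := (p ^ a * g₁) :: p ^ b :: f₁ :: L) ?_)
    · refine MSim.trans ?_ (blk_merge (hp.pow a) hg₁ (cg a) _).symm
      refine blk_perm ?_
      classical
      refine List.perm_iff_count.2 fun z => ?_
      simp only [List.count_cons]
      omega
    · exact (List.Perm.swap _ _ _).trans ((List.Perm.swap _ _ _).cons _)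
  · rw [(hp.pow a).natDegree_mul hf₁, (hp.pow b).natDegree_mul hg₁, natDegree_pow, natDegree_pow] at hdeg ⊢
    rw [(hp.pow b).natDegree_mul hf₁, (hp.pow a).natDegree_mul hg₁, natDegree_pow, natDegree_pow]
    obtain ⟨c, rfl⟩ : ∃ c, b = a + (c + 1) := ⟨b - a - 1, by omega⟩
    rw [add_mul] at hdeg ⊢
    set A := a * p.natDegree
    set D := (c + 1) * p.natDegree with hD
    have hD1 : 1 * 1 ≤ D := Nat.mul_le_mul (by omega) hi.natDegree_pos
    obtain ⟨e, he⟩ : ∃ e, f₁.natDegree = g₁.natDegree + D + e := ⟨f₁.natDegree - g₁.natDegree - D, by omega⟩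
    rw [he]
    nlinarith

/-- **Blocks each dividing the larger ones.** -/
theorem exists_chain {ι : Type} [Fintype ι] [DecidableEq ι] (A : Matrix ι ι F) :
    ∃ L : List F[X], (∀ f ∈ L, f.Monic ∧ 1 ≤ f.natDegree) ∧ MSim A (blk L) ∧
      ∀ f ∈ L, ∀ g ∈ L, g.natDegree ≤ f.natDegree → g ∣ f := by
  classical
  suffices h : ∀ (k : ℕ) (L : List F[X]), (Fintype.card ι) ^ 2 - weight L ≤ k → (∀ f ∈ L, f.Monic ∧ 1 ≤ f.natDegree) →
      MSim A (blk L) → ∃ L : List F[X], (∀ f ∈ L, f.Monic ∧ 1 ≤ f.natDegree) ∧ MSim A (blk L) ∧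
        ∀ f ∈ L, ∀ g ∈ L, g.natDegree ≤ f.natDegree → g ∣ f by
    obtain ⟨L, hL, hA⟩ := exists_list A
    exact h _ L le_rfl hL hA
  intro k
  induction k using Nat.strong_induction_on with
  | _ k ih =>
    intro L hk hL hA
    by_cases hgood : ∀ f ∈ L, ∀ g ∈ L, g.natDegree ≤ f.natDegree → g ∣ f
    · exact ⟨L, hL, hA, hgood⟩
    push Not at hgood
    obtain ⟨f, hf, g, hg, hdeg, hndvd⟩ := hgood
    have hgf : g ∈ L.erase f := (List.mem_erase_of_ne fun e => hndvd (by rw [e])).2 hg
    set R := (L.erase f).erase g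
    have hperm : L.Perm (f :: g :: R) :=
      (List.perm_cons_erase hf).trans ((List.perm_cons_erase hgf).cons f)
    obtain ⟨f', g', hf', hg', hf1, hsim, hw⟩ := exists_better (hL f hf).1 (hL g hg).1 hdeg hndvd R
    have hA' : MSim A (blk (f' :: g' :: R)) := hA.trans ((blk_perm hperm).trans hsim)
    have hwL : weight L = f.natDegree ^ 2 + (g.natDegree ^ 2 + weight R) := by
      simp only [weight]
      rw [(hperm.map _).sum_eq]
      simp
    have hR : ∀ x ∈ R, x.Monic ∧ 1 ≤ x.natDegree := fun x hx => hL x (List.mem_of_mem_erase (List.mem_of_mem_erase hx))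
    have hcard : ∀ M : List F[X], MSim A (blk M) → weight M ≤ (Fintype.card ι) ^ 2 := fun M hM => by
      obtain ⟨e, -⟩ := hM
      have := e.finrank_eq
      rw [Module.finrank_fintype_fun_eq_card, Module.finrank_fin_fun] at this
      rw [this]
      exact weight_le M
    rcases Nat.eq_zero_or_pos g'.natDegree with h0 | h0
    · have h2 : MSim A (blk (f' :: R)) := hA'.trans ((blk_perm (List.Perm.swap _ _ _)).trans (blk_unit h0 _))
      refine ih _ ?_ (f' :: R) le_rfl (fun x hx => ?_) h2
      · have hb := hcard _ h2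
        have hw' : weight (f' :: R) = f'.natDegree ^ 2 + weight R := by simp [weight]
        rw [h0] at hw
        simp at hw
        omega
      · rcases List.mem_cons.1 hx with rfl | hx
        exacts [⟨hf', hf1⟩, hR x hx]
    · refine ih _ ?_ (f' :: g' :: R) le_rfl (fun x hx => ?_) hA'
      · have hb := hcard _ hA'
        have hw' : weight (f' :: g' :: R) = f'.natDegree ^ 2 + (g'.natDegree ^ 2 + weight R) := by simp [weight]
        omega
      · rcases List.mem_cons.1 hx with rfl | hx
        · exact ⟨hf', hf1⟩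
        rcases List.mem_cons.1 hx with rfl | hx
        exacts [⟨hg', h0⟩, hR x hx]

end Cfsg.Lib.Linear.PSLCover
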