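import Cfsg.Agent.Lib.Linear.PSLCover.OneTools

/-!
# The identity by steps
-/

set_option autoImplicit false
set_option linter.unusedSectionVars false
set_option linter.unusedSimpArgs false

universe u

namespace Cfsg.Lib.Linear.PSLCover

open Module Polynomial
open Cfsg.Lib.Linear.SLComm (dv)
open scoped Matrix

variable {F : Type u} [Field F]
variable {κ ν : Type} [Fintype κ] [DecidableEq κ] [Fintype ν] [DecidableEq ν]

/-! ### Frames -/

theorem frame_lam_lam {lam : F} {B : Matrix κ κ F} {W : Matrix ν ν F} (v : Fin 2 → κ → F)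
    (h : LinearIndependent F ![v 0 ᵥ* B - lam • v 0, v 1 ᵥ* B - lam • v 1]) :
    HasFrame (Fin 2) (Matrix.fromBlocks (lam • 1 : Matrix (Fin 2) (Fin 2) F) 0 0 (Matrix.fromBlocks B 0 0 W)) := by
  refine ⟨fun i => Sum.elim (Pi.single i 1) (Sum.elim (v i) 0), ?_⟩
  rw [Fintype.linearIndependent_iff]
  intro g hg
  simp only [Fintype.sum_sum_type, Fin.sum_univ_two, Sum.elim_inl, Sum.elim_inr, Matrix.vecMul_fromBlocks,
    Matrix.vecMul_zero, add_zero, zero_add, Matrix.vecMul_smul, Matrix.vecMul_one] at hg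
  have h0 : g (Sum.inl 0) = -(lam * g (Sum.inr 0)) := by
    have := congrFun hg (Sum.inl 0); simp at this; linear_combination this
  have h1 : g (Sum.inl 1) = -(lam * g (Sum.inr 1)) := by
    have := congrFun hg (Sum.inl 1); simp at this; linear_combination this
  have hB : g (Sum.inr 0) • (v 0 ᵥ* B - lam • v 0) + g (Sum.inr 1) • (v 1 ᵥ* B - lam • v 1) = 0 := by
    funext j
    have := congrFun hg (Sum.inr (Sum.inl j))
    simp [Function.comp_def] at this
    simp [Function.comp_def, h0, h1] at this ⊢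
    linear_combination this
  obtain ⟨e0, e1⟩ := LinearIndependent.pair_iff.1 h _ _ hB
  intro i
  rcases i with i | i <;> fin_cases i
  · show g (Sum.inl 0) = 0
    rw [h0, e0, mul_zero, neg_zero]
  · show g (Sum.inl 1) = 0
    rw [h1, e1, mul_zero, neg_zero]
  · exact e0
  · exact e1

theorem frame_lam_comp {lam : F} {f : F[X]} {k : ℕ} (hk : 3 ≤ k) {W : Matrix ν ν F} :
    HasFrame (Fin 2) (Matrix.fromBlocks (lam • 1 : Matrix (Fin 2) (Fin 2) F) 0 0
      (Matrix.fromBlocks (SLComm.comp f k) 0 0 W)) := by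
  refine frame_lam_lam ![Pi.single ⟨1, by omega⟩ 1, Pi.single ⟨2, by omega⟩ 1]
    (LinearIndependent.pair_iff.2 fun a b hab => ?_)
  have h0 := congrFun hab ⟨0, by omega⟩
  have h1 := congrFun hab ⟨1, by omega⟩
  simp [SLComm.comp, Matrix.single_vecMul, Pi.single_apply, Fin.ext_iff, show ¬ (1 = k) by omega,
    show ¬ (2 = k) by omega] at h0 h1
  subst h0
  exact ⟨rfl, by simpa using h1⟩

theorem frame_lam_quads {lam : F} {q : F[X]} {W : Matrix ν ν F} :
    HasFrame (Fin 2) (Matrix.fromBlocks (lam • 1 : Matrix (Fin 2) (Fin 2) F) 0 0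
      (Matrix.fromBlocks (Matrix.fromBlocks (SLComm.comp q 2) 0 0 (SLComm.comp q 2)) 0 0 W)) := by
  refine frame_lam_lam ![Sum.elim (Pi.single 1 1) 0, Sum.elim 0 (Pi.single 1 1)]
    (LinearIndependent.pair_iff.2 fun a b hab => ?_)
  have h0 := congrFun hab (Sum.inl 0)
  have h1 := congrFun hab (Sum.inr 0)
  simp [SLComm.comp, Matrix.vecMul_fromBlocks, Matrix.single_vecMul, Pi.single_apply] at h0 h1
  exact ⟨h0, h1⟩

theorem frame_three_three {f g : F[X]} {W : Matrix ν ν F} :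
    HasFrame (Fin 3) (Matrix.fromBlocks (SLComm.comp f 3) 0 0 (Matrix.fromBlocks (SLComm.comp g 3) 0 0 W)) := by
  refine ⟨![Sum.elim (Pi.single 2 1) 0, Sum.elim 0 (Sum.elim (Pi.single 2 1) 0),
    Sum.elim (Pi.single 0 1) (Sum.elim (Pi.single 1 1) 0)], ?_⟩
  rw [Fintype.linearIndependent_iff]
  intro c hc
  simp only [Fintype.sum_sum_type, Fin.sum_univ_three, Sum.elim_inl, Sum.elim_inr, Matrix.cons_val, Matrix.vecMul_fromBlocks,
    Sum.elim_comp_inl, Sum.elim_comp_inr, Matrix.vecMul_zero, Matrix.zero_vecMul, add_zero, zero_add] at hc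
  have a0 := congrFun hc (Sum.inl 0)
  have a1 := congrFun hc (Sum.inl 1)
  have a2 := congrFun hc (Sum.inl 2)
  have b0 := congrFun hc (Sum.inr (Sum.inl 0))
  have b1 := congrFun hc (Sum.inr (Sum.inl 1))
  have b2 := congrFun hc (Sum.inr (Sum.inl 2))
  simp [SLComm.comp, Matrix.single_vecMul, Pi.single_apply] at a0 a1 a2 b0 b1 b2
  simp [a0, a1, b0] at b1
  simp [a0, a1, b0, b1] at a2 b2
  intro i
  rcases i with i | i <;> fin_cases i <;> assumption

theorem frame_three_four {f g : F[X]} {W : Matrix ν ν F} :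
    HasFrame (Fin 3) (Matrix.fromBlocks (SLComm.comp f 3) 0 0 (Matrix.fromBlocks (SLComm.comp g 4) 0 0 W)) := by
  refine ⟨![Sum.elim (Pi.single 2 1) 0, Sum.elim 0 (Sum.elim (Pi.single 3 1) 0),
    Sum.elim 0 (Sum.elim (Pi.single 1 1) 0)], ?_⟩
  rw [Fintype.linearIndependent_iff]
  intro c hc
  simp only [Fintype.sum_sum_type, Fin.sum_univ_three, Sum.elim_inl, Sum.elim_inr, Matrix.cons_val, Matrix.vecMul_fromBlocks,
    Sum.elim_comp_inl, Sum.elim_comp_inr, Matrix.vecMul_zero, Matrix.zero_vecMul, add_zero, zero_add] at hc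
  have a1 := congrFun hc (Sum.inl 1)
  have a2 := congrFun hc (Sum.inl 2)
  have b0 := congrFun hc (Sum.inr (Sum.inl 0))
  have b1 := congrFun hc (Sum.inr (Sum.inl 1))
  have b2 := congrFun hc (Sum.inr (Sum.inl 2))
  have b3 := congrFun hc (Sum.inr (Sum.inl 3))
  simp [SLComm.comp, Matrix.single_vecMul, Pi.single_apply] at a1 a2 b0 b1 b2 b3
  simp [a1, b0, b1, b2] at a2 b3
  intro i
  rcases i with i | i <;> fin_cases i <;> assumption

theorem frame_four_four {f g : F[X]} {W : Matrix ν ν F} :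
    HasFrame (Fin 4) (Matrix.fromBlocks (SLComm.comp f 4) 0 0 (Matrix.fromBlocks (SLComm.comp g 4) 0 0 W)) := by
  refine ⟨![Sum.elim (Pi.single 3 1) 0, Sum.elim (Pi.single 1 1) 0, Sum.elim 0 (Sum.elim (Pi.single 3 1) 0),
    Sum.elim 0 (Sum.elim (Pi.single 1 1) 0)], ?_⟩
  rw [Fintype.linearIndependent_iff]
  intro c hc
  simp only [Fintype.sum_sum_type, Fin.sum_univ_four, Sum.elim_inl, Sum.elim_inr, Matrix.cons_val, Matrix.vecMul_fromBlocks,
    Sum.elim_comp_inl, Sum.elim_comp_inr, Matrix.vecMul_zero, Matrix.zero_vecMul, add_zero, zero_add] at hc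
  have a0 := congrFun hc (Sum.inl 0)
  have a1 := congrFun hc (Sum.inl 1)
  have a2 := congrFun hc (Sum.inl 2)
  have a3 := congrFun hc (Sum.inl 3)
  have b0 := congrFun hc (Sum.inr (Sum.inl 0))
  have b1 := congrFun hc (Sum.inr (Sum.inl 1))
  have b2 := congrFun hc (Sum.inr (Sum.inl 2))
  have b3 := congrFun hc (Sum.inr (Sum.inl 3))
  simp [SLComm.comp, Matrix.single_vecMul, Pi.single_apply] at a0 a1 a2 a3 b0 b1 b2 b3
  simp [a0, a1, a2, b0, b1, b2] at a3 b3
  intro i
  rcases i with i | i <;> fin_cases i <;> assumption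

/-! ### Steps on lists -/

theorem degs_perm {L L' : List F[X]} (h : L.Perm L') : degs L = degs L' := (h.map _).sum_eq

theorem msim_blk_two (f : F[X]) (L : List F[X]) {a : ℕ} (ha : f.natDegree = a) :
    MSim (blk (f :: L)) (Matrix.fromBlocks (SLComm.comp f a) 0 0 (blk L)) :=
  (blk_cons f L).trans (msim_blocks (msim_comp_cast ha) (MSim.refl _))

theorem msim_lam_lam (lam : F) (L : List F[X]) : MSim (blk ((X - C lam) :: (X - C lam) :: L))
    (Matrix.fromBlocks (lam • 1 : Matrix (Fin 2) (Fin 2) F) 0 0 (blk L)) := by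
  refine (msim_blk_two _ _ (natDegree_X_sub_C lam)).trans
    ((msim_blocks (msim_comp_one lam) ((msim_blk_two _ L (natDegree_X_sub_C lam)).trans
      (msim_blocks (msim_comp_one lam) (MSim.refl _)))).trans
      ((msim_blocks_assoc _ _ _).symm.trans (msim_blocks ?_ (MSim.refl _))))
  rw [fromBlocks_smul_one]
  exact msim_scalar (by simp) lam

variable [Fintype F] {n : ℕ} {x : Matrix (Fin n) (Fin n) F} {L R : List F[X]} {f q : F[X]} {lam : F}

theorem list_data (hL : ∀ g ∈ L, g.Monic ∧ 1 ≤ g.natDegree) (hx : MSim x (blk L)) (hd : x.det = 1) :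
    (∀ g ∈ L, g.Monic ∧ 1 ≤ g.natDegree ∧ g.coeff 0 ≠ 0) ∧ n = degs L := by
  have h := coeff_ne_of_det (fun g hg => (hL g hg).1) hx (by rw [hd]; exact one_ne_zero)
  exact ⟨fun g hg => ⟨(hL g hg).1, (hL g hg).2, h g hg⟩, by simpa using card_of_msim hx⟩

/-- The base of a member of size at least three. -/
theorem cov_base (hq : 4 ≤ Fintype.card F) (hf : f.Monic) (h0 : f.coeff 0 ≠ 0) {k : ℕ} (hk : f.natDegree = k)
    (h3 : 3 ≤ k) (hR : ∀ g ∈ R, g.Monic ∧ 1 ≤ g.natDegree ∧ g.coeff 0 ≠ 0) :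
    Cov (k + degs R) (Matrix.fromBlocks (SLComm.comp f k) 0 0 (blk R)) :=
  (cov_ext hq (cov_cyclic hq hf hk h0 h3) (ns_comp (by omega))
    (by rw [comp_det hf hk]; exact mul_ne_zero (pow_ne_zero _ (neg_ne_zero.2 one_ne_zero)) h0)
    (by rw [Fintype.card_fin]; exact h3) R hR).1.of_msim (msim_blocks_comm _ _)

/-- A quadratic over a member of size at least three. -/
theorem sprod_one_quad (hF : 4 ≤ Fintype.card F) (hL : ∀ g ∈ L, g.Monic ∧ 1 ≤ g.natDegree) (hx : MSim x (blk L))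
    (hd : x.det = 1) (hperm : L.Perm (q :: f :: R)) (hqd : q.natDegree = 2) (h3 : 3 ≤ f.natDegree) :
    SProd n x ((1 : F) • 1) := by
  obtain ⟨hL', hn⟩ := list_data hL hx hd
  rw [degs_perm hperm, degs_cons, degs_cons, hqd] at hn
  obtain ⟨hfm, -, hf0⟩ := hL' f (hperm.mem_iff.2 (by simp))
  have hns : NS (Matrix.fromBlocks (SLComm.comp f f.natDegree) 0 0 (blk R)) := ns_blocks (ns_comp (by omega))
  exact sprod_one_two (hx.trans ((blk_perm hperm).trans ((msim_blk_two q _ hqd).trans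
      (msim_blocks (MSim.refl _) (msim_blk_two f R rfl))))) hd
    (cov_base hF hfm hf0 rfl h3 fun g hg => hL' g (hperm.mem_iff.2 (by simp [hg]))) hns (by simp) (by simp; omega)
    (quad_frame (hL' q (hperm.mem_iff.2 (by simp))).2.2 hns) (by omega)

/-- A double eigenvalue over a member of size at least three. -/
theorem sprod_one_lam_lam (hF : 4 ≤ Fintype.card F) (hL : ∀ g ∈ L, g.Monic ∧ 1 ≤ g.natDegree) (hx : MSim x (blk L))
    (hd : x.det = 1) (hperm : L.Perm ((X - C lam) :: (X - C lam) :: f :: R)) (h3 : 3 ≤ f.natDegree) :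
    SProd n x ((1 : F) • 1) := by
  obtain ⟨hL', hn⟩ := list_data hL hx hd
  rw [degs_perm hperm, degs_cons, degs_cons, degs_cons, natDegree_X_sub_C] at hn
  obtain ⟨hfm, -, hf0⟩ := hL' f (hperm.mem_iff.2 (by simp))
  exact sprod_one_two (hx.trans ((blk_perm hperm).trans ((msim_lam_lam lam _).trans
      (msim_blocks (MSim.refl _) (msim_blk_two f R rfl))))) hd
    (cov_base hF hfm hf0 rfl h3 fun g hg => hL' g (hperm.mem_iff.2 (by simp [hg])))
    (ns_blocks (ns_comp (by omega))) (by simp) (by simp; omega) (frame_lam_comp h3) (by omega)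

theorem quads_ext (hF : 4 ≤ Fintype.card F) (hq : q.Monic) (hqd : q.natDegree = 2) (h0 : q.coeff 0 ≠ 0)
    (hR : ∀ g ∈ R, g.Monic ∧ 1 ≤ g.natDegree ∧ g.coeff 0 ≠ 0) :
    Cov (4 + degs R) (Matrix.fromBlocks (Matrix.fromBlocks (SLComm.comp q 2) 0 0 (SLComm.comp q 2)) 0 0 (blk R)) := by
  obtain ⟨hB, hBn, hBd⟩ := quads_base hF hq hqd h0
  exact (cov_ext hF hB hBn hBd (by simp) R hR).1.of_msim (msim_blocks_comm _ _)

theorem msim_blk_quads' (hqd : q.natDegree = 2) :
    MSim (blk (q :: q :: R))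
      (Matrix.fromBlocks (Matrix.fromBlocks (SLComm.comp q 2) 0 0 (SLComm.comp q 2)) 0 0 (blk R)) :=
  (msim_blk_quads hqd (List.Perm.refl _)).trans (msim_blocks_comm _ _)

/-- A double eigenvalue over two quadratics. -/
theorem sprod_one_lam_quads (hF : 4 ≤ Fintype.card F) (hL : ∀ g ∈ L, g.Monic ∧ 1 ≤ g.natDegree)
    (hx : MSim x (blk L)) (hd : x.det = 1) (hperm : L.Perm ((X - C lam) :: (X - C lam) :: q :: q :: R))
    (hqd : q.natDegree = 2) : SProd n x ((1 : F) • 1) := by
  obtain ⟨hL', hn⟩ := list_data hL hx hd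
  rw [degs_perm hperm, degs_cons, degs_cons, degs_cons, degs_cons, natDegree_X_sub_C, hqd] at hn
  obtain ⟨hqm, -, hq0⟩ := hL' q (hperm.mem_iff.2 (by simp))
  exact sprod_one_two (hx.trans ((blk_perm hperm).trans ((msim_lam_lam lam _).trans
      (msim_blocks (MSim.refl _) (msim_blk_quads' hqd))))) hd
    (quads_ext hF hqm hqd hq0 fun g hg => hL' g (hperm.mem_iff.2 (by simp [hg])))
    (ns_blocks (ns_blocks (ns_comp le_rfl))) (by simp) (by simp; omega) frame_lam_quads (by omega)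

/-- Three quadratics. -/
theorem sprod_one_quads (hF : 4 ≤ Fintype.card F) (hL : ∀ g ∈ L, g.Monic ∧ 1 ≤ g.natDegree) (hx : MSim x (blk L))
    (hd : x.det = 1) (hperm : L.Perm (q :: q :: q :: R)) (hqd : q.natDegree = 2) : SProd n x ((1 : F) • 1) := by
  obtain ⟨hL', hn⟩ := list_data hL hx hd
  rw [degs_perm hperm, degs_cons, degs_cons, degs_cons, hqd] at hn
  obtain ⟨hqm, -, hq0⟩ := hL' q (hperm.mem_iff.2 (by simp))
  have hns : NS (Matrix.fromBlocks (Matrix.fromBlocks (SLComm.comp q 2) 0 0 (SLComm.comp q 2)) 0 0 (blk R)) :=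
    ns_blocks (ns_blocks (ns_comp le_rfl))
  exact sprod_one_two (hx.trans ((blk_perm hperm).trans ((msim_blk_two q _ hqd).trans
      (msim_blocks (MSim.refl _) (msim_blk_quads' hqd))))) hd
    (quads_ext hF hqm hqd hq0 fun g hg => hL' g (hperm.mem_iff.2 (by simp [hg]))) hns (by simp) (by simp; omega)
    (quad_frame hq0 hns) (by omega)

/-- Two members of size three or four. -/
theorem sprod_one_members (hF : 4 ≤ Fintype.card F) {g : F[X]} (hL : ∀ g ∈ L, g.Monic ∧ 1 ≤ g.natDegree)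
    (hx : MSim x (blk L)) (hd : x.det = 1) (hperm : L.Perm (f :: g :: R)) (h3 : 3 ≤ f.natDegree)
    (hfg : f.natDegree ≤ g.natDegree) (h4 : g.natDegree ≤ 4) (hlt : f.natDegree < g.natDegree + degs R) :
    SProd n x ((1 : F) • 1) := by
  obtain ⟨hL', hn⟩ := list_data hL hx hd
  rw [degs_perm hperm, degs_cons, degs_cons] at hn
  obtain ⟨hgm, -, hg0⟩ := hL' g (hperm.mem_iff.2 (by simp))
  have main : ∀ r s : ℕ, f.natDegree = r → g.natDegree = s →
      HasFrame (Fin r) (Matrix.fromBlocks (SLComm.comp f r) 0 0 (Matrix.fromBlocks (SLComm.comp g s) 0 0 (blk R))) →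
      SProd n x ((1 : F) • 1) := fun r s hr hs hX =>
    sprod_one_two (hx.trans ((blk_perm hperm).trans ((msim_blk_two f _ hr).trans
        (msim_blocks (MSim.refl _) (msim_blk_two g R hs))))) hd
      (cov_base hF hgm hg0 hs (by omega) fun g' hg' => hL' g' (hperm.mem_iff.2 (by simp [hg'])))
      (ns_blocks (ns_comp (by omega))) (by simp; omega) (by simp; omega) hX (by omega)
  rcases (show f.natDegree = 3 ∨ f.natDegree = 4 by omega) with hr | hr <;>
    rcases (show g.natDegree = 3 ∨ g.natDegree = 4 by omega) with hs | hs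
  · exact main 3 3 hr hs frame_three_three
  · exact main 3 4 hr hs frame_three_four
  · omega
  · exact main 4 4 hr hs frame_four_four

end Cfsg.Lib.Linear.PSLCover
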