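import Cfsg.Agent.Lib.Linear.PSLCover.Assemble

/-!
# Tools for the identity as a product
-/

set_option autoImplicit false
set_option linter.unusedSectionVars false
set_option linter.unusedSimpArgs false

universe u

namespace Cfsg.Lib.Linear.PSLCover

open Module Polynomial
open Cfsg.Lib.Linear.SLComm (dv)
open scoped Matrix

variable {F : Type u} [Field F]
variable {ι κ ν : Type} [Fintype ι] [DecidableEq ι] [Fintype κ] [DecidableEq κ] [Fintype ν] [DecidableEq ν]

/-- One, from a cover with one factor less. -/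
theorem sprod_one_of_cov {x : Matrix ι ι F} {k j : ℕ} (hx : Cov k x) (hn : NS x) (hkj : k ≤ j)
    (hd : x.det ^ (j + 1) = 1) : SProd (j + 1) x ((1 : F) • 1) := by
  have h0 : x.det ≠ 0 := fun e => by rw [e, zero_pow (by omega)] at hd; exact zero_ne_one hd
  have hx' : x * x⁻¹ = 1 := Matrix.mul_nonsing_inv _ (isUnit_iff_ne_zero.2 h0)
  have hd' : x⁻¹.det = x.det ^ j := by
    apply mul_left_cancel₀ h0
    rw [← Matrix.det_mul, hx', Matrix.det_one, ← pow_succ', hd]
  have h := ((hx.le h0 hn hkj).sprod (NS.inv hx' hn) hd').append (sprod_one (SSim.refl x))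
  rwa [mul_eq_one_comm.1 hx', ← one_smul F (1 : Matrix ι ι F)] at h

/-- Two steps of any size. -/
theorem sprod_one_two {n k : ℕ} {x : Matrix (Fin n) (Fin n) F} {x₁ : Matrix ι ι F} {x₂ : Matrix κ κ F}
    (hsim : MSim x (Matrix.fromBlocks x₁ 0 0 x₂)) (hd : x.det = 1) (hk : Cov k x₂) (hns : NS x₂)
    (hι : 0 < Fintype.card ι) (hn : Fintype.card ι < Fintype.card κ)
    (hX : HasFrame ι (Matrix.fromBlocks x₁ 0 0 x₂)) (hkn : k + 2 ≤ n) : SProd n x ((1 : F) • 1) := by
  have hd' : (Matrix.fromBlocks x₁ 0 0 x₂).det = 1 := by rw [← hsim.det_eq, hd]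
  have h12 : x₁.det * x₂.det = 1 := by rwa [Matrix.det_fromBlocks_zero₂₁] at hd'
  obtain ⟨j, rfl⟩ : ∃ j, n = j + 2 := ⟨n - 2, by omega⟩
  obtain ⟨l, hl, hlx, hp, -⟩ := sprod_two (hk.le (right_ne_zero_of_mul_eq_one h12) hns (j := j) (by omega))
    (left_ne_zero_of_mul_eq_one h12) (right_ne_zero_of_mul_eq_one h12) hι hn hX ((1 : F) • 1)
    (by rw [one_smul, Matrix.det_one, hd', one_pow])
  exact SProd.of_msim 1 hsim.symm ⟨l, hl, hlx, hp⟩

theorem ssim_blocks' {a b : Matrix ι ι F} {a' b' : Matrix κ κ F} (h : SSim a b) (h' : SSim a' b') :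
    SSim (Matrix.fromBlocks a 0 0 a') (Matrix.fromBlocks b 0 0 b') := ssim_blocks h h'

theorem zip_blocks_prod : ∀ (l : List (Matrix ι ι F)) (l' : List (Matrix κ κ F)), l.length = l'.length →
    (List.zipWith (fun a b => Matrix.fromBlocks a 0 0 b) l l').prod = Matrix.fromBlocks l.prod 0 0 l'.prod
  | [], [], _ => by simp [Matrix.fromBlocks_one]
  | a :: l, b :: l', h => by
    rw [List.zipWith_cons_cons, List.prod_cons, zip_blocks_prod l l' (by simpa using h), Matrix.fromBlocks_multiply]
    simp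

theorem fromBlocks_smul_one (c : F) :
    Matrix.fromBlocks (c • 1 : Matrix ι ι F) 0 0 (c • 1 : Matrix κ κ F) = c • 1 := by
  rw [← Matrix.fromBlocks_one, Matrix.fromBlocks_smul, smul_zero, smul_zero]

/-- Block by block. -/
theorem sprod_blocks {C : Matrix ι ι F} {D : Matrix κ κ F} {k : ℕ} {c : F} (hC : SProd k C (c • 1))
    (hD : SProd k D (c • 1)) : SProd k (Matrix.fromBlocks C 0 0 D) (c • 1) := by
  obtain ⟨l, hl, hx, hp⟩ := hC
  obtain ⟨l', hl', hx', hp'⟩ := hD
  refine ⟨List.zipWith (fun a b => Matrix.fromBlocks a 0 0 b) l l', by simp [hl, hl'], fun y hy => ?_,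
    by rw [zip_blocks_prod l l' (by omega), hp, hp', fromBlocks_smul_one]⟩
  obtain ⟨i, hi, rfl⟩ := List.getElem_of_mem hy
  rw [List.getElem_zipWith]
  exact ssim_blocks (hx _ (List.getElem_mem _)) (hx' _ (List.getElem_mem _))

theorem sprod_scalar_one {lam : F} {k : ℕ} (h : lam ^ k = 1) :
    SProd k (lam • 1 : Matrix κ κ F) ((1 : F) • 1) :=
  ⟨List.replicate k (lam • 1), by simp, fun a ha => by rw [List.eq_of_mem_replicate ha]; exact SSim.refl _,
    by rw [List.prod_replicate, _root_.smul_pow, one_pow, h]⟩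

/-! ### Two by two pairs -/

theorem msim_adjugate [Fintype F] (A : Matrix (Fin 2) (Fin 2) F) : MSim A.adjugate A := by
  have ht : A.adjugate.trace = A.trace := by
    simp [Matrix.adjugate_fin_two, Matrix.trace_fin_two, add_comm]
  have hd : A.adjugate.det = A.det := by
    rw [Matrix.adjugate_fin_two, Matrix.det_fin_two, Matrix.det_fin_two]; simp; ring
  by_cases hA : NS A
  · refine msim_two (fun c hc => hA c ?_) hA ht hd
    have h := congrFun (congrFun hc 0) 1
    have h' := congrFun (congrFun hc 1) 0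
    have h0 := congrFun (congrFun hc 0) 0
    have h1 := congrFun (congrFun hc 1) 1
    simp [Matrix.adjugate_fin_two] at h h' h0 h1
    ext i j
    fin_cases i <;> fin_cases j <;> simp [h, h', h0, h1]
  · simp only [NS, not_forall, not_not] at hA
    obtain ⟨c, hc⟩ := hA
    have : A.adjugate = A := by subst hc; ext i j; fin_cases i <;> fin_cases j <;> simp [Matrix.adjugate_fin_two]
    rw [this]; exact MSim.refl _

theorem prod_pairs {A B : Matrix (Fin 2) (Fin 2) F} :
    [Matrix.fromBlocks A 0 0 B, Matrix.fromBlocks A.adjugate 0 0 B.adjugate, Matrix.fromBlocks B 0 0 A,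
      Matrix.fromBlocks B.adjugate 0 0 A.adjugate].prod = (A.det * B.det) • 1 := by
  simp only [List.prod_cons, List.prod_nil, mul_one, Matrix.fromBlocks_multiply, Matrix.mul_zero, Matrix.zero_mul,
    add_zero, zero_add]
  rw [← Matrix.mul_assoc A, ← Matrix.mul_assoc B B.adjugate, Matrix.mul_adjugate, Matrix.mul_adjugate]
  simp only [Matrix.smul_mul, Matrix.mul_smul, Matrix.one_mul, smul_smul]
  rw [mul_comm B.det A.det, fromBlocks_smul_one]

/-- Four factors of two blocks. -/
theorem sprod_pairs [Fintype F] {A B : Matrix (Fin 2) (Fin 2) F} (hs : Surj (Matrix.fromBlocks A 0 0 B))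
    (hd : A.det * B.det = 1) : SProd 4 (Matrix.fromBlocks A 0 0 B) ((1 : F) • 1) := by
  refine ⟨_, rfl, fun a ha => hs.ssim ?_, by rw [prod_pairs (A := A) (B := B), hd]⟩
  simp only [List.mem_cons, List.not_mem_nil, or_false] at ha
  rcases ha with rfl | rfl | rfl | rfl
  · exact MSim.refl _
  · exact msim_blocks (msim_adjugate A) (msim_adjugate B)
  · exact msim_blocks_comm _ _
  · exact (msim_blocks (msim_adjugate B) (msim_adjugate A)).trans (msim_blocks_comm _ _)

/-- Four factors of one block twice. -/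
theorem sprod_pairs_same [Fintype F] {A : Matrix (Fin 2) (Fin 2) F} (hd : A.det * A.det = 1) :
    SProd 4 (Matrix.fromBlocks A 0 0 A) ((1 : F) • 1) := by
  have h' : SSim (Matrix.fromBlocks A.adjugate 0 0 A.adjugate) (Matrix.fromBlocks A 0 0 A) := by
    obtain ⟨P, Q, hPQ, -, he⟩ := (msim_adjugate A).exists_conj
    have hs : P.det ≠ 0 := fun h => by simpa [h] using congrArg Matrix.det hPQ
    refine ⟨Matrix.fromBlocks P 0 0 (P.det⁻¹ • P), Matrix.fromBlocks Q 0 0 (P.det • Q), ?_, ?_, ?_⟩
    · simp [Matrix.fromBlocks_multiply, smul_smul, hs, hPQ]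
    · rw [Matrix.det_fromBlocks_zero₂₁, Matrix.det_smul, Fintype.card_fin]; field_simp
    · simp [Matrix.fromBlocks_multiply, smul_smul, hs, ← he]
  refine ⟨_, rfl, fun a ha => ?_, by rw [prod_pairs (A := A) (B := A), hd]⟩
  simp only [List.mem_cons, List.not_mem_nil, or_false] at ha
  rcases ha with rfl | rfl | rfl | rfl
  exacts [SSim.refl _, h', SSim.refl _, h']

/-! ### Diagonal matrices -/

theorem surj_diagonal [Nonempty ι] (d : ι → F) : Surj (Matrix.diagonal d) := fun c _ => by
  obtain ⟨i⟩ : Nonempty ι := inferInstance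
  refine ⟨Matrix.diagonal (Function.update 1 i c), ?_, ?_⟩
  · rw [Matrix.det_diagonal, Finset.prod_update_of_mem (Finset.mem_univ _)]; simp
  · rw [Matrix.diagonal_mul_diagonal, Matrix.diagonal_mul_diagonal]; congr 1; funext j; exact mul_comm _ _

theorem surj_right (C : Matrix ι ι F) {D : Matrix κ κ F} (hD : Surj D) : Surj (Matrix.fromBlocks C 0 0 D) :=
  fun c hc => by
    obtain ⟨Z, hZ, hZD⟩ := hD c hc
    exact ⟨Matrix.fromBlocks 1 0 0 Z, by rw [Matrix.det_fromBlocks_zero₂₁, Matrix.det_one, one_mul, hZ],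
      by simp [Matrix.fromBlocks_multiply, hZD]⟩

theorem prod_ofFn_diagonal : ∀ {m : ℕ} (d : Fin m → ι → F),
    (List.ofFn fun i => Matrix.diagonal (d i)).prod = Matrix.diagonal fun j => ∏ i, d i j
  | 0, d => by simp
  | m + 1, d => by
    rw [List.ofFn_succ, List.prod_cons, prod_ofFn_diagonal fun i => d i.succ, Matrix.diagonal_mul_diagonal]
    congr 1; funext j; rw [Fin.prod_univ_succ]

/-- Cyclic shifts of the diagonal. -/
theorem sprod_diagonal {m : ℕ} {d : ι → F} (hι : Fintype.card ι = m + 1) (hd : ∏ i, d i = 1) :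
    SProd (m + 1) (Matrix.diagonal d) ((1 : F) • 1) := by
  haveI : Nonempty ι := Fintype.card_pos_iff.1 (by omega)
  let e : ι ≃ Fin (m + 1) := Fintype.equivFinOfCardEq hι
  refine ⟨List.ofFn fun i => Matrix.diagonal fun j => d (e.symm (e j + i)), by simp, fun a ha => ?_, ?_⟩
  · obtain ⟨i, rfl⟩ := List.mem_ofFn.1 ha
    refine (surj_diagonal d).ssim ?_
    let s : ι ≃ ι := e.trans ((Equiv.addRight i).trans e.symm)
    have h := msim_reindex s (Matrix.diagonal fun j => d (s j))
    rw [Matrix.reindex_apply, Matrix.submatrix_diagonal_equiv] at h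
    simpa [Function.comp_def, s] using h
  · rw [prod_ofFn_diagonal, one_smul, ← Matrix.diagonal_one]
    congr 1; funext j
    rw [← hd]
    exact Equiv.prod_comp ((Equiv.addLeft (e j)).trans e.symm) d

/-! ### Unipotent blocks -/

theorem jq_mul (β γ a b : F) : jq β a * jq γ b = jq (β * γ) (β * b + a * γ) := by
  simp [jq, Matrix.mul_fin_two, mul_comm]

theorem prod_jq (β : F) : ∀ l : List F, (l.map fun c => jq β (β * c)).prod = jq (β ^ l.length) (β ^ l.length * l.sum)
  | [] => by simp [jq, Matrix.one_fin_two]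
  | c :: l => by
    rw [List.map_cons, List.prod_cons, prod_jq β l, jq_mul, List.length_cons, List.sum_cons]
    congr 1 <;> ring

theorem ns_jq {β a : F} (ha : a ≠ 0) : NS (jq β a) := fun c hc =>
  ha (by simpa [jq] using congrFun (congrFun hc 0) 1)

theorem msim_jq_comp [Fintype F] {q : F[X]} {β a : F} (hq : q = (X - C β) * (X - C β)) (ha : a ≠ 0) :
    MSim (jq β a) (SLComm.comp q 2) := by
  subst hq
  have hm : ((X - C β) * (X - C β)).Monic := (monic_X_sub_C β).mul (monic_X_sub_C β)
  have hd : ((X - C β) * (X - C β)).natDegree = 2 := by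
    rw [(monic_X_sub_C β).natDegree_mul (monic_X_sub_C β), natDegree_X_sub_C]
  have h0 : ((X - C β) * (X - C β)).coeff 0 = β * β := by simp [Polynomial.coeff_zero_eq_eval_zero]
  refine msim_two (ns_jq ha) (ns_comp le_rfl) ?_ ?_
  · have h1 : ((X - C β) * (X - C β)).coeff 1 = -(β + β) := by
      rw [show (X - C β) * (X - C β) = X ^ 2 - C (β + β) * X + C (β * β) by simp only [map_add, map_mul]; ring]
      simp
    simp [jq, SLComm.comp, Matrix.trace_fin_two, h1]
  · rw [comp_det hm hd, dv, hd, h0]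
    simp [jq, Matrix.det_fin_two]

/-- Five factors of two double roots and the root. -/
theorem sprod_five [Fintype F] (hq : 4 ≤ Fintype.card F) {q : F[X]} {lam : F} (hq' : q = (X - C lam) * (X - C lam))
    (hl : lam ^ 5 = 1) :
    SProd 5 (Matrix.fromBlocks (lam • 1 : Matrix Unit Unit F) 0 0
      (Matrix.fromBlocks (SLComm.comp q 2) 0 0 (SLComm.comp q 2))) ((1 : F) • 1) := by
  have hl0 : lam ≠ 0 := fun e => by simp [e] at hl
  obtain ⟨c, hc, hsum⟩ := exists_units_sum hq 5 (0 : F) (by omega) (Or.inr (by omega))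
  refine ⟨List.zipWith (fun a b => Matrix.fromBlocks a 0 0 b) (List.replicate 5 (lam • 1 : Matrix Unit Unit F))
    (List.zipWith (fun a b => Matrix.fromBlocks a 0 0 b) ((List.ofFn c).map fun c => jq lam (lam * c))
      ((List.ofFn c).map fun c => jq lam (lam * c))), by simp, fun y hy => (surj_front _ _).ssim ?_, ?_⟩
  · obtain ⟨i, hi, rfl⟩ := List.getElem_of_mem hy
    simp only [List.getElem_zipWith, List.getElem_map, List.getElem_replicate, List.getElem_ofFn]
    exact msim_blocks (MSim.refl _) (msim_blocks (msim_jq_comp hq' (mul_ne_zero hl0 (hc _)))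
      (msim_jq_comp hq' (mul_ne_zero hl0 (hc _))))
  · rw [zip_blocks_prod _ _ (by simp), zip_blocks_prod _ _ (by simp), prod_jq, List.prod_replicate, _root_.smul_pow,
      one_pow, List.length_ofFn, hl, List.sum_ofFn, hsum, mul_zero,
      show jq (1 : F) 0 = (1 : F) • 1 by simp [jq, Matrix.one_fin_two], fromBlocks_smul_one, fromBlocks_smul_one]

end Cfsg.Lib.Linear.PSLCover
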