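import Cfsg.Agent.Lib.Linear.PSLCover.SBasic

/-!
# A target class inside the square of a cyclic class

A lower triangular matrix with one free row turns the inverse of a companion matrix into a member of
the companion class; the Krylov determinant shows that the conjugation has determinant one.
-/

set_option autoImplicit false
set_option linter.unusedSectionVars false
set_option linter.unusedSimpArgs false

universe u

namespace Cfsg.Lib.Linear.PSLCover

open Polynomial
open Cfsg.Lib.Linear.SLComm (Cyc comp_sim dv exists_change rt rt_charpoly rt_det)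
open scoped Matrix

variable {F : Type u} [Field F] {m r : ℕ}

/-- The Krylov matrix. -/
def krylov (A : Matrix (Fin r) (Fin r) F) (e : Fin r → F) : Matrix (Fin r) (Fin r) F :=
  Matrix.of fun i j => (A ^ (j : ℕ) *ᵥ e) i

theorem krylov_mulVec (A : Matrix (Fin r) (Fin r) F) (e c : Fin r → F) :
    krylov A e *ᵥ c = ∑ j : Fin r, c j • (A ^ (j : ℕ) *ᵥ e) := by
  funext i
  simp [Matrix.mulVec, dotProduct, krylov, Finset.sum_apply, mul_comm]

theorem krylov_smul (A : Matrix (Fin r) (Fin r) F) (e : Fin r → F) (s : F) :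
    krylov A (s • e) = s • krylov A e := by
  ext i j; simp [krylov, Matrix.mulVec_smul]

theorem cyc_of_krylov {A : Matrix (Fin r) (Fin r) F} {e : Fin r → F} (h : (krylov A e).det ≠ 0) : Cyc A e := by
  rw [Cyc, eq_top_iff]
  intro v _
  have hv : krylov A e *ᵥ ((krylov A e)⁻¹ *ᵥ v) = v := by
    rw [Matrix.mulVec_mulVec, Matrix.mul_nonsing_inv _ (isUnit_iff_ne_zero.2 h), Matrix.one_mulVec]
  rw [← hv, krylov_mulVec]
  exact Submodule.sum_mem _ fun j _ => Submodule.smul_mem _ _ (Submodule.subset_span ⟨(j : ℕ), rfl⟩)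

theorem krylov_comp {A : Matrix (Fin r) (Fin r) F} {f : F[X]} (hA : A.charpoly = f) (e : Fin r → F) :
    A * krylov A e = krylov A e * SLComm.comp f r := by
  ext i j
  have h1 : (A * krylov A e) i j = (A ^ ((j : ℕ) + 1) *ᵥ e) i := by
    rw [pow_succ', ← Matrix.mulVec_mulVec]; rfl
  rw [h1]
  rcases Nat.lt_or_ge ((j : ℕ) + 1) r with hj | hj
  · rw [Matrix.mul_apply, Finset.sum_eq_single (⟨(j : ℕ) + 1, hj⟩ : Fin r)
      (fun b _ hb => by
        have : SLComm.comp f r b j = 0 := by
          simp only [SLComm.comp, Matrix.of_apply]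
          rw [if_neg (by omega), if_neg (fun h => hb (Fin.ext h))]
        rw [this, mul_zero]) (by simp)]
    simp only [SLComm.comp, Matrix.of_apply, krylov]
    rw [if_neg (by omega)]
    simp
  · have hjr : (j : ℕ) + 1 = r := by omega
    have hdeg : f.natDegree = r := by rw [← hA, A.charpoly_natDegree_eq_dim, Fintype.card_fin]
    have hmon : f.Monic := hA ▸ A.charpoly_monic
    have h2 : aeval A f *ᵥ e = 0 := by rw [← hA, Matrix.aeval_self_charpoly, Matrix.zero_mulVec]
    rw [aeval_eq_sum_range, hdeg, Finset.sum_range_succ, show f.coeff r = 1 by rw [← hdeg]; exact hmon.coeff_natDegree,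
      one_smul, Matrix.add_mulVec, Matrix.sum_mulVec, Finset.sum_range] at h2
    rw [hjr, eq_neg_of_add_eq_zero_right h2, Pi.neg_apply, Finset.sum_apply, Matrix.mul_apply, ← Finset.sum_neg_distrib]
    refine Finset.sum_congr rfl fun b _ => ?_
    simp [SLComm.comp, krylov, hjr, Matrix.smul_mulVec, mul_comm]

/-- Equal Krylov determinants give conjugacy by determinant one. -/
theorem ssim_of_krylov {A B : Matrix (Fin r) (Fin r) F} {f : F[X]} (hA : A.charpoly = f) (hB : B.charpoly = f)
    (e e' : Fin r → F) (hd : (krylov A e).det ≠ 0) (h : (krylov A e).det = (krylov B e').det) : SSim A B := by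
  have hu : IsUnit (krylov A e).det := isUnit_iff_ne_zero.2 hd
  have hu' : IsUnit (krylov B e').det := isUnit_iff_ne_zero.2 (h ▸ hd)
  refine ⟨krylov A e * (krylov B e')⁻¹, krylov B e' * (krylov A e)⁻¹, ?_, ?_, ?_⟩
  · rw [Matrix.mul_assoc, ← Matrix.mul_assoc _ (krylov B e'), Matrix.nonsing_inv_mul _ hu', Matrix.one_mul,
      Matrix.mul_nonsing_inv _ hu]
  · rw [Matrix.det_mul, Matrix.det_nonsing_inv, h, Ring.mul_inverse_cancel _ hu']
  · have hBc : (krylov B e')⁻¹ * B * krylov B e' = SLComm.comp f r := by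
      rw [Matrix.mul_assoc, krylov_comp hB, ← Matrix.mul_assoc, Matrix.nonsing_inv_mul _ hu', Matrix.one_mul]
    calc A = A * krylov A e * (krylov A e)⁻¹ := by
          rw [Matrix.mul_assoc, Matrix.mul_nonsing_inv _ hu, Matrix.mul_one]
      _ = krylov A e * ((krylov B e')⁻¹ * B * krylov B e') * (krylov A e)⁻¹ := by rw [krylov_comp hA, hBc]
      _ = _ := by simp only [Matrix.mul_assoc]

/-- The inverse of the companion matrix. -/
def compInv (f : F[X]) (r : ℕ) : Matrix (Fin r) (Fin r) F :=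
  Matrix.of fun i j => if (j : ℕ) = 0 then -f.coeff ((i : ℕ) + 1) / f.coeff 0 else if (i : ℕ) + 1 = j then 1 else 0

theorem comp_mul_compInv {f : F[X]} (hf : f.Monic) (hdeg : f.natDegree = m + 1) (h0 : f.coeff 0 ≠ 0) :
    SLComm.comp f (m + 1) * compInv f (m + 1) = 1 := by
  ext i j
  rw [Matrix.mul_apply, Fin.sum_univ_castSucc]
  have hlast : ∀ k : Fin (m + 1), SLComm.comp f (m + 1) k (Fin.last m) = -f.coeff k := fun k => by simp [SLComm.comp]
  have hcs : ∀ k : Fin m, SLComm.comp f (m + 1) i k.castSucc = if (i : ℕ) = (k : ℕ) + 1 then 1 else 0 := fun k => by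
    have := k.2
    simp [SLComm.comp, show (k : ℕ) ≠ m by omega]
  rw [hlast]
  simp only [hcs, ite_mul, one_mul, zero_mul]
  have hm : f.coeff (m + 1) = 1 := by rw [← hdeg]; exact hf.coeff_natDegree
  rcases Fin.eq_zero_or_eq_succ i with rfl | ⟨i', rfl⟩
  · rw [Finset.sum_eq_zero (fun k _ => if_neg (by simp))]
    by_cases hj : (j : ℕ) = 0
    · rw [show j = 0 from Fin.ext hj]
      simp [compInv, hm]
      field_simp
    · simp only [compInv, Matrix.of_apply, if_neg hj, Fin.val_last]
      rw [if_neg (by omega), Matrix.one_apply_ne (fun h => hj (by rw [← h]; rfl))]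
      ring
  · rw [Finset.sum_eq_single i' (fun k _ hk => if_neg (fun h => hk (Fin.ext (by simp at h; omega)))) (by simp),
      if_pos (by simp)]
    by_cases hj : (j : ℕ) = 0
    · rw [show j = 0 from Fin.ext hj, Matrix.one_apply_ne (Fin.succ_ne_zero _)]
      simp [compInv, hm]
      field_simp
      ring
    · simp only [compInv, Matrix.of_apply, if_neg hj, Fin.val_last, Fin.val_castSucc]
      rw [if_neg (c := m + 1 = (j : ℕ)) (by omega), mul_zero, add_zero, Matrix.one_apply]
      exact if_congr ⟨fun h => Fin.ext (by simp; omega), fun h => by simp [← h]⟩ rfl rfl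

/-- Lower triangular, `-1` on the diagonal and `a` below it, apart from the last row. -/
structure Shape (a : ℕ → F) (M : Matrix (Fin (m + 1)) (Fin (m + 1)) F) : Prop where
  tri : ∀ i j : Fin (m + 1), (i : ℕ) < j → M i j = 0
  diag : ∀ i : Fin (m + 1), (i : ℕ) < m → M i i = -1
  sub : ∀ i j : Fin (m + 1), (j : ℕ) + 1 = i → (i : ℕ) < m → M i j = a j

theorem mul_compInv_apply (M : Matrix (Fin (m + 1)) (Fin (m + 1)) F) (f : F[X]) (i k k' : Fin (m + 1))
    (h : (k' : ℕ) + 1 = k) : (M * compInv f (m + 1)) i k = M i k' := by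
  rw [Matrix.mul_apply, Finset.sum_eq_single k' (fun b _ hb => by
    simp only [compInv, Matrix.of_apply]
    rw [if_neg (by omega), if_neg (fun e => hb (Fin.ext (by omega))), mul_zero]) (by simp)]
  simp only [compInv, Matrix.of_apply]
  rw [if_neg (by omega), if_pos h, mul_one]

theorem det_anti : ∀ (m : ℕ) (A : Matrix (Fin (m + 1)) (Fin (m + 1)) F),
    (∀ i j : Fin (m + 1), (i : ℕ) + j < m → A i j = 0) →
      (∀ i j : Fin (m + 1), (i : ℕ) + j = m → A i j = (-1) ^ (j : ℕ)) → A.det = 1
  | 0, A, _, h => by rw [Matrix.det_fin_one, h 0 0 rfl]; simp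
  | m + 1, A, hz, h => by
    rw [Matrix.det_succ_row_zero, Finset.sum_eq_single (Fin.last (m + 1)) (fun b _ hb => by
      rw [hz 0 b (by have := Fin.val_lt_last hb; simpa using this), mul_zero, zero_mul]) (by simp)]
    have h1 := det_anti m (A.submatrix Fin.succ (Fin.last (m + 1)).succAbove)
      (fun i j hij => hz _ _ (by simp; omega))
      (fun i j hij => by rw [Matrix.submatrix_apply, h _ _ (by simp; omega)]; simp)
    rw [h 0 (Fin.last (m + 1)) (by simp), h1]
    rw [mul_one, ← pow_add, Fin.val_last]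
    exact Even.neg_one_pow ⟨m + 1, rfl⟩

theorem krylov_shape {a : ℕ → F} {M : Matrix (Fin (m + 1)) (Fin (m + 1)) F} (hM : Shape a M) (f : F[X]) :
    (krylov (M * compInv f (m + 1)) (Pi.single (Fin.last m) 1)).det = 1 := by
  have key : ∀ j : ℕ, j ≤ m → ∀ i : Fin (m + 1),
      ((i : ℕ) + j < m → ((M * compInv f (m + 1)) ^ j *ᵥ Pi.single (Fin.last m) 1) i = 0) ∧
      ((i : ℕ) + j = m → ((M * compInv f (m + 1)) ^ j *ᵥ Pi.single (Fin.last m) 1) i = (-1) ^ j) := by
    intro j
    induction j with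
    | zero =>
      intro _ i
      rw [pow_zero, Matrix.one_mulVec]
      refine ⟨fun h => Pi.single_eq_of_ne (fun e => by rw [e, Fin.val_last] at h; omega) _, fun h => ?_⟩
      rw [show i = Fin.last m from Fin.ext (by simpa using h), Pi.single_eq_same]
      simp
    | succ j ih =>
      intro hj i
      have hsum : ∀ b : Fin (m + 1), (i : ℕ) + (j + 1) ≤ m →
          b ≠ ⟨m - j, by omega⟩ ∨ (i : ℕ) + (j + 1) < m →
          (M * compInv f (m + 1)) i b * ((M * compInv f (m + 1)) ^ j *ᵥ Pi.single (Fin.last m) 1) b = 0 := by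
        intro b hi hb
        rcases Nat.lt_or_ge ((b : ℕ) + j) m with h | h
        · rw [(ih (by omega) b).1 h, mul_zero]
        · rw [mul_compInv_apply M f i b ⟨(b : ℕ) - 1, by omega⟩ (by simp; omega), hM.tri i _ ?_, zero_mul]
          simp only
          rcases hb with hb | hb
          · have : (b : ℕ) ≠ m - j := fun e => hb (Fin.ext e)
            omega
          · omega
      rw [pow_succ', ← Matrix.mulVec_mulVec, Matrix.mulVec, dotProduct]
      refine ⟨fun h => Finset.sum_eq_zero fun b _ => hsum b (by omega) (Or.inr h), fun h => ?_⟩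
      rw [Finset.sum_eq_single (⟨m - j, by omega⟩ : Fin (m + 1)) (fun b _ hb => hsum b (by omega) (Or.inl hb))
        (by simp), mul_compInv_apply M f i _ i (by simp; omega), hM.diag i (by omega),
        (ih (by omega) _).2 (by simp; omega), pow_succ']
  exact det_anti m _ (fun i j h => ((key j (by omega) i).1 h)) (fun i j h => ((key j (by omega) i).2 h))

theorem krylov_comp_self {f : F[X]} (hf : f.Monic) (hdeg : f.natDegree = m + 1) :
    (krylov (SLComm.comp f (m + 1)) (Pi.single 0 1)).det = 1 := by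
  have key : ∀ j : ℕ, (hj : j < m + 1) → SLComm.comp f (m + 1) ^ j *ᵥ Pi.single 0 1 = Pi.single ⟨j, hj⟩ 1 := by
    intro j
    induction j with
    | zero => intro _; rw [pow_zero, Matrix.one_mulVec]; rfl
    | succ j ih =>
      intro hj
      rw [pow_succ', ← Matrix.mulVec_mulVec, ih (by omega), Matrix.mulVec_single_one]
      funext i
      simp only [SLComm.comp, Matrix.col_apply, Matrix.of_apply]
      rw [if_neg (by omega), Pi.single_apply]
      exact if_congr ⟨fun h => Fin.ext h, fun h => by rw [h]⟩ rfl rfl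
  have : krylov (SLComm.comp f (m + 1)) (Pi.single 0 1) = 1 := by
    ext i j
    show (SLComm.comp f (m + 1) ^ (j : ℕ) *ᵥ Pi.single 0 1) i = _
    rw [key j j.2, Fin.eta, Pi.single_apply, Matrix.one_apply]
  rw [this, Matrix.det_one]

theorem comp_charpoly {f : F[X]} (hf : f.Monic) {k : ℕ} (hk : f.natDegree = k) : (SLComm.comp f k).charpoly = f := by
  haveI := hf.finite_adjoinRoot
  obtain ⟨Ψ, hΨ⟩ := comp_sim hf hk
  rw [← Matrix.charpoly_toLin']
  conv_rhs => rw [← rt_charpoly hf]
  rw [← LinearEquiv.charpoly_conj Ψ (rt f)]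
  congr 1
  exact LinearMap.ext fun v => by simp [LinearEquiv.conj_apply, hΨ]

theorem comp_det {f : F[X]} (hf : f.Monic) {k : ℕ} (hk : f.natDegree = k) : (SLComm.comp f k).det = dv f := by
  rw [Matrix.det_eq_sign_charpoly_coeff, comp_charpoly hf hk, Fintype.card_fin, dv, hk]

/-- One free row puts the product with the inverse companion matrix into the companion class. -/
theorem exists_member {f : F[X]} (hf : f.Monic) (hdeg : f.natDegree = m + 1) (h0 : f.coeff 0 ≠ 0) (hm : 1 ≤ m)
    (a : ℕ → F) :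
    ∃ M : Matrix (Fin (m + 1)) (Fin (m + 1)) F, Shape a M ∧ SSim (M * compInv f (m + 1)) (SLComm.comp f (m + 1)) ∧
      (∀ i j : Fin (m + 1), (i : ℕ) < m → (j : ℕ) + 1 < i → M i j = 0) ∧
      M (Fin.last m) (Fin.last m) = (-1) ^ m * dv f ^ 2 ∧
      M (Fin.last m) ⟨m - 1, by omega⟩ = -f.coeff m - f.coeff 1 / f.coeff 0 - ∑ j ∈ Finset.range (m - 1), a j := by
  let M₀ : Matrix (Fin (m + 1)) (Fin (m + 1)) F := Matrix.of fun i j =>
    if (i : ℕ) = m then 0 else if i = j then -1 else if (j : ℕ) + 1 = i then a j else 0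
  have hM₀ : ∀ i j : Fin (m + 1), M₀ i j =
      if (i : ℕ) = m then 0 else if i = j then -1 else if (j : ℕ) + 1 = i then a j else 0 := fun i j => rfl
  have hS₀ : Shape a M₀ := by
    refine ⟨fun i j h => ?_, fun i h => ?_, fun i j h h' => ?_⟩
    · rw [hM₀]; split_ifs with h1 h2 h3
      · rfl
      · rw [h2] at h; omega
      · omega
      · rfl
    · rw [hM₀, if_neg (by omega), if_pos rfl]
    · rw [hM₀, if_neg (by omega), if_neg (fun e => by rw [e] at h; omega), if_pos h]
  obtain ⟨w, hw⟩ := exists_change (M₀ * compInv f (m + 1)) (Pi.single (Fin.last m) 1)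
    (cyc_of_krylov (by rw [krylov_shape hS₀ f]; exact one_ne_zero)) hf (by rw [hdeg, Fintype.card_fin])
  set M := M₀ + Matrix.vecMulVec (Pi.single (Fin.last m) 1) (w ᵥ* SLComm.comp f (m + 1)) with hMdef
  have hrow : ∀ i j : Fin (m + 1), (i : ℕ) < m → M i j = M₀ i j := fun i j h => by
    rw [hMdef, Matrix.add_apply, Matrix.vecMulVec_apply, Pi.single_eq_of_ne (fun e => by rw [e, Fin.val_last] at h; omega),
      zero_mul, add_zero]
  have hS : Shape a M := by
    refine ⟨fun i j h => ?_, fun i h => ?_, fun i j h h' => ?_⟩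
    · rw [hrow i j (by omega), hS₀.tri i j h]
    · rw [hrow i i h, hS₀.diag i h]
    · rw [hrow i j h', hS₀.sub i j h h']
  have hX : M * compInv f (m + 1) = M₀ * compInv f (m + 1) + Matrix.vecMulVec (Pi.single (Fin.last m) 1) w := by
    rw [hMdef, Matrix.add_mul, Matrix.vecMulVec_mul, Matrix.vecMul_vecMul, comp_mul_compInv hf hdeg h0, Matrix.vecMul_one]
  rw [← hX] at hw
  have hchar : (M * compInv f (m + 1)).charpoly = f := by
    haveI := hf.finite_adjoinRoot
    obtain ⟨Ψ, hΨ⟩ := hw
    rw [← Matrix.charpoly_toLin']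
    conv_rhs => rw [← rt_charpoly hf]
    rw [← LinearEquiv.charpoly_conj Ψ (rt f)]
    congr 1
    exact LinearMap.ext fun v => by simp [LinearEquiv.conj_apply, hΨ]
  have hss : SSim (M * compInv f (m + 1)) (SLComm.comp f (m + 1)) :=
    ssim_of_krylov hchar (comp_charpoly hf hdeg) (Pi.single (Fin.last m) 1) (Pi.single 0 1)
      (by rw [krylov_shape hS f]; exact one_ne_zero) (by rw [krylov_shape hS f, krylov_comp_self hf hdeg])
  refine ⟨M, hS, hss, fun i j h h' => ?_, ?_, ?_⟩
  · rw [hrow i j h, hM₀, if_neg (by omega), if_neg (fun e => by rw [e] at h'; omega), if_neg (by omega)]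
  · have hdet : M.det = dv f ^ 2 := by
      have h1 := hss.det_eq
      rw [Matrix.det_mul, comp_det hf hdeg] at h1
      have h2 : dv f * (compInv f (m + 1)).det = 1 := by
        rw [← comp_det hf hdeg, ← Matrix.det_mul, comp_mul_compInv hf hdeg h0, Matrix.det_one]
      linear_combination dv f * h1 - M.det * h2
    have hd : M.det = ∏ i, M i i := Matrix.det_of_lowerTriangular M (fun i j h => hS.tri i j (by simpa using h))
    rw [hd, Fin.prod_univ_castSucc, Finset.prod_congr rfl (g := fun _ => (-1 : F))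
      (fun i _ => hS.diag _ (by simp)), Finset.prod_const, Finset.card_univ, Fintype.card_fin] at hdet
    rw [← hdet, ← mul_assoc, ← pow_add, Even.neg_one_pow ⟨m, rfl⟩, one_mul]
  · have htr : (M * compInv f (m + 1)).trace = -f.coeff m := by
      rw [Matrix.trace_eq_neg_charpoly_coeff, hchar, Fintype.card_fin, Nat.add_sub_cancel]
    have h00 : (M * compInv f (m + 1)) 0 0 = f.coeff 1 / f.coeff 0 := by
      rw [Matrix.mul_apply, Finset.sum_eq_single 0 (fun b _ hb => by
        rw [hS.tri 0 b (by have := Fin.pos_iff_ne_zero.2 hb; simpa using this), zero_mul]) (by simp),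
        hS.diag 0 (by simp; omega)]
      simp [compInv, neg_div]
    rw [Matrix.trace, Fin.sum_univ_succ] at htr
    simp only [Matrix.diag_apply] at htr
    rw [h00, Finset.sum_congr rfl (g := fun i : Fin m => M i.succ i.castSucc)
      (fun i _ => mul_compInv_apply M f _ _ _ (by simp))] at htr
    obtain ⟨k, rfl⟩ : ∃ k, m = k + 1 := ⟨m - 1, by omega⟩
    rw [Fin.sum_univ_castSucc, Finset.sum_congr rfl (g := fun i : Fin k => a i)
      (fun i _ => hS.sub _ _ (by simp) (by simp)), Fin.sum_univ_eq_sum_range (fun i => a i) k] at htr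
    simp only [Fin.succ_last] at htr
    simp only [Nat.add_sub_cancel]
    rw [show (⟨k, by omega⟩ : Fin (k + 1 + 1)) = (Fin.last k).castSucc from rfl]
    linear_combination htr

/-- Left eigenvectors climb into an invariant space. -/
theorem exists_left_eigen {a : ℕ → F} {M : Matrix (Fin (m + 1)) (Fin (m + 1)) F} (hM : Shape a M)
    (K : Submodule F (Fin (m + 1) → F)) (hK : ∀ w ∈ K, w ᵥ* M ∈ K) :
    ∀ n : ℕ, n ≤ m → ∀ u ∈ K, u ≠ 0 → (∀ i : Fin (m + 1), n ≤ (i : ℕ) → u i = 0) →
      ∃ v ∈ K, v ≠ 0 ∧ v ᵥ* M = -v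
  | 0, _, u, _, h0, h => absurd (funext fun i => h i (Nat.zero_le _)) h0
  | n + 1, hn, u, hu, h0, h => by
    by_cases h1 : u ᵥ* M + u = 0
    · exact ⟨u, hu, h0, eq_neg_of_add_eq_zero_left h1⟩
    refine exists_left_eigen hM K hK n (by omega) _ (add_mem (hK u hu) hu) h1 fun i hi => ?_
    rw [Pi.add_apply, Matrix.vecMul, dotProduct, Finset.sum_eq_single i (fun b _ hb => ?_) (by simp)]
    · rcases Nat.lt_or_ge (i : ℕ) m with h2 | h2
      · rw [hM.diag i h2]; ring
      · rw [h i (by omega)]; ring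
    · rcases Nat.lt_or_ge (b : ℕ) i with h2 | h2
      · rw [hM.tri b i h2, mul_zero]
      · have : (b : ℕ) ≠ i := fun e => hb (Fin.ext e)
        rw [h b (by omega), zero_mul]

/-- The two factors share no invariant space of agreement. -/
theorem spread_member {f : F[X]} (hf : f.Monic) (hdeg : f.natDegree = m + 1) (h0 : f.coeff 0 ≠ 0) (hm : 2 ≤ m)
    {a : ℕ → F} {M : Matrix (Fin (m + 1)) (Fin (m + 1)) F} (hS : Shape a M) (ha : ∀ j, j + 1 < m → a j ≠ 0)
    (hz : ∀ i j : Fin (m + 1), (i : ℕ) < m → (j : ℕ) + 1 < i → M i j = 0)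
    (hb : (M (Fin.last m) (Fin.last m) = -1 ∧ M (Fin.last m) ⟨m - 1, by omega⟩ ≠ 0) ∨
      (M (Fin.last m) (Fin.last m) ≠ -1 ∧ (M (Fin.last m) (Fin.last m) + 1) ^ 2 ≠
        M (Fin.last m) (Fin.last m) * M (Fin.last m) ⟨m - 1, by omega⟩ ^ 2)) :
    Spread [M * compInv f (m + 1), SLComm.comp f (m + 1)] := by
  set X := M * compInv f (m + 1)
  set C := SLComm.comp f (m + 1) with hC
  set t := M (Fin.last m) (Fin.last m) with ht
  have hXC : X * C = M := by
    rw [Matrix.mul_assoc, mul_eq_one_comm.1 (comp_mul_compInv hf hdeg h0), Matrix.mul_one]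
  intro K hinv heq
  have hKM : ∀ w ∈ K, w ᵥ* M ∈ K := fun w hw => by
    rw [← hXC, ← Matrix.vecMul_vecMul]; exact hinv C (by simp) _ (hinv X (by simp) w hw)
  have hcol : ∀ (v : Fin (m + 1) → F) (j j' : Fin (m + 1)), (j : ℕ) + 1 = j' → (j' : ℕ) < m → v (Fin.last m) = 0 →
      (v ᵥ* M) j = -v j + a j * v j' := fun v j j' hjj hj' hv => by
    rw [Matrix.vecMul, dotProduct, Finset.sum_eq_add j j' (fun e => by rw [e] at hjj; omega) (fun b _ hb' => ?_)
      (by simp) (by simp), hS.diag j (by omega), hS.sub j' j hjj hj']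
    · ring
    · rcases Nat.lt_or_ge (b : ℕ) j with h2 | h2
      · rw [hS.tri b j h2, mul_zero]
      · rcases Nat.lt_or_ge (b : ℕ) m with h3 | h3
        · have e1 : (b : ℕ) ≠ j := fun e => hb'.1 (Fin.ext e)
          have e2 : (b : ℕ) ≠ j' := fun e => hb'.2 (Fin.ext e)
          rw [hz b j h3 (by omega), mul_zero]
        · rw [show b = Fin.last m from Fin.ext (by simp; omega), hv, zero_mul]
  -- eigenvalue -1
  have hneg : ∀ v ∈ K, v ᵥ* M = -v → v (Fin.last m) = 0 → v = 0 := fun v hv hvM hvl => by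
    have hv0 : ∀ i : Fin (m + 1), (i : ℕ) ≠ 0 → v i = 0 := fun i hi => by
      rcases Nat.lt_or_ge (i : ℕ) m with h | h
      · have h1 := hcol v ⟨(i : ℕ) - 1, by omega⟩ i (by simp; omega) h hvl
        rw [hvM, Pi.neg_apply] at h1
        have h2 : a ((i : ℕ) - 1) * v i = 0 := by
          have := h1; simp only at this; linear_combination -this
        exact (mul_eq_zero.1 h2).resolve_left (ha _ (by omega))
      · rw [show i = Fin.last m from Fin.ext (by simp; omega), hvl]
    have hrow : ∀ (A : Matrix (Fin (m + 1)) (Fin (m + 1)) F) (j : Fin (m + 1)), (v ᵥ* A) j = v 0 * A 0 j :=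
      fun A j => by
        rw [Matrix.vecMul, dotProduct, Finset.sum_eq_single 0
          (fun b _ hb' => by rw [hv0 b (fun e => hb' (Fin.ext e)), zero_mul]) (by simp)]
    have h1 : v 0 * X 0 ⟨1, by omega⟩ = v 0 * C 0 ⟨1, by omega⟩ := by
      rw [← hrow, ← hrow, heq X (by simp) C (by simp) v hv]
    have hX1 : X 0 ⟨1, by omega⟩ = -1 := by
      show (M * compInv f (m + 1)) 0 ⟨1, by omega⟩ = -1
      rw [mul_compInv_apply M f 0 _ 0 (by simp), hS.diag 0 (by simp; omega)]
    have hC1 : C 0 ⟨1, by omega⟩ = 0 := by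
      simp [hC, SLComm.comp, show 1 + 1 ≠ m + 1 by omega, show (1 : ℕ) ≠ m by omega]
    rw [hX1, hC1] at h1
    refine funext fun i => ?_
    rcases eq_or_ne (i : ℕ) 0 with hi | hi
    · rw [show i = 0 from Fin.ext hi]; simpa using h1
    · exact hv0 i hi
  have hlastcol : ∀ v : Fin (m + 1) → F, (v ᵥ* M) (Fin.last m) = v (Fin.last m) * t := fun v => by
    rw [Matrix.vecMul, dotProduct, Finset.sum_eq_single (Fin.last m)
      (fun b _ hb' => by rw [hS.tri b _ (by simpa using Fin.val_lt_last hb'), mul_zero]) (by simp)]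
  have hsub : ∀ v : Fin (m + 1) → F,
      (v ᵥ* M) ⟨m - 1, by omega⟩ = -v ⟨m - 1, by omega⟩ + v (Fin.last m) * M (Fin.last m) ⟨m - 1, by omega⟩ := fun v => by
    rw [Matrix.vecMul, dotProduct, Finset.sum_eq_add (⟨m - 1, by omega⟩ : Fin (m + 1)) (Fin.last m)
      (fun e => by have := congrArg Fin.val e; simp at this; omega) (fun b _ hb' => ?_) (by simp) (by simp),
      hS.diag _ (by simp; omega)]
    · ring
    · have e1 : (b : ℕ) ≠ m - 1 := fun e => hb'.1 (Fin.ext e)
      have e2 : (b : ℕ) ≠ m := fun e => hb'.2 (Fin.ext (by simpa using e))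
      rw [hS.tri b _ (by simp; omega), mul_zero]
  -- the lowering step
  have hlow : ∀ u ∈ K, (∀ i : Fin (m + 1), m ≤ (i : ℕ) → u i = 0) → u = 0 := fun u hu h => by
    by_contra h0'
    obtain ⟨v, hv, hv0, hvM⟩ := exists_left_eigen hS K hKM m le_rfl u hu h0' h
    refine hv0 (hneg v hv hvM ?_)
    rcases hb with ⟨hb1, hb2⟩ | ⟨hb1, -⟩
    · have h1 := hsub v
      rw [hvM, Pi.neg_apply] at h1
      exact (mul_eq_zero.1 (by linear_combination -h1 :
        v (Fin.last m) * M (Fin.last m) ⟨m - 1, by omega⟩ = 0)).resolve_right hb2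
    · have h1 := hlastcol v
      rw [hvM, Pi.neg_apply] at h1
      have h2 : v (Fin.last m) * (t + 1) = 0 := by linear_combination -h1
      exact (mul_eq_zero.1 h2).resolve_right (fun e => hb1 (eq_neg_of_add_eq_zero_left e))
  have hkill : ∀ u ∈ K, u ᵥ* M = t • u := fun u hu => by
    refine sub_eq_zero.1 (hlow _ (sub_mem (hKM u hu) (K.smul_mem t hu)) fun i hi => ?_)
    rw [show i = Fin.last m from Fin.ext (by simp; omega), Pi.sub_apply, hlastcol, Pi.smul_apply, smul_eq_mul]
    ring
  refine (Submodule.eq_bot_iff K).2 fun v hv => ?_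
  rcases hb with ⟨hb1, hb2⟩ | ⟨hb1, hb2⟩
  · have h1 := hsub v
    rw [hkill v hv, Pi.smul_apply, smul_eq_mul, hb1] at h1
    refine hneg v hv (by rw [hkill v hv, hb1, neg_one_smul]) ?_
    exact (mul_eq_zero.1 (by linear_combination -h1 :
      v (Fin.last m) * M (Fin.last m) ⟨m - 1, by omega⟩ = 0)).resolve_right hb2
  · by_contra hv0
    have hdet : ∀ u ∈ K, u (Fin.last m) = 0 → u = 0 := fun u hu h => hlow u hu fun i hi => by
      rw [show i = Fin.last m from Fin.ext (by simp; omega), h]
    have hvl : v (Fin.last m) ≠ 0 := fun e => hv0 (hdet v hv e)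
    obtain ⟨ρ, hρ⟩ : ∃ ρ : F, v ᵥ* C = ρ • v := by
      refine ⟨(v ᵥ* C) (Fin.last m) / v (Fin.last m), sub_eq_zero.1 (hdet _
        (sub_mem (hinv C (by simp) v hv) (K.smul_mem _ hv)) ?_)⟩
      rw [Pi.sub_apply, Pi.smul_apply, smul_eq_mul, div_mul_cancel₀ _ hvl, sub_self]
    have hρt : t = ρ ^ 2 := by
      have h1 := hkill v hv
      rw [← hXC, ← Matrix.vecMul_vecMul, heq X (by simp) C (by simp) v hv, hρ, Matrix.smul_vecMul, hρ, smul_smul] at h1
      have := congrFun h1 (Fin.last m)
      simp only [Pi.smul_apply, smul_eq_mul] at this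
      exact mul_right_cancel₀ hvl (by rw [← this, sq])
    have hC1 : (v ᵥ* C) ⟨m - 1, by omega⟩ = v (Fin.last m) := by
      rw [Matrix.vecMul, dotProduct, Finset.sum_eq_single (Fin.last m) (fun b _ hb' => ?_) (by simp)]
      · simp [hC, SLComm.comp, show m - 1 + 1 = m by omega, show m - 1 ≠ m by omega]
      · have e2 : (b : ℕ) ≠ m := fun e => hb' (Fin.ext (by simpa using e))
        simp only [hC, SLComm.comp, Matrix.of_apply]
        rw [if_neg (by omega), if_neg (by omega), mul_zero]
    have h1 := hsub v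
    rw [hkill v hv, Pi.smul_apply, smul_eq_mul] at h1
    rw [hρ, Pi.smul_apply, smul_eq_mul] at hC1
    have h2 : ρ * M (Fin.last m) ⟨m - 1, by omega⟩ = t + 1 :=
      mul_left_cancel₀ hvl (by linear_combination -ρ * h1 + (t + 1) * hC1)
    exact hb2 (by rw [← h2, hρt]; ring)

end Cfsg.Lib.Linear.PSLCover
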