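import Cfsg.Agent.Lib.Linear.PSLCover.Class
import Cfsg.Agent.Lib.Linear.RegUnip.Main

/-!
# A nonscalar matrix is a product of two members of a target class

One pivot splits off a simple eigenvalue and leaves a nonscalar complement; the last step is the
factorisation into two regular unipotent matrices.
-/

set_option autoImplicit false
set_option linter.unusedSectionVars false
set_option linter.unusedSimpArgs false

universe u

namespace Cfsg.Lib.Linear.PSLCover

open Module Polynomial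
open Cfsg.Agent.RegUnip (IsConjJ product_of_two exists_functional li3' upperUni_inv UpperUni det_upperUni)
open scoped Matrix

variable {F : Type u} [Field F]
variable {ι κ : Type} [Fintype ι] [DecidableEq ι] [Fintype κ] [DecidableEq κ]

/-- The pivot. -/
theorem exists_pivot {g : Matrix ι ι F} (hg : NS g) (hd : g.det ≠ 0) (h3 : 3 ≤ Fintype.card ι) {c : F} (_hc : c ≠ 0) :
    ∃ (v : ι → F) (φ : (ι → F) →ₗ[F] F), φ v = 1 ∧ φ (g *ᵥ v) = c ∧
      ∃ z, φ z = 0 ∧ ∀ γ : F, g *ᵥ z - (c⁻¹ * φ (g *ᵥ z)) • (g *ᵥ v) ≠ γ • z := by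
  have hinj : ∀ a : ι → F, g *ᵥ a = 0 → a = 0 := fun a ha => by
    by_contra h
    exact hd (Matrix.exists_mulVec_eq_zero_iff.1 ⟨a, h, ha⟩)
  obtain ⟨v, hv⟩ := hg.exists_indep
  obtain ⟨y, hy⟩ : ∃ y, y ∉ Submodule.span F {v, g *ᵥ v} := by
    by_contra hn
    push Not at hn
    have h : finrank F (Submodule.span F (Set.range ![v, g *ᵥ v])) = Fintype.card ι := by
      rw [show Submodule.span F (Set.range ![v, g *ᵥ v]) = ⊤ from
        Submodule.eq_top_iff'.2 (fun x => by rw [Cfsg.Agent.RegUnip.range2]; exact hn x), finrank_top,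
        finrank_fintype_fun_eq_card]
    have h' := finrank_range_le_card (R := F) ![v, g *ᵥ v]
    rw [Set.finrank, h, Fintype.card_fin] at h'
    omega
  have h3' : LinearIndependent F ![v, g *ᵥ v, y] := li3' hv hy
  by_cases hout : g *ᵥ y ∈ Submodule.span F (Set.range ![v, g *ᵥ v, y])
  · obtain ⟨a, ha⟩ := (Submodule.mem_span_range_iff_exists_fun F).1 hout
    rw [Fin.sum_univ_three] at ha
    simp only [Matrix.cons_val_zero, Matrix.cons_val_one, Matrix.cons_val] at ha
    obtain ⟨η, hη⟩ : ∃ η : F, a 0 + a 2 * η ≠ 0 := by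
      by_cases h2 : a 2 = 0
      · refine ⟨0, fun h => ?_⟩
        rw [h2, zero_mul, add_zero] at h
        rw [h, h2, zero_smul, zero_smul, zero_add, add_zero, ← Matrix.mulVec_smul, eq_comm, ← sub_eq_zero,
          ← Matrix.mulVec_sub] at ha
        have h5 := hinj _ ha
        exact hy (by rw [sub_eq_zero.1 h5]; exact Submodule.smul_mem _ _ (Submodule.subset_span (by simp)))
      · refine ⟨(1 - a 0) / a 2, ?_⟩
        rw [mul_div_cancel₀ _ h2, add_sub_cancel]
        exact one_ne_zero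
    obtain ⟨φ, hφ⟩ := exists_functional h3' ![1, c, η]
    have h0 : φ v = 1 := hφ 0
    have h1 : φ (g *ᵥ v) = c := hφ 1
    have h2 : φ y = η := hφ 2
    refine ⟨v, φ, h0, h1, y - η • v, by rw [map_sub, map_smul, h2, h0, smul_eq_mul, mul_one, sub_self],
      fun γ h => ?_⟩
    rw [Matrix.mulVec_sub, Matrix.mulVec_smul, map_sub, map_smul, h1, ← ha, map_add, map_add, map_smul, map_smul,
      map_smul, h0, h1, h2] at h
    have h4 := Fintype.linearIndependent_iff.1 h3'
      ![a 0 + γ * η, a 1 - η - c⁻¹ * (a 0 • (1 : F) + a 1 • c + a 2 • η - η • c), a 2 - γ] (by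
        rw [Fin.sum_univ_three]
        simp only [Matrix.cons_val_zero, Matrix.cons_val_one, Matrix.cons_val]
        rw [← sub_eq_zero] at h
        rw [← h]; module)
    have e0 := h4 0
    have e2 := h4 2
    simp at e0 e2
    exact hη (by rw [sub_eq_zero.1 e2]; exact e0)
  · have h4 : LinearIndependent F (Fin.cons (g *ᵥ y) ![v, g *ᵥ v, y] : Fin 4 → (ι → F)) :=
      linearIndependent_finCons.2 ⟨h3', hout⟩
    obtain ⟨φ, hφ⟩ := exists_functional h4 ![0, 1, c, 0]
    have hy0 : φ (g *ᵥ y) = 0 := hφ 0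
    have h0 : φ v = 1 := hφ 1
    have h1 : φ (g *ᵥ v) = c := hφ 2
    have h2 : φ y = 0 := hφ 3
    refine ⟨v, φ, h0, h1, y, h2, fun γ h => hout ?_⟩
    rw [hy0, mul_zero, zero_smul, sub_zero] at h
    rw [h]
    exact Submodule.smul_mem _ _ (Submodule.subset_span ⟨2, rfl⟩)

/-- The pivot in matrix form. -/
theorem exists_schur {g : Matrix ι ι F} (hg : NS g) (hd : g.det ≠ 0) (h3 : 3 ≤ Fintype.card ι) {c : F} (hc : c ≠ 0)
    {m : ℕ} (hm : Fintype.card ι = m + 1) :
    ∃ (R : Matrix Unit (Fin m) F) (w : Matrix (Fin m) Unit F) (G : Matrix (Fin m) (Fin m) F),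
      MSim g (Matrix.fromBlocks (c • 1) R w (G + c⁻¹ • (w * R))) ∧ NS G ∧ g.det = c * G.det := by
  obtain ⟨v, φ, hv, hgv, z, hz, hG⟩ := exists_pivot hg hd h3 hc
  have hφ : φ ≠ 0 := fun e => one_ne_zero (hv.symm.trans (by rw [e]; rfl))
  have hW : finrank F (LinearMap.ker φ) = m := by
    have := Module.Dual.finrank_ker_add_one_of_ne_zero (f := φ) hφ
    rw [finrank_fintype_fun_eq_card, hm] at this
    omega
  let b := Module.finBasisOfFinrankEq F (LinearMap.ker φ) hW
  let pr : (ι → F) →ₗ[F] LinearMap.ker φ :=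
    (LinearMap.id - φ.smulRight v).codRestrict _ fun x => LinearMap.mem_ker.2 (by simp [hv])
  have hpr : ∀ x, (pr x : ι → F) = x - φ x • v := fun x => rfl
  let Ψ : (ι → F) ≃ₗ[F] (Unit ⊕ Fin m → F) :=
    { toFun := fun x => Sum.elim (fun _ => φ x) (b.equivFun (pr x))
      map_add' := fun x y => funext fun i => by rcases i with ⟨⟩ | i <;> simp
      map_smul' := fun a x => funext fun i => by rcases i with ⟨⟩ | i <;> simp
      invFun := fun u => u (Sum.inl ()) • v + (b.equivFun.symm fun i => u (Sum.inr i) : LinearMap.ker φ)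
      left_inv := fun x => by
        simp only [Sum.elim_inl, Sum.elim_inr, LinearEquiv.symm_apply_apply]
        rw [hpr, add_sub_cancel]
      right_inv := fun u => by
        have h0 : φ ((b.equivFun.symm fun i => u (Sum.inr i) : LinearMap.ker φ) : ι → F) = 0 :=
          LinearMap.mem_ker.1 (b.equivFun.symm fun i => u (Sum.inr i)).2
        funext i
        rcases i with ⟨⟩ | i
        · simp only [Sum.elim_inl, map_add, map_smul, hv, h0]
          simp
        · show b.equivFun (pr _) i = _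
          rw [show pr (u (Sum.inl ()) • v + _) = b.equivFun.symm fun i => u (Sum.inr i) from
            Subtype.ext (by rw [hpr, map_add, map_smul, hv, h0]; simp), LinearEquiv.apply_symm_apply] }
  have hΨ : ∀ x, Ψ x = Sum.elim (fun _ => φ x) (b.equivFun (pr x)) := fun x => rfl
  let M := LinearMap.toMatrix' (Ψ.toLinearMap ∘ₗ Matrix.toLin' g ∘ₗ Ψ.symm.toLinearMap)
  have hM : ∀ x, M *ᵥ Ψ x = Ψ (g *ᵥ x) := fun x => by
    rw [← Matrix.toLin'_apply, Matrix.toLin'_toMatrix']
    simp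
  have hsim : MSim g M := ⟨Ψ, fun x => by rw [Matrix.toLin'_apply, Matrix.toLin'_apply, hM]⟩
  have h11 : M.toBlocks₁₁ = c • 1 := by
    ext ⟨⟩ ⟨⟩
    have h := congrFun (hM v) (Sum.inl ())
    rw [hΨ, hΨ, show pr v = 0 from Subtype.ext (by rw [hpr, hv]; simp)] at h
    simp only [Matrix.mulVec, dotProduct, Fintype.sum_sum_type, Sum.elim_inl, Sum.elim_inr, map_zero, hgv, hv] at h
    simpa [Matrix.toBlocks₁₁] using h
  set G := M.toBlocks₂₂ - c⁻¹ • (M.toBlocks₂₁ * M.toBlocks₁₂) with hGdef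
  have hfb : M = Matrix.fromBlocks (c • 1) M.toBlocks₁₂ M.toBlocks₂₁ (G + c⁻¹ • (M.toBlocks₂₁ * M.toBlocks₁₂)) := by
    conv_lhs => rw [← Matrix.fromBlocks_toBlocks M, h11]
    congr 1
    rw [hGdef, sub_add_cancel]
  refine ⟨M.toBlocks₁₂, M.toBlocks₂₁, G, hfb ▸ hsim, ?_, ?_⟩
  · refine NS.of_apply (b.equivFun ⟨z, hz⟩) fun γ hγ => ?_
    refine hG γ ?_
    have hprz : pr z = ⟨z, hz⟩ := Subtype.ext (by rw [hpr, hz]; simp)
    have hcol : ∀ i, b.equivFun (pr (g *ᵥ z)) i =
        (M.toBlocks₂₂ *ᵥ b.equivFun ⟨z, hz⟩) i := fun i => by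
      have h1 := congrFun (hM z) (Sum.inr i)
      rw [hΨ, hΨ, hprz, hz] at h1
      simp only [Matrix.mulVec, dotProduct, Fintype.sum_sum_type, Sum.elim_inl, Sum.elim_inr, mul_zero,
        Finset.sum_const_zero, zero_add] at h1
      rw [← h1]; rfl
    have hrow : (M.toBlocks₁₂ *ᵥ b.equivFun ⟨z, hz⟩) () = φ (g *ᵥ z) := by
      have h1 := congrFun (hM z) (Sum.inl ())
      rw [hΨ, hΨ, hprz, hz] at h1
      simp only [Matrix.mulVec, dotProduct, Fintype.sum_sum_type, Sum.elim_inl, Sum.elim_inr, mul_zero,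
        Finset.sum_const_zero, zero_add] at h1
      rw [← h1]; rfl
    have hw : ∀ i, M.toBlocks₂₁ i () = b.equivFun (pr (g *ᵥ v)) i := fun i => by
      have h1 := congrFun (hM v) (Sum.inr i)
      rw [hΨ, hΨ, show pr v = 0 from Subtype.ext (by rw [hpr, hv]; simp)] at h1
      simp only [Matrix.mulVec, dotProduct, Fintype.sum_sum_type, Sum.elim_inl, Sum.elim_inr, map_zero, hv,
        Pi.zero_apply, mul_zero, Finset.sum_const_zero, add_zero, Finset.univ_unique, Finset.sum_singleton, mul_one] at h1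
      rw [← h1]; rfl
    have e : b.equivFun (pr (g *ᵥ z) - (c⁻¹ * φ (g *ᵥ z)) • pr (g *ᵥ v)) = b.equivFun (γ • ⟨z, hz⟩) := by
      rw [map_sub, map_smul, map_smul, ← hγ]
      funext i
      rw [hGdef, Matrix.sub_mulVec, Matrix.smul_mulVec, ← Matrix.mulVec_mulVec, Pi.sub_apply, Pi.sub_apply,
        Pi.smul_apply, Pi.smul_apply, hcol i, smul_eq_mul, smul_eq_mul]
      congr 1
      simp only [Matrix.mulVec, dotProduct, Finset.univ_unique, Finset.sum_singleton]
      simp only [Matrix.mulVec, dotProduct] at hrow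
      rw [hrow, show M.toBlocks₂₁ i default = M.toBlocks₂₁ i () from rfl, hw i]
      ring
    have e' := congrArg (Subtype.val) (b.equivFun.injective e)
    simp only [Submodule.coe_sub, Submodule.coe_smul, hpr, hgv] at e'
    rw [← e']
    rw [smul_sub, smul_smul, show c⁻¹ * φ (g *ᵥ z) * c = φ (g *ᵥ z) by field_simp]
    abel
  · rw [hsim.det_eq]
    have hinv : (c • 1 : Matrix Unit Unit F) * (c⁻¹ • 1) = 1 := by
      rw [Matrix.smul_mul, Matrix.one_mul, smul_smul, mul_inv_cancel₀ hc, one_smul]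
    letI : Invertible (c • 1 : Matrix Unit Unit F) := ⟨c⁻¹ • 1, mul_eq_one_comm.1 hinv, hinv⟩
    conv_lhs => rw [hfb, Matrix.det_fromBlocks₁₁]
    have hi : (⅟(c • 1 : Matrix Unit Unit F)) = c⁻¹ • 1 := by
      rw [Matrix.invOf_eq_nonsing_inv]; exact Matrix.inv_eq_right_inv hinv
    rw [hi, Matrix.det_smul, Matrix.det_one, Matrix.mul_smul, Matrix.mul_one, Matrix.smul_mul, add_sub_cancel_right]
    simp

/-- The standard regular unipotent matrix. -/
def jMat (F : Type u) [Field F] (k : ℕ) : Matrix (Fin k) (Fin k) F :=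
  Matrix.of fun i j : Fin k => if i = j then 1 else if j.val = i.val + 1 then 1 else 0

theorem jMat_upperUni (k : ℕ) : UpperUni (jMat F k) :=
  ⟨fun i => by simp [jMat], fun i j h => by
    simp [jMat, ne_of_gt h, show ¬ j.val = i.val + 1 by have := Fin.lt_def.1 h; omega]⟩

theorem isT_smul_uni {k : ℕ} {U : Matrix (Fin k) (Fin k) F} (hU : UpperUni U) {ζ : F} (hζ : ζ ≠ 0)
    (hker : KerLe U 1) : IsT ζ k [] (ζ • U) := by
  refine ⟨List.nodup_nil, by simp, ?_, fun z z' hz hz' h0 => hker z z' ?_ ?_ h0⟩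
  · rw [Matrix.charpoly_of_upperTriangular _ (fun i j h => by rw [Matrix.smul_apply, hU.2 i j h, smul_zero]), tPoly]
    simp [hU.1]
  · rw [one_smul]; rw [Matrix.smul_mulVec] at hz; exact smul_right_injective _ hζ hz
  · rw [one_smul]; rw [Matrix.smul_mulVec] at hz'; exact smul_right_injective _ hζ hz'

theorem jMat_ker (k : ℕ) : KerLe (jMat F k) 1 := by
  have key : ∀ z : Fin k → F, jMat F k *ᵥ z = (1 : F) • z → ∀ j : Fin k, 1 ≤ j.val → z j = 0 := by
    intro z hz j hj
    have h := congrFun hz (⟨j.val - 1, by omega⟩ : Fin k)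
    rw [one_smul, Matrix.mulVec, dotProduct,
      Finset.sum_eq_add (⟨j.val - 1, by omega⟩ : Fin k) j (fun e => by have := congrArg Fin.val e; simp only at this; omega)
        (fun b _ hb => by
          have : jMat F k (⟨j.val - 1, by omega⟩ : Fin k) b = 0 := by
            simp only [jMat, Matrix.of_apply]
            rw [if_neg (fun e => hb.1 e.symm), if_neg (fun e => hb.2 (Fin.ext (by omega)))]
          rw [this, zero_mul])
        (by simp) (by simp)] at h
    have e : jMat F k (⟨j.val - 1, by omega⟩ : Fin k) j = 1 := by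
      simp only [jMat, Matrix.of_apply]
      rw [if_neg (fun e => by have := congrArg Fin.val e; simp only at this; omega), if_pos (by omega)]
    rw [e, (jMat_upperUni (F := F) k).1, one_mul, one_mul] at h
    simpa using h
  intro z z' hz hz' h0
  rcases Nat.eq_zero_or_pos k with rfl | hk
  · exact ⟨0, Subsingleton.elim _ _⟩
  have h00 : z ⟨0, hk⟩ ≠ 0 := fun h => h0 (funext fun j => by
    rcases Nat.eq_zero_or_pos j.val with hj | hj
    · rw [show j = ⟨0, hk⟩ from Fin.ext hj]; exact h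
    · exact key z hz j hj)
  refine ⟨z' ⟨0, hk⟩ / z ⟨0, hk⟩, funext fun j => ?_⟩
  rcases Nat.eq_zero_or_pos j.val with hj | hj
  · rw [show j = ⟨0, hk⟩ from Fin.ext hj, Pi.smul_apply, smul_eq_mul, div_mul_cancel₀ _ h00]
  · rw [Pi.smul_apply, key z hz j hj, key z' hz' j hj, smul_zero]

theorem Prods2.transport {ζ ζ' : F} {k : ℕ} {S S' : List F} {g : Matrix ι ι F} {g' : Matrix κ κ F} (h : MSim g' g)
    (hp : ∃ A B : Matrix κ κ F, IsT ζ k S A ∧ IsT ζ' k S' B ∧ g' = A * B) :
    ∃ A B : Matrix ι ι F, IsT ζ k S A ∧ IsT ζ' k S' B ∧ g = A * B := by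
  obtain ⟨A, B, hA, hB, rfl⟩ := hp
  obtain ⟨P, Q, hPQ, hQP, he⟩ := msim_iff.1 h
  have hs : ∀ C : Matrix κ κ F, MSim C (P * C * Q) := fun C =>
    msim_iff.2 ⟨P, Q, hPQ, hQP, by rw [Matrix.mul_assoc _ Q P, hQP, Matrix.mul_one]⟩
  refine ⟨_, _, hA.of_msim (hs A), hB.of_msim (hs B), ?_⟩
  calc g = g * (P * Q) := by rw [hPQ, Matrix.mul_one]
    _ = P * (A * B) * Q := by rw [← Matrix.mul_assoc, ← he]
    _ = P * A * (Q * P) * B * Q := by rw [hQP, Matrix.mul_one]; simp only [Matrix.mul_assoc]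
    _ = P * A * Q * (P * B * Q) := by simp only [Matrix.mul_assoc]

/-- **Two members of a target class.** -/
theorem exists_split (hF : 4 ≤ Cardinal.mk F) (ζ : F) (hζ : ζ ≠ 0) :
    ∀ (S : List F) (k : ℕ) {ι : Type} [Fintype ι] [DecidableEq ι] (g : Matrix ι ι F), 2 ≤ k → S.Nodup → ζ ∉ S →
      0 ∉ S → Fintype.card ι = k + S.length → NS g → g.det = (ζ ^ k * S.prod) ^ 2 →
      ∃ A B : Matrix ι ι F, IsT ζ k S A ∧ IsT ζ k S B ∧ g = A * B
  | [], k, ι, _, _, g, hk, _, _, _, hcard, hg, hdet => by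
    have hc : Fintype.card ι = k := by simpa using hcard
    let e : ι ≃ Fin k := Fintype.equivFinOfCardEq hc
    have hre := msim_reindex e g
    refine Prods2.transport hre.symm ?_
    set g' := Matrix.reindex e e g
    have hz2 : (ζ * ζ)⁻¹ ≠ 0 := inv_ne_zero (mul_ne_zero hζ hζ)
    have hns : ∀ c : F, (ζ * ζ)⁻¹ • g' ≠ c • 1 := fun c hc' => (hg.of_msim hre) (ζ * ζ * c) (by
      rw [mul_smul, ← hc', smul_inv_smul₀ (mul_ne_zero hζ hζ)])
    have hd : ((ζ * ζ)⁻¹ • g').det = 1 := by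
      rw [Matrix.det_smul, ← hre.det_eq, hdet, Fintype.card_fin, List.prod_nil, mul_one, inv_pow, mul_pow, ← sq]
      exact inv_mul_cancel₀ (pow_ne_zero _ (pow_ne_zero _ hζ))
    obtain ⟨A, B, ⟨P, hP, hAP⟩, ⟨Q, hQ, hBQ⟩, hAB⟩ := product_of_two hF (by omega) _ (fun ⟨c, hc'⟩ => hns c hc') hd
    have hs : ∀ (M P : Matrix (Fin k) (Fin k) F), IsUnit P.det → M * P = P * jMat F k → IsT ζ k [] (ζ • M) := by
      intro M P hP hMP
      refine (isT_smul_uni (jMat_upperUni k) hζ (jMat_ker k)).of_msim (MSim.smul ζ ?_)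
      exact msim_iff.2 ⟨P, P⁻¹, Matrix.mul_nonsing_inv _ hP, Matrix.nonsing_inv_mul _ hP, hMP.symm⟩
    refine ⟨ζ • A, ζ • B, hs A P hP hAP, hs B Q hQ hBQ, ?_⟩
    rw [Matrix.smul_mul, Matrix.mul_smul, ← hAB, smul_smul, smul_inv_smul₀ (mul_ne_zero hζ hζ)]
  | t :: S, k, ι, _, _, g, hk, hnd, hmem, h0, hcard, hg, hdet => by
    obtain ⟨ht, hnd'⟩ := List.nodup_cons.1 hnd
    have htζ : t ≠ ζ := fun e => hmem (e ▸ List.mem_cons_self)
    have hζS : ζ ∉ S := fun e => hmem (List.mem_cons_of_mem t e)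
    have ht0 : t ≠ 0 := fun e => h0 (e ▸ List.mem_cons_self)
    have h0S : (0 : F) ∉ S := fun e => h0 (List.mem_cons_of_mem t e)
    have hd0 : g.det ≠ 0 := by
      rw [hdet]
      exact pow_ne_zero _ (mul_ne_zero (pow_ne_zero _ hζ) (List.prod_ne_zero h0))
    rw [List.length_cons] at hcard
    obtain ⟨R, w, G, hsim, hG, hGd⟩ := exists_schur hg hd0 (by omega) (mul_ne_zero ht0 ht0) (m := k + S.length) (by omega)
    have hGd' : G.det = (ζ ^ k * S.prod) ^ 2 := by
      rw [hdet, List.prod_cons] at hGd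
      exact mul_left_cancel₀ (mul_ne_zero ht0 ht0) (by rw [← hGd]; ring)
    obtain ⟨A, B, hA, hB, hAB⟩ := exists_split hF ζ hζ S k G hk hnd' hζS h0S (Fintype.card_fin _) hG hGd'
    refine Prods2.transport hsim.symm ⟨_, _, hA.cons_lower ht htζ (t⁻¹ • w), hB.cons_upper ht htζ (t⁻¹ • R), ?_⟩
    rw [Matrix.fromBlocks_multiply]
    simp only [Matrix.mul_zero, Matrix.zero_mul, add_zero, zero_add, Matrix.smul_mul, Matrix.mul_smul,
      Matrix.one_mul, Matrix.mul_one, smul_smul, mul_inv_cancel₀ ht0, inv_mul_cancel₀ ht0, one_smul]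
    rw [← hAB, add_comm G, mul_inv]

/-- The same for a scalar matrix, with the second class reflected. -/
theorem exists_split_scalar (ζ σ : F) (hζ : ζ ≠ 0) (hσ : σ ≠ 0) :
    ∀ (S : List F) (k : ℕ) {ι : Type} [Fintype ι] [DecidableEq ι], S.Nodup → ζ ∉ S →
      0 ∉ S → Fintype.card ι = k + S.length →
      ∃ A B : Matrix ι ι F, IsT ζ k S A ∧ IsT (σ * ζ⁻¹) k (S.map fun t => σ * t⁻¹) B ∧ σ • (1 : Matrix ι ι F) = A * B
  | [], k, ι, _, _, _, _, _, hcard => by
    let e : Fin k ≃ ι := (Fintype.equivFinOfCardEq (by simpa using hcard)).symm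
    refine Prods2.transport (g' := σ • (1 : Matrix (Fin k) (Fin k) F)) ?_ ?_
    · convert (msim_reindex e (σ • (1 : Matrix (Fin k) (Fin k) F))) using 1
      rw [Matrix.reindex_apply, Matrix.submatrix_smul, Pi.smul_apply, Pi.smul_apply, Matrix.submatrix_one_equiv]
    have hJ := jMat_upperUni (F := F) k
    have hu : IsUnit (jMat F k).det := by rw [det_upperUni hJ]; exact isUnit_one
    refine ⟨ζ • jMat F k, (σ * ζ⁻¹) • (jMat F k)⁻¹, isT_smul_uni hJ hζ (jMat_ker k),
      isT_smul_uni (upperUni_inv hJ) (mul_ne_zero hσ (inv_ne_zero hζ)) fun z z' hz hz' h0 => ?_, ?_⟩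
    · have key : ∀ y : Fin k → F, (jMat F k)⁻¹ *ᵥ y = (1 : F) • y → jMat F k *ᵥ y = (1 : F) • y := fun y hy => by
        rw [one_smul] at hy ⊢
        conv_lhs => rw [← hy, Matrix.mulVec_mulVec, Matrix.mul_nonsing_inv _ hu, Matrix.one_mulVec]
      exact jMat_ker k z z' (key z hz) (key z' hz') h0
    · rw [Matrix.smul_mul, Matrix.mul_smul, Matrix.mul_nonsing_inv _ hu, smul_smul]
      congr 1
      field_simp
  | t :: S, k, ι, _, _, hnd, hmem, h0, hcard => by
    obtain ⟨ht, hnd'⟩ := List.nodup_cons.1 hnd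
    have htζ : t ≠ ζ := fun e => hmem (e ▸ List.mem_cons_self)
    have hζS : ζ ∉ S := fun e => hmem (List.mem_cons_of_mem t e)
    have ht0 : t ≠ 0 := fun e => h0 (e ▸ List.mem_cons_self)
    have h0S : (0 : F) ∉ S := fun e => h0 (List.mem_cons_of_mem t e)
    obtain ⟨A, B, hA, hB, hAB⟩ := exists_split_scalar ζ σ hζ hσ S k (ι := Fin (k + S.length)) hnd' hζS h0S (Fintype.card_fin _)
    rw [List.length_cons] at hcard
    let e : Unit ⊕ Fin (k + S.length) ≃ ι := Fintype.equivOfCardEq (by simp; omega)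
    refine Prods2.transport (g' := σ • (1 : Matrix (Unit ⊕ Fin (k + S.length)) (Unit ⊕ Fin (k + S.length)) F)) ?_
      ⟨_, _, hA.cons_lower ht htζ 0, hB.cons_upper ?_ ?_ 0, ?_⟩
    · convert (msim_reindex e (σ • (1 : Matrix (Unit ⊕ Fin (k + S.length)) (Unit ⊕ Fin (k + S.length)) F))) using 1
      rw [Matrix.reindex_apply, Matrix.submatrix_smul, Pi.smul_apply, Pi.smul_apply, Matrix.submatrix_one_equiv]
    · intro h
      obtain ⟨s, hs, he⟩ := List.mem_map.1 h
      exact ht ((inv_injective (mul_left_cancel₀ hσ he)) ▸ hs)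
    · exact fun h => htζ (inv_injective (mul_left_cancel₀ hσ h))
    · rw [Matrix.fromBlocks_multiply, ← hAB, ← Matrix.fromBlocks_one, Matrix.fromBlocks_smul]
      simp [smul_smul]
      field_simp

end Cfsg.Lib.Linear.PSLCover
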