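import Cfsg.Agent.Lib.Linear.PSLCover.Frame

/-!
# One matrix of residual rank one

As many factors as the size, one for each row of a lower times upper triangular form.
-/

set_option autoImplicit false
set_option linter.unusedSectionVars false
set_option linter.unusedSimpArgs false

universe u

namespace Cfsg.Lib.Linear.PSLCover

open Module
open Cfsg.Agent.RegUnip (exists_functional factors exists_upper_basis RegUpper UpperUni det_upperUni)
open scoped Matrix

variable {F : Type u} [Field F]
variable {ι : Type} [Fintype ι] [DecidableEq ι]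

/-- A functional as a row. -/
theorem exists_row (φ : (ι → F) →ₗ[F] F) : ∃ r : ι → F, ∀ x, r ⬝ᵥ x = φ x :=
  ⟨fun i => φ (Pi.single i 1), fun x => by
    conv_rhs => rw [pi_eq_sum_univ' x]
    simp [dotProduct, map_sum, mul_comm]⟩

/-- Columns with the same pairing are carried to each other fixing the row. -/
theorem ssim_col {u u' v : ι → F} (h : LinearIndependent F ![u', u]) (hc : v ⬝ᵥ u = v ⬝ᵥ u') :
    SSim (1 + Matrix.vecMulVec u v) (1 + Matrix.vecMulVec u' v) := by
  obtain ⟨φ, hφ⟩ := exists_functional h ![1, 1]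
  obtain ⟨r, hr⟩ := exists_row φ
  have h1 : r ⬝ᵥ u' = 1 := by rw [hr]; exact hφ 0
  have h2 : r ⬝ᵥ (u - u') = 0 := by
    rw [dotProduct_sub, h1, hr, show φ u = 1 from hφ 1, sub_self]
  have hsq : Matrix.vecMulVec (u - u') r * Matrix.vecMulVec (u - u') r = 0 := by
    rw [Matrix.vecMulVec_mul_vecMulVec, h2, zero_smul, Matrix.vecMulVec_zero]
  have hS : (1 + Matrix.vecMulVec (u - u') r) * (1 - Matrix.vecMulVec (u - u') r) = 1 := by
    rw [Matrix.add_mul, Matrix.one_mul, Matrix.mul_sub, Matrix.mul_one, hsq, sub_zero, sub_add_cancel]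
  refine ⟨_, _, hS, ?_, ?_⟩
  · rw [Matrix.vecMulVec_eq Unit, Matrix.det_one_add_replicateCol_mul_replicateRow, h2, add_zero]
  · have hu : (1 + Matrix.vecMulVec (u - u') r) *ᵥ u' = u := by
      rw [Matrix.add_mulVec, Matrix.one_mulVec, Matrix.vecMulVec_mulVec, h1]; simp
    have hv : v ᵥ* (1 - Matrix.vecMulVec (u - u') r) = v := by
      rw [Matrix.vecMul_sub, Matrix.vecMul_one, Matrix.vecMul_vecMulVec, dotProduct_sub, hc, sub_self, zero_smul,
        sub_zero]
    rw [Matrix.mul_add, Matrix.mul_one, Matrix.add_mul, hS, Matrix.mul_vecMulVec, hu, Matrix.vecMulVec_mul, hv]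

/-- The rank one perturbations of one determinant form one class. -/
theorem ssim_rankone {u u' v v' : ι → F} (h3 : 3 ≤ Fintype.card ι) (hu : u ≠ 0) (hu' : u' ≠ 0) (hv : v ≠ 0)
    (hv' : v' ≠ 0) (hc : v ⬝ᵥ u = v' ⬝ᵥ u') :
    SSim (1 + Matrix.vecMulVec u v) (1 + Matrix.vecMulVec u' v') := by
  have hone : ∀ w : ι → F, w ≠ 0 → LinearIndependent F (fun _ : Unit => w) := fun w hw =>
    LinearIndependent.of_subsingleton () hw
  obtain ⟨P, P', hPP', hP, hmap⟩ := exists_det_map (hone v hv) (hone v' hv') (by simp; omega)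
  set u₁ := P *ᵥ u' with hu₁
  have hvP : v = v' ᵥ* P' := by
    rw [← hmap (), Matrix.vecMul_vecMul, hPP', Matrix.vecMul_one]
  have hA : SSim (1 + Matrix.vecMulVec u₁ v) (1 + Matrix.vecMulVec u' v') := by
    refine ⟨P, P', hPP', hP, ?_⟩
    rw [Matrix.mul_add, Matrix.mul_one, Matrix.add_mul, hPP', Matrix.mul_vecMulVec, Matrix.vecMulVec_mul, ← hvP]
  have hc₁ : v ⬝ᵥ u = v ⬝ᵥ u₁ := by rw [hc, hu₁, Matrix.dotProduct_mulVec, hmap ()]
  have hu₁0 : u₁ ≠ 0 := fun e => hu' (by
    rw [← Matrix.one_mulVec u', ← mul_eq_one_comm.1 hPP', ← Matrix.mulVec_mulVec, ← hu₁, e, Matrix.mulVec_zero])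
  refine SSim.trans ?_ hA
  by_cases hli : LinearIndependent F ![u₁, u]
  · exact ssim_col hli hc₁
  rw [LinearIndependent.pair_iff' hu₁0] at hli
  push Not at hli
  obtain ⟨a, ha⟩ := hli
  have ha0 : a ≠ 0 := fun e => hu (by rw [← ha, e, zero_smul])
  obtain ⟨φ, hφ⟩ : ∃ φ : (ι → F) →ₗ[F] F, ∀ x, φ x = v ⬝ᵥ x :=
    ⟨{ toFun := fun x => v ⬝ᵥ x, map_add' := dotProduct_add v, map_smul' := fun c x => dotProduct_smul c v x },
      fun _ => rfl⟩
  obtain ⟨z, hz, hzu⟩ : ∃ z, v ⬝ᵥ z = 0 ∧ z ∉ Submodule.span F {u₁} := by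
    by_contra hn
    push Not at hn
    have h1 : LinearMap.ker φ ≤ Submodule.span F {u₁} := fun z hz => hn z (by rw [← hφ]; exact hz)
    have h2 := Submodule.finrank_mono h1
    rw [finrank_span_singleton hu₁0] at h2
    have h4 := φ.finrank_range_add_finrank_ker
    have h5 := Submodule.finrank_le (LinearMap.range φ)
    rw [finrank_self] at h5
    rw [Module.finrank_fintype_fun_eq_card] at h4
    omega
  have key : ∀ w, w ∈ Submodule.span F ({u₁} : Set (ι → F)) → w ≠ 0 → LinearIndependent F ![w, u + z] :=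
    fun w hw hw0 => (LinearIndependent.pair_iff' hw0).2 fun b hb => hzu (by
      rw [show z = b • w - u by rw [hb]; abel, ← ha]
      exact sub_mem (Submodule.smul_mem _ _ hw) (Submodule.smul_mem _ _ (Submodule.mem_span_singleton_self _)))
  have hcz : v ⬝ᵥ (u + z) = v ⬝ᵥ u := by rw [dotProduct_add, hz, add_zero]
  refine SSim.trans (SSim.symm (ssim_col (key u ?_ hu) hcz))
    (ssim_col (key u₁ (Submodule.mem_span_singleton_self _) hu₁0) (hcz.trans hc₁))
  rw [← ha]
  exact Submodule.smul_mem _ _ (Submodule.mem_span_singleton_self _)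

/-- Replacing a row is one factor. -/
theorem exists_row_factor {A B B' : Matrix ι ι F} (hB : B * B' = 1) (i : ι)
    (h : ∀ k, k ≠ i → A.row k = B.row k) :
    ∃ w : ι → F, A = (1 + Matrix.vecMulVec (Pi.single i 1) w) * B := by
  refine ⟨(A.row i - B.row i) ᵥ* B', ?_⟩
  rw [Matrix.add_mul, Matrix.one_mul, Matrix.vecMulVec_mul, Matrix.vecMul_vecMul, mul_eq_one_comm.1 hB,
    Matrix.vecMul_one]
  ext k j
  rcases eq_or_ne k i with rfl | hk
  · simp [Matrix.vecMulVec_apply]
  · simp [Matrix.vecMulVec_apply, hk]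
    exact congrFun (h k hk) j

theorem exists_units_sum [Fintype F] (hq : 4 ≤ Fintype.card F) :
    ∀ (m : ℕ) (a : F), 1 ≤ m → (a ≠ 0 ∨ 2 ≤ m) → ∃ c : Fin m → F, (∀ i, c i ≠ 0) ∧ ∑ i, c i = a
  | 0, _, h, _ => absurd h (by omega)
  | 1, a, _, h => ⟨fun _ => a, fun _ => h.resolve_right (by omega), by simp⟩
  | m + 2, a, _, _ => by
    obtain ⟨b, hb, hba, -⟩ := exists_avoid_sq hq 0 a 0
    obtain ⟨c, hc, hs⟩ := exists_units_sum hq (m + 1) (a - b) (by omega) (Or.inl (sub_ne_zero.2 (Ne.symm hba)))
    exact ⟨Fin.cons b c, fun i => Fin.cases hb hc i, by rw [Fin.sum_cons, hs, add_sub_cancel]⟩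

theorem prod_add_of_annihilate : ∀ l : List (Matrix ι ι F), (∀ a ∈ l, ∀ b ∈ l, a * b = 0) →
    (l.map fun a => 1 + a).prod = 1 + l.sum
  | [], _ => by simp
  | a :: l, h => by
    rw [List.map_cons, List.prod_cons, prod_add_of_annihilate l (fun a ha b hb =>
      h a (List.mem_cons_of_mem _ ha) b (List.mem_cons_of_mem _ hb)), List.sum_cons]
    have hz : ∀ l' : List (Matrix ι ι F), (∀ b ∈ l', a * b = 0) → a * l'.sum = 0 := by
      intro l'
      induction l' with
      | nil => intro _; simp
      | cons b l' ih =>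
        intro hb
        rw [List.sum_cons, Matrix.mul_add, hb b List.mem_cons_self,
          ih (fun c hc => hb c (List.mem_cons_of_mem _ hc)), add_zero]
    have h0 : a * l.sum = 0 := hz l fun b hb => h a List.mem_cons_self b (List.mem_cons_of_mem _ hb)
    rw [Matrix.mul_add, Matrix.mul_one, Matrix.add_mul, Matrix.one_mul, h0, add_zero, add_assoc]

variable {n : ℕ}

/-- Transvections with a sum. -/
theorem sprod_square_zero [Fintype F] (hq : 4 ≤ Fintype.card F) (hn : 3 ≤ n) {u v : Fin n → F} (hu : u ≠ 0)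
    (hv : v ≠ 0) (hc : v ⬝ᵥ u = 0) {T : Matrix (Fin n) (Fin n) F} (hT : T * T = 0) :
    SProd n (1 + Matrix.vecMulVec u v) (1 + T) := by
  classical
  let R := LinearMap.range (Matrix.toLin' T)
  rcases eq_or_ne T 0 with rfl | hT0
  · obtain ⟨c, hc0, hcs⟩ := exists_units_sum hq n 0 (by omega) (Or.inr (by omega))
    let l := (List.ofFn fun i => Matrix.vecMulVec (c i • u) v)
    refine ⟨l.map fun a => 1 + a, by simp [l], fun a ha => ?_, ?_⟩
    · simp only [l, List.mem_map, List.mem_ofFn, exists_exists_eq_and] at ha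
      obtain ⟨i, rfl⟩ := ha
      exact ssim_rankone (by simp; omega) (smul_ne_zero (hc0 i) hu) hu hv hv (by rw [dotProduct_smul, hc, smul_zero])
    · rw [prod_add_of_annihilate l (fun a ha b hb => by
        simp only [l, List.mem_ofFn] at ha hb
        obtain ⟨i, rfl⟩ := ha
        obtain ⟨j, rfl⟩ := hb
        rw [Matrix.vecMulVec_mul_vecMulVec, dotProduct_smul, hc, smul_zero, zero_smul, Matrix.vecMulVec_zero]),
        List.sum_ofFn]
      have : (∑ i, Matrix.vecMulVec (c i • u) v) = (∑ i, c i) • Matrix.vecMulVec u v := by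
        rw [Finset.sum_smul]
        exact Finset.sum_congr rfl fun i _ => Matrix.smul_vecMulVec _ _ _
      rw [this, hcs, zero_smul]
  · obtain ⟨k, hk⟩ : ∃ k, finrank F R = k := ⟨_, rfl⟩
    let b := Module.finBasisOfFinrankEq F R hk
    have hk1 : 1 ≤ k := by
      by_contra h
      have h0 : R = ⊥ := Submodule.finrank_eq_zero.1 (by omega)
      exact hT0 (Matrix.toLin'.injective (by rw [map_zero]; exact LinearMap.range_eq_bot.1 h0))
    have hkn : k ≤ n := by
      rw [← hk]; exact (Submodule.finrank_le R).trans (by rw [Module.finrank_fin_fun])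
    obtain ⟨m, rfl⟩ : ∃ m, k = m + 1 := ⟨k - 1, by omega⟩
    choose w hw using fun j => exists_row ((b.coord j).comp (Matrix.toLin' T).rangeRestrict)
    have hsum : T = ∑ j, Matrix.vecMulVec (b j : Fin n → F) (w j) := by
      refine Matrix.toLin'.injective (LinearMap.ext fun x => ?_)
      rw [Matrix.toLin'_apply, Matrix.toLin'_apply, Matrix.sum_mulVec]
      have h1 := congrArg Subtype.val (b.sum_repr ((Matrix.toLin' T).rangeRestrict x))
      rw [Submodule.coe_sum] at h1
      change _ = T *ᵥ x at h1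
      rw [← h1]
      refine Finset.sum_congr rfl fun j _ => ?_
      rw [Matrix.vecMulVec_mulVec, hw]
      simp
    have hkill : ∀ i j, w i ⬝ᵥ (b j : Fin n → F) = 0 := fun i j => by
      obtain ⟨y, hy⟩ := LinearMap.mem_range.1 (b j).2
      rw [hw]
      have : (Matrix.toLin' T).rangeRestrict (b j : Fin n → F) = 0 := Subtype.ext (by
        show Matrix.toLin' T (b j : Fin n → F) = 0
        rw [← hy, ← LinearMap.comp_apply, ← Matrix.toLin'_mul, hT]
        simp)
      simp [this]
    have hw0 : ∀ j, w j ≠ 0 := fun j e => by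
      obtain ⟨y, hy⟩ := (Matrix.toLin' T).surjective_rangeRestrict (b j)
      have h1 := hw j y
      rw [e, zero_dotProduct, LinearMap.comp_apply, hy] at h1
      simp at h1
    have hb0 : ∀ j, (b j : Fin n → F) ≠ 0 := fun j e => b.ne_zero j (Subtype.ext e)
    obtain ⟨c, hc0, hcs⟩ := exists_units_sum hq (n - m) 1 (by omega) (Or.inl one_ne_zero)
    let l := (List.ofFn fun i => Matrix.vecMulVec (c i • (b 0 : Fin n → F)) (w 0)) ++
      (List.ofFn fun j : Fin m => Matrix.vecMulVec (b j.succ : Fin n → F) (w j.succ))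
    refine ⟨l.map fun a => 1 + a, by simp [l]; omega, fun a ha => ?_, ?_⟩
    · simp only [l, List.mem_map, List.mem_append, List.mem_ofFn] at ha
      obtain ⟨a, ⟨i, rfl⟩ | ⟨j, rfl⟩, rfl⟩ := ha
      · exact ssim_rankone (by simp; omega) (smul_ne_zero (hc0 i) (hb0 0)) hu (hw0 0) hv
          (by rw [dotProduct_smul, hkill, smul_zero, hc])
      · exact ssim_rankone (by simp; omega) (hb0 _) hu (hw0 _) hv (by rw [hkill, hc])
    · have hform : ∀ a ∈ l, ∃ (s : F) (j : Fin (m + 1)), a = Matrix.vecMulVec (s • (b j : Fin n → F)) (w j) := by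
        intro a ha
        simp only [l, List.mem_append, List.mem_ofFn] at ha
        rcases ha with ⟨i, rfl⟩ | ⟨j, rfl⟩
        · exact ⟨c i, 0, rfl⟩
        · exact ⟨1, j.succ, by rw [one_smul]⟩
      rw [prod_add_of_annihilate l (fun a ha a' ha' => by
        obtain ⟨s, i, rfl⟩ := hform a ha
        obtain ⟨t, j, rfl⟩ := hform a' ha'
        rw [Matrix.vecMulVec_mul_vecMulVec, dotProduct_smul, hkill, smul_zero, zero_smul, Matrix.vecMulVec_zero])]
      rw [hsum, Fin.sum_univ_succ]
      simp only [l, List.sum_append, List.sum_ofFn, Matrix.smul_vecMulVec, ← Finset.sum_smul, hcs, one_smul]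

theorem toMatrix_conj {m : ℕ} (b : Basis (Fin m) F (Fin m → F)) (g : Matrix (Fin m) (Fin m) F) :
    MSim (LinearMap.toMatrix b b (Matrix.toLin' g)) g := by
  refine msim_iff.2 ⟨LinearMap.toMatrix b (Pi.basisFun F (Fin m)) LinearMap.id,
    LinearMap.toMatrix (Pi.basisFun F (Fin m)) b LinearMap.id, ?_, ?_, ?_⟩
  · rw [← LinearMap.toMatrix_comp, LinearMap.id_comp, LinearMap.toMatrix_id]
  · rw [← LinearMap.toMatrix_comp, LinearMap.id_comp, LinearMap.toMatrix_id]
  · conv_rhs => rw [← LinearMap.toMatrix'_toLin' g, ← LinearMap.toMatrix_eq_toMatrix']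
    rw [← LinearMap.toMatrix_comp, ← LinearMap.toMatrix_comp, LinearMap.id_comp, LinearMap.comp_id]

/-- Lower times upper, no row trivial. -/
theorem sprod_of_triangular (hn : 3 ≤ n) {u v : Fin n → F} (hu : u ≠ 0) (hv : v ≠ 0) {ν : F} (hν : ν ≠ 0)
    (hc : 1 + v ⬝ᵥ u = ν) {L U : Matrix (Fin n) (Fin n) F} (hL : UpperUni Lᵀ) (hU : ∀ i j, j < i → U i j = 0)
    (hUd : ∀ i, U i i = ν) (hrow : ν ≠ 1 ∨ ∀ i, (L * U).row i ≠ Pi.single i 1) :
    SProd n (1 + Matrix.vecMulVec u v) (L * U) := by
  classical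
  let st : Matrix (Fin n) (Fin n) F → ℕ → Matrix (Fin n) (Fin n) F := fun M i =>
    Matrix.of fun k j => if (k : ℕ) < i then M k j else (1 : Matrix (Fin n) (Fin n) F) k j
  have hLz : ∀ k j : Fin n, k < j → L k j = 0 := fun k j h => hL.2 j k h
  have hst : ∀ i, st (L * U) i = st L i * st U i := fun i => by
    ext k j
    by_cases hk : (k : ℕ) < i
    · simp only [st, Matrix.of_apply, if_pos hk, Matrix.mul_apply]
      refine Finset.sum_congr rfl fun l _ => ?_
      by_cases hl : (l : ℕ) < i
      · rw [if_pos hl]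
      · rw [if_neg hl, hLz k l (by show (k : ℕ) < l; omega), zero_mul, zero_mul]
    · simp only [st, Matrix.of_apply, if_neg hk, Matrix.mul_apply]
      rw [Finset.sum_eq_single k (fun l _ hl => by rw [Matrix.one_apply_ne (Ne.symm hl), zero_mul]) (by simp),
        if_neg hk, Matrix.one_apply_eq, one_mul]
  have hstd : ∀ i, (st (L * U) i).det = ∏ k : Fin n, if (k : ℕ) < i then ν else 1 := fun i => by
    rw [hst, Matrix.det_mul, Matrix.det_of_lowerTriangular, Matrix.det_of_upperTriangular, ← Finset.prod_mul_distrib]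
    · refine Finset.prod_congr rfl fun k _ => ?_
      by_cases hk : (k : ℕ) < i
      · simp [st, hk, hUd, show L k k = 1 from hL.1 k]
      · simp [st, hk]
    · intro k j h
      by_cases hk : (k : ℕ) < i
      · simp [st, hk, hU k j h]
      · simp [st, hk, Matrix.one_apply_ne (ne_of_gt (show j < k from h))]
    · intro k j h
      have h' : k < j := h
      by_cases hk : (k : ℕ) < i
      · simp [st, hk, hLz k j h']
      · simp [st, hk, Matrix.one_apply_ne (ne_of_lt h')]
  have hne : ∀ i, (st (L * U) i).det ≠ 0 := fun i => by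
    rw [hstd]; exact Finset.prod_ne_zero_iff.2 fun k _ => by split_ifs <;> simp [hν]
  suffices h : ∀ i, i ≤ n → SProd i (1 + Matrix.vecMulVec u v) (st (L * U) i) by
    have h1 := h n le_rfl
    rwa [show st (L * U) n = L * U by ext k j; simp [st]] at h1
  intro i
  induction i with
  | zero => intro _; exact ⟨[], rfl, by simp, by ext k j; simp [st]⟩
  | succ i ih =>
    intro hi
    let k₀ : Fin n := ⟨i, by omega⟩
    have hB := Matrix.mul_nonsing_inv _ (isUnit_iff_ne_zero.2 (hne i))
    obtain ⟨w, hw⟩ := exists_row_factor (A := st (L * U) (i + 1)) hB k₀ (fun k hk => by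
      funext j
      have : (k : ℕ) ≠ i := fun e => hk (Fin.ext e)
      by_cases h : (k : ℕ) < i
      · simp [st, Matrix.row, h, show (k : ℕ) < i + 1 by omega]
      · simp [st, Matrix.row, h, show ¬ (k : ℕ) < i + 1 by omega])
    have hdet : 1 + w ⬝ᵥ Pi.single k₀ 1 = ν := by
      have h1 := congrArg Matrix.det hw
      rw [Matrix.det_mul, Matrix.vecMulVec_eq Unit, Matrix.det_one_add_replicateCol_mul_replicateRow, hstd, hstd] at h1
      have h2 : ∀ k : Fin n, (if (k : ℕ) < i + 1 then ν else 1) =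
          (if k = k₀ then ν else 1) * if (k : ℕ) < i then ν else 1 := fun k => by
        rcases eq_or_ne k k₀ with rfl | hk
        · simp [k₀]
        · have : (k : ℕ) ≠ i := fun e => hk (Fin.ext e)
          rw [if_neg hk, one_mul]
          exact if_congr (by omega) rfl rfl
      rw [Finset.prod_congr rfl (fun k _ => h2 k), Finset.prod_mul_distrib, Finset.prod_ite_eq' Finset.univ k₀,
        if_pos (Finset.mem_univ _)] at h1
      exact (mul_right_cancel₀ (by rw [← hstd]; exact hne i) h1).symm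
    have hw0 : w ≠ 0 := fun e => by
      subst e
      rw [zero_dotProduct, add_zero] at hdet
      refine (hrow.resolve_left (fun h => h hdet.symm)) k₀ ?_
      rw [Matrix.vecMulVec_zero, add_zero, Matrix.one_mul] at hw
      funext j
      have h1 := congrFun (congrFun hw k₀) j
      simp [st, k₀] at h1
      simp only [Matrix.row]
      rw [h1]
      simp [Matrix.one_apply, Pi.single_apply, eq_comm, k₀]
    obtain ⟨l, hl, hlx, hlp⟩ := ih (by omega)
    refine ⟨(1 + Matrix.vecMulVec (Pi.single k₀ 1) w) :: l, by simp [hl], fun a ha => ?_, by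
      rw [List.prod_cons, hlp, ← hw]⟩
    rcases List.mem_cons.1 ha with rfl | ha
    · exact ssim_rankone (by simp; omega) (by simp) hu hw0 hv (by linear_combination hdet - hc)
    · exact hlx a ha

theorem SProd.transport {k : ℕ} {x g g' : Matrix ι ι F}
    (hx : ∀ c : F, c ≠ 0 → ∃ Z : Matrix ι ι F, Z.det = c ∧ Z * x = x * Z) (hs : MSim g g') (hg : SProd k x g) :
    SProd k x g' := by
  obtain ⟨P, Q, hPQ, hQP, he⟩ := msim_iff.1 hs
  have h := hg.map P Q hPQ hQP
  rw [he, Matrix.mul_assoc g', hPQ, Matrix.mul_one] at h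
  exact h.of_ssim (ssim_of_msim hx (msim_conj x P Q hPQ))

/-- The centraliser of a rank one perturbation has every determinant. -/
theorem surj_rankone {u v : ι → F} (h3 : 3 ≤ Fintype.card ι) (hu : u ≠ 0) (hv : v ≠ 0) :
    ∀ c : F, c ≠ 0 → ∃ Z : Matrix ι ι F, Z.det = c ∧ Z * (1 + Matrix.vecMulVec u v) = (1 + Matrix.vecMulVec u v) * Z := by
  intro c hc
  obtain ⟨φ, hφ⟩ : ∃ φ : (ι → F) →ₗ[F] F, ∀ x, φ x = v ⬝ᵥ x :=
    ⟨{ toFun := fun x => v ⬝ᵥ x, map_add' := dotProduct_add v, map_smul' := fun c x => dotProduct_smul c v x },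
      fun _ => rfl⟩
  obtain ⟨z, hz, hzu⟩ : ∃ z, v ⬝ᵥ z = 0 ∧ z ∉ Submodule.span F {u} := by
    by_contra hn
    push Not at hn
    have h1 : LinearMap.ker φ ≤ Submodule.span F {u} := fun z hz => hn z (by rw [← hφ]; exact hz)
    have h2 := Submodule.finrank_mono h1
    rw [finrank_span_singleton hu] at h2
    have h4 := φ.finrank_range_add_finrank_ker
    have h5 := Submodule.finrank_le (LinearMap.range φ)
    rw [finrank_self] at h5
    rw [Module.finrank_fintype_fun_eq_card] at h4
    omega
  have hli : LinearIndependent F ![u, z] := (LinearIndependent.pair_iff' hu).2 fun a ha =>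
    hzu (Submodule.mem_span_singleton.2 ⟨a, ha⟩)
  obtain ⟨ψ, hψ⟩ := exists_functional hli ![0, c - 1]
  obtain ⟨r, hr⟩ := exists_row ψ
  refine ⟨1 + Matrix.vecMulVec z r, ?_, ?_⟩
  · rw [Matrix.vecMulVec_eq Unit, Matrix.det_one_add_replicateCol_mul_replicateRow, hr, show ψ z = c - 1 from hψ 1]
    ring
  · have h1 : r ⬝ᵥ u = 0 := by rw [hr]; exact hψ 0
    have e1 : Matrix.vecMulVec z r * Matrix.vecMulVec u v = 0 := by
      rw [Matrix.vecMulVec_mul_vecMulVec, h1, zero_smul, Matrix.vecMulVec_zero]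
    have e2 : Matrix.vecMulVec u v * Matrix.vecMulVec z r = 0 := by
      rw [Matrix.vecMulVec_mul_vecMulVec, hz, zero_smul, Matrix.vecMulVec_zero]
    simp only [Matrix.add_mul, Matrix.mul_add, Matrix.one_mul, Matrix.mul_one, e1, e2]
    abel

/-- **Residual rank one**: every nonscalar target, and one scalar. -/
theorem sprod_rankone [Fintype F] (hq : 4 ≤ Fintype.card F) (hn : 3 ≤ n) {u v : Fin n → F} (hu : u ≠ 0) (hv : v ≠ 0)
    {ν : F} (hν : ν ≠ 0) (hc : 1 + v ⬝ᵥ u = ν) (g : Matrix (Fin n) (Fin n) F)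
    (hg : NS g ∨ g = ν • 1) (hd : g.det = ν ^ n) : SProd n (1 + Matrix.vecMulVec u v) g := by
  classical
  have hF : 4 ≤ Cardinal.mk F := by rw [Cardinal.mk_fintype]; exact_mod_cast hq
  set T := Matrix.toLin' (ν⁻¹ • g) - 1 with hTdef
  have hT : Matrix.toLin' (ν⁻¹ • g) = 1 + T := by simp [T]
  have hgν : g = ν • (ν⁻¹ • g) := by rw [smul_smul, mul_inv_cancel₀ hν, one_smul]
  have hup : (∀ x, T (T x) = 0) → ν ≠ 1 → SProd n (1 + Matrix.vecMulVec u v) g := by
    intro h2 hν1
    obtain ⟨b, hb⟩ := exists_upper_basis T h2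
    have h := sprod_of_triangular hn hu hv hν hc (L := 1)
      (U := ν • LinearMap.toMatrix b b (1 + T)) (by rw [Matrix.transpose_one]; exact ⟨fun i => Matrix.one_apply_eq i,
        fun i j h => Matrix.one_apply_ne (ne_of_gt h)⟩) (fun i j h => by rw [Matrix.smul_apply, hb.2 i j h, smul_zero])
      (fun i => by rw [Matrix.smul_apply, hb.1 i, smul_eq_mul, mul_one]) (Or.inl hν1)
    refine SProd.transport (surj_rankone (by simp; omega) hu hv) ?_ h
    rw [Matrix.one_mul, hgν, ← hT]
    exact MSim.smul ν (toMatrix_conj b _)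
  by_cases h2 : ∀ x, T (T x) = 0
  · rcases eq_or_ne ν 1 with rfl | hν1
    · have hgg : g = 1 + (g - 1) := by abel
      rw [hgg]
      refine sprod_square_zero hq hn hu hv (by linear_combination hc) (Matrix.toLin'.injective ?_)
      rw [map_zero, Matrix.toLin'_mul, map_sub, Matrix.toLin'_one]
      refine LinearMap.ext fun x => ?_
      have := h2 x
      rw [hTdef, inv_one, one_smul] at this
      simpa using this
    · exact hup h2 hν1
  · rcases hg with hg | hg
    · push Not at h2
      obtain ⟨m, rfl⟩ : ∃ m, n = m + 1 := ⟨n - 1, by omega⟩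
      have hdetT : LinearMap.det (1 + T) = 1 := by
        rw [← hT, LinearMap.det_toLin', Matrix.det_smul, hd, Fintype.card_fin, ← mul_pow, inv_mul_cancel₀ hν, one_pow]
      have hns : ∀ γ : F, ∃ x, T x ≠ γ • x := by
        intro γ
        by_contra hh
        push Not at hh
        refine hg (ν * (1 + γ)) ?_
        rw [mul_smul]
        conv_lhs => rw [hgν]
        congr 1
        refine Matrix.toLin'.injective (LinearMap.ext fun x => ?_)
        rw [hT, map_smul, Matrix.toLin'_one]
        simp [hh x, add_smul]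
      obtain ⟨b, L, U, hL, hU, hLU, -⟩ := factors hF m (Module.finrank_fin_fun F) T hdetT (fun _ => ⟨h2, hns⟩)
        (Pi.single 0 1) (LinearMap.proj 0) (by simp) (fun h => by simpa using LinearMap.congr_fun h (Pi.single 0 1))
      have h := sprod_of_triangular hn hu hv hν hc (L := L) (U := ν • U) hL.1
        (fun i j h => by rw [Matrix.smul_apply, hU.1.2 i j h, smul_zero])
        (fun i => by rw [Matrix.smul_apply, hU.1.1 i, smul_eq_mul, mul_one]) (by
          rcases eq_or_ne ν 1 with rfl | hν1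
          · refine Or.inr fun i hi => ?_
            rw [one_smul] at hi
            have hUd : IsUnit U.det := by rw [det_upperUni hU.1]; exact isUnit_one
            have hLi : L.row i = U⁻¹.row i := by
              have h1 := congrArg (fun z => z ᵥ* U⁻¹) hi
              simp only [← Matrix.single_one_vecMul i (L * U), Matrix.vecMul_vecMul, Matrix.mul_assoc,
                Matrix.mul_nonsing_inv _ hUd, Matrix.mul_one] at h1
              rw [Matrix.single_one_vecMul, Matrix.single_one_vecMul] at h1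
              exact h1
            have hLi' : ∀ j, j ≠ i → L i j = 0 := fun j hj => by
              rcases lt_or_gt_of_ne hj with h | h
              · exact (congrFun hLi j).trans ((Cfsg.Agent.RegUnip.upperUni_inv hU.1).2 i j h)
              · exact hL.1.2 j i h
            rcases Nat.eq_zero_or_pos (i : ℕ) with h0 | h0
            · have hi1 : (i : ℕ) + 1 < m + 1 := by omega
              refine hU.2 i ⟨(i : ℕ) + 1, hi1⟩ rfl ?_
              have h1 := congrFun hi ⟨(i : ℕ) + 1, hi1⟩
              simp only [Matrix.row, Matrix.mul_apply] at h1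
              rw [Finset.sum_eq_single i (fun b _ hb => by rw [hLi' b hb, zero_mul]) (by simp),
                show L i i = 1 from hL.1.1 i, one_mul] at h1
              rw [h1, Pi.single_eq_of_ne]
              exact fun e => by have := congrArg Fin.val e; simp at this
            · exact hL.2 ⟨(i : ℕ) - 1, by omega⟩ i (by simp; omega)
                (hLi' _ (fun e => by have := congrArg Fin.val e; simp at this; omega))
          · exact Or.inl hν1)
      refine SProd.transport (surj_rankone (by simp; omega) hu hv) ?_ h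
      rw [Matrix.mul_smul, ← hLU, hgν, ← hT]
      exact MSim.smul ν (toMatrix_conj b _)
    · refine absurd (fun x => ?_) h2
      rw [hTdef, hg, smul_smul, inv_mul_cancel₀ hν, one_smul, Matrix.toLin'_one]
      simp

end Cfsg.Lib.Linear.PSLCover
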