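import Cfsg.Agent.Lib.Linear.PSLCover.Pivot

/-!
# Products of conjugates by matrices of determinant one

Covers by conjugates of determinant-one similarity, with the spreading condition on the factors that
lets a block be glued below them.
-/

set_option autoImplicit false
set_option linter.unusedSectionVars false
set_option linter.unusedSimpArgs false

universe u

namespace Cfsg.Lib.Linear.PSLCover

open scoped Matrix

variable {F : Type u} [Field F]
variable {ι κ : Type} [Fintype ι] [DecidableEq ι] [Fintype κ] [DecidableEq κ]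

/-- Conjugate by a matrix of determinant one. -/
def SSim (A B : Matrix ι ι F) : Prop := ∃ P Q : Matrix ι ι F, P * Q = 1 ∧ P.det = 1 ∧ A = P * B * Q

theorem SSim.refl (A : Matrix ι ι F) : SSim A A := ⟨1, 1, Matrix.one_mul _, Matrix.det_one, by simp⟩

theorem SSim.symm {A B : Matrix ι ι F} (h : SSim A B) : SSim B A := by
  obtain ⟨P, Q, hPQ, hd, rfl⟩ := h
  have hQP := mul_eq_one_comm.1 hPQ
  refine ⟨Q, P, hQP, ?_, ?_⟩
  · simpa [hd] using congrArg Matrix.det hPQ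
  · simp only [Matrix.mul_assoc]
    rw [hQP, Matrix.mul_one, ← Matrix.mul_assoc, hQP, Matrix.one_mul]

theorem SSim.trans {A B C : Matrix ι ι F} (h : SSim A B) (h' : SSim B C) : SSim A C := by
  obtain ⟨P, Q, hPQ, hd, rfl⟩ := h
  obtain ⟨R, S, hRS, hd', rfl⟩ := h'
  refine ⟨P * R, S * Q, ?_, by rw [Matrix.det_mul, hd, hd', mul_one], by simp only [Matrix.mul_assoc]⟩
  rw [Matrix.mul_assoc, ← Matrix.mul_assoc R, hRS, Matrix.one_mul, hPQ]

theorem SSim.msim {A B : Matrix ι ι F} (h : SSim A B) : MSim A B := by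
  obtain ⟨P, Q, hPQ, -, rfl⟩ := h
  exact msim_conj B P Q hPQ

theorem SSim.det_eq {A B : Matrix ι ι F} (h : SSim A B) : A.det = B.det := h.msim.det_eq

theorem SSim.smul {A B : Matrix ι ι F} (c : F) (h : SSim A B) : SSim (c • A) (c • B) := by
  obtain ⟨P, Q, hPQ, hd, rfl⟩ := h
  exact ⟨P, Q, hPQ, hd, by rw [Matrix.mul_smul, Matrix.smul_mul]⟩

theorem ssim_inv {A A' B B' : Matrix ι ι F} (hA : A * A' = 1) (hB : B * B' = 1) (h : SSim A B) : SSim A' B' := by
  obtain ⟨P, Q, hPQ, hd, rfl⟩ := h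
  have hQP := mul_eq_one_comm.1 hPQ
  refine ⟨P, Q, hPQ, hd, ?_⟩
  have h1 : P * B * Q * (P * B' * Q) = 1 := by
    simp only [Matrix.mul_assoc]
    rw [← Matrix.mul_assoc Q P, hQP, Matrix.one_mul, ← Matrix.mul_assoc B B', hB, Matrix.one_mul, hPQ]
  calc A' = A' * (P * B * Q * (P * B' * Q)) := by rw [h1, Matrix.mul_one]
    _ = P * B' * Q := by rw [← Matrix.mul_assoc, mul_eq_one_comm.1 hA, Matrix.one_mul]

/-- Similarity, with a centraliser of every determinant, is similarity of determinant one. -/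
theorem ssim_of_msim {A B : Matrix ι ι F} (hB : ∀ c : F, c ≠ 0 → ∃ Z : Matrix ι ι F, Z.det = c ∧ Z * B = B * Z)
    (h : MSim A B) : SSim A B := by
  obtain ⟨P, Q, hPQ, hQP, rfl⟩ := h.exists_conj
  have h1 : P.det * Q.det = 1 := by rw [← Matrix.det_mul, hPQ, Matrix.det_one]
  obtain ⟨Z, hZ, hZB⟩ := hB Q.det (right_ne_zero_of_mul_eq_one h1)
  have hu : IsUnit Z.det := by rw [hZ]; exact isUnit_iff_ne_zero.2 (right_ne_zero_of_mul_eq_one h1)
  refine ⟨P * Z, Z⁻¹ * Q, ?_, by rw [Matrix.det_mul, hZ, h1], ?_⟩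
  · rw [Matrix.mul_assoc, ← Matrix.mul_assoc Z, Matrix.mul_nonsing_inv _ hu, Matrix.one_mul, hPQ]
  · simp only [Matrix.mul_assoc]
    rw [← Matrix.mul_assoc Z B, hZB, Matrix.mul_assoc B Z, ← Matrix.mul_assoc Z, Matrix.mul_nonsing_inv _ hu,
      Matrix.one_mul]

theorem surj_of_msim {A : Matrix ι ι F} {B : Matrix κ κ F} (h : MSim A B)
    (hB : ∀ c : F, c ≠ 0 → ∃ Z : Matrix κ κ F, Z.det = c ∧ Z * B = B * Z) :
    ∀ c : F, c ≠ 0 → ∃ Z : Matrix ι ι F, Z.det = c ∧ Z * A = A * Z := fun c hc => by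
  obtain ⟨P, Q, hPQ, hQP, he⟩ := msim_iff.1 h
  obtain ⟨Z, hZ, hZB⟩ := hB c hc
  refine ⟨Q * Z * P, ?_, ?_⟩
  · rw [← hZ]
    exact (msim_iff.2 ⟨P, Q, hPQ, hQP, by rw [← Matrix.mul_assoc, ← Matrix.mul_assoc, hPQ, Matrix.one_mul]⟩ :
      MSim (Q * Z * P) Z).det_eq
  · have hA : A = Q * B * P := by rw [Matrix.mul_assoc, ← he, ← Matrix.mul_assoc, hQP, Matrix.one_mul]
    rw [hA]
    simp only [Matrix.mul_assoc]
    rw [← Matrix.mul_assoc P Q, hPQ, Matrix.one_mul, ← Matrix.mul_assoc Z B, hZB, ← Matrix.mul_assoc P Q, hPQ,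
      Matrix.one_mul, Matrix.mul_assoc B Z]

theorem exists_isT {ζ : F} (hζ : ζ ≠ 0) : ∀ (S : List F) (k : ℕ), S.Nodup → ζ ∉ S →
    ∃ (n : ℕ) (M : Matrix (Fin n) (Fin n) F), IsT ζ k S M
  | [], k, _, _ => ⟨k, _, isT_smul_uni (jMat_upperUni k) hζ (jMat_ker k)⟩
  | t :: S, k, hnd, hmem => by
    obtain ⟨ht, hnd'⟩ := List.nodup_cons.1 hnd
    obtain ⟨n, M, hM⟩ := exists_isT hζ S k hnd' (fun h => hmem (List.mem_cons_of_mem _ h))
    exact ⟨_, _, (hM.cons_lower ht (fun e => hmem (e ▸ List.mem_cons_self)) 0).of_msim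
      (msim_reindex (Fintype.equivFin _) _)⟩

/-- A simple eigenvalue gives centralisers of every determinant. -/
theorem IsT.surj {ζ t : F} (hζ : ζ ≠ 0) {k : ℕ} {S : List F} {A : Matrix ι ι F} (hA : IsT ζ k (t :: S) A) :
    ∀ c : F, c ≠ 0 → ∃ Z : Matrix ι ι F, Z.det = c ∧ Z * A = A * Z := by
  obtain ⟨ht, hnd'⟩ := List.nodup_cons.1 hA.nodup
  obtain ⟨n, M, hM⟩ := exists_isT hζ S k hnd' (fun h => hA.notMem (List.mem_cons_of_mem _ h))
  refine surj_of_msim (hA.msim (hM.cons_lower ht (fun e => hA.notMem (e ▸ List.mem_cons_self)) 0)) fun c _ => ?_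
  refine ⟨Matrix.fromBlocks (c • 1) 0 0 1, ?_, ?_⟩
  · rw [Matrix.det_fromBlocks_zero₂₁, Matrix.det_one, mul_one, Matrix.det_smul, Matrix.det_one, Fintype.card_unit,
      pow_one, mul_one]
  · simp [Matrix.fromBlocks_multiply, smul_smul, mul_comm]

theorem IsT.ssim {ζ t : F} (hζ : ζ ≠ 0) {k : ℕ} {S : List F} {A B : Matrix ι ι F} (hA : IsT ζ k (t :: S) A)
    (hB : IsT ζ k (t :: S) B) : SSim A B :=
  ssim_of_msim (hB.surj hζ) (hA.msim hB)

/-! ### Lists of factors -/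

/-- No nonzero invariant space of row vectors on which all factors agree. -/
def Spread (l : List (Matrix ι ι F)) : Prop :=
  ∀ K : Submodule F (ι → F), (∀ a ∈ l, ∀ w ∈ K, w ᵥ* a ∈ K) →
    (∀ a ∈ l, ∀ b ∈ l, ∀ w ∈ K, w ᵥ* a = w ᵥ* b) → K = ⊥

theorem Spread.mono {l l' : List (Matrix ι ι F)} (h : Spread l) (hs : ∀ a ∈ l, a ∈ l') : Spread l' :=
  fun K h1 h2 => h K (fun a ha => h1 a (hs a ha)) (fun a ha b hb => h2 a (hs a ha) b (hs b hb))

theorem spread_pair {a b : Matrix ι ι F} (h : ∀ w : ι → F, w ᵥ* (a - b) = 0 → w = 0) : Spread [a, b] :=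
  fun K _ he => (Submodule.eq_bot_iff K).2 fun w hw => h w (by
    rw [Matrix.vecMul_sub, he a (by simp) b (by simp) w hw, sub_self])

theorem spread_pair_of_det {a b : Matrix ι ι F} (h : (a - b).det ≠ 0) : Spread [a, b] :=
  spread_pair fun w hw => by
    by_contra h0
    exact h (Matrix.exists_vecMul_eq_zero_iff.1 ⟨w, h0, hw⟩)

theorem Spread.map {l : List (Matrix ι ι F)} (h : Spread l) (P : Matrix κ ι F) (Q : Matrix ι κ F) (hPQ : P * Q = 1)
    (hQP : Q * P = 1) : Spread (l.map fun a => P * a * Q) := by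
  intro K hinv heq
  have hmem : ∀ a ∈ l, P * a * Q ∈ l.map fun a => P * a * Q := fun a ha => List.mem_map.2 ⟨a, ha, rfl⟩
  have key : ∀ (w : ι → F) (a : Matrix ι ι F), (w ᵥ* a) ᵥ* Q = (w ᵥ* Q) ᵥ* (P * a * Q) := fun w a => by
    rw [Matrix.vecMul_vecMul, Matrix.vecMul_vecMul, ← Matrix.mul_assoc, ← Matrix.mul_assoc, hQP, Matrix.one_mul]
  have inj : ∀ u v : ι → F, u ᵥ* Q = v ᵥ* Q → u = v := fun u v he => by
    have := congrArg (fun z => z ᵥ* P) he
    simpa [Matrix.vecMul_vecMul, hQP] using this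
  have hK := h (K.comap Q.vecMulLinear) (fun a ha w hw => by
      show (w ᵥ* a) ᵥ* Q ∈ K
      rw [key]
      exact hinv _ (hmem a ha) _ hw)
    (fun a ha b hb w hw => inj _ _ (by rw [key, key]; exact heq _ (hmem a ha) _ (hmem b hb) _ hw))
  refine (Submodule.eq_bot_iff K).2 fun w hw => ?_
  have : w ᵥ* P ∈ K.comap Q.vecMulLinear := by
    show (w ᵥ* P) ᵥ* Q ∈ K
    rwa [Matrix.vecMul_vecMul, hPQ, Matrix.vecMul_one]
  rw [hK, Submodule.mem_bot] at this
  rw [← Matrix.vecMul_one w, ← hPQ, ← Matrix.vecMul_vecMul, this, Matrix.zero_vecMul]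

/-- `g` is the product of `k` conjugates of determinant one of `x`. -/
def SProd (k : ℕ) (x g : Matrix ι ι F) : Prop :=
  ∃ l : List (Matrix ι ι F), l.length = k ∧ (∀ a ∈ l, SSim a x) ∧ l.prod = g

theorem SProd.append {j k : ℕ} {x g g' : Matrix ι ι F} (hg : SProd j x g) (hg' : SProd k x g') :
    SProd (j + k) x (g * g') := by
  obtain ⟨l, hl, hx, hp⟩ := hg
  obtain ⟨l', hl', hx', hp'⟩ := hg'
  exact ⟨l ++ l', by simp [hl, hl'], fun a ha => (List.mem_append.1 ha).elim (hx a) (hx' a),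
    by rw [List.prod_append, hp, hp']⟩

theorem sprod_one {x g : Matrix ι ι F} (h : SSim g x) : SProd 1 x g :=
  ⟨[g], rfl, fun a ha => by simp at ha; exact ha ▸ h, by simp⟩

theorem ssim_map {a x : Matrix ι ι F} (P : Matrix κ ι F) (Q : Matrix ι κ F) (hPQ : P * Q = 1) (hQP : Q * P = 1)
    (h : SSim a x) : SSim (P * a * Q) (P * x * Q) := by
  obtain ⟨R, S, hRS, hd, rfl⟩ := h
  refine ⟨P * R * Q, P * S * Q, ?_, ?_, ?_⟩
  · simp only [Matrix.mul_assoc]
    rw [← Matrix.mul_assoc Q P, hQP, Matrix.one_mul, ← Matrix.mul_assoc R, hRS, Matrix.one_mul, hPQ]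
  · rw [← hd]
    exact (msim_iff.2 ⟨Q, P, hQP, hPQ, by rw [← Matrix.mul_assoc, ← Matrix.mul_assoc, hQP, Matrix.one_mul]⟩ :
      MSim (P * R * Q) R).det_eq
  · simp only [Matrix.mul_assoc]
    rw [← Matrix.mul_assoc Q P, hQP, Matrix.one_mul, ← Matrix.mul_assoc Q P, hQP, Matrix.one_mul]

theorem SProd.map {k : ℕ} {x g : Matrix ι ι F} (P : Matrix κ ι F) (Q : Matrix ι κ F) (hPQ : P * Q = 1)
    (hQP : Q * P = 1) (hg : SProd k x g) : SProd k (P * x * Q) (P * g * Q) := by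
  obtain ⟨l, hl, hx, hp⟩ := hg
  refine ⟨l.map fun a => P * a * Q, by simp [hl], fun b hb => ?_, by rw [prod_map_conj P Q hPQ hQP, hp]⟩
  obtain ⟨a, ha, rfl⟩ := List.mem_map.1 hb
  exact ssim_map P Q hPQ hQP (hx a ha)

theorem SProd.of_ssim {k : ℕ} {x y g : Matrix ι ι F} (h : SSim x y) (hg : SProd k x g) : SProd k y g := by
  obtain ⟨l, hl, hx, hp⟩ := hg
  exact ⟨l, hl, fun a ha => (hx a ha).trans h, hp⟩

/-- Every nonscalar matrix of the right determinant is a spread product. -/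
def Cov (k : ℕ) (x : Matrix ι ι F) : Prop :=
  ∀ g : Matrix ι ι F, NS g → g.det = x.det ^ k →
    ∃ l : List (Matrix ι ι F), l.length = k ∧ (∀ a ∈ l, SSim a x) ∧ l.prod = g ∧ Spread l

theorem Cov.sprod {k : ℕ} {x g : Matrix ι ι F} (h : Cov k x) (hg : NS g) (hd : g.det = x.det ^ k) : SProd k x g := by
  obtain ⟨l, hl, hx, hp, -⟩ := h g hg hd
  exact ⟨l, hl, hx, hp⟩

theorem Cov.of_msim {k : ℕ} {x : Matrix ι ι F} {y : Matrix κ κ F} (hx : Cov k x) (h : MSim x y) : Cov k y := by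
  obtain ⟨P, Q, hPQ, hQP, he⟩ := msim_iff.1 h
  intro g hg hd
  have hy : y = P * x * Q := by rw [he, Matrix.mul_assoc, hPQ, Matrix.mul_one]
  have hgg : MSim g (Q * g * P) :=
    msim_iff.2 ⟨Q, P, hQP, hPQ, by rw [Matrix.mul_assoc (Q * g), hPQ, Matrix.mul_one]⟩
  obtain ⟨l, hl, hlx, hp, hs⟩ := hx (Q * g * P) (hg.of_msim hgg) (by rw [← hgg.det_eq, hd, ← h.det_eq])
  refine ⟨l.map fun a => P * a * Q, by simp [hl], fun b hb => ?_, ?_, hs.map P Q hPQ hQP⟩
  · obtain ⟨a, ha, rfl⟩ := List.mem_map.1 hb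
    rw [hy]
    exact ssim_map P Q hPQ hQP (hlx a ha)
  · rw [prod_map_conj P Q hPQ hQP, hp]
    simp only [Matrix.mul_assoc]
    rw [hPQ, Matrix.mul_one, ← Matrix.mul_assoc, hPQ, Matrix.one_mul]

/-- One member of the class leaves a nonscalar matrix. -/
theorem exists_srest {x : Matrix ι ι F} (hx : x.det ≠ 0) (hns : NS x) {g : Matrix ι ι F} (hg : g.det ≠ 0) :
    ∃ h h' : Matrix ι ι F, SSim h x ∧ h * h' = 1 ∧ NS (g * h') := by
  have hx' : x * x⁻¹ = 1 := Matrix.mul_nonsing_inv _ (isUnit_iff_ne_zero.2 hx)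
  by_cases hsc : NS (g * x⁻¹)
  · exact ⟨x, x⁻¹, SSim.refl x, hx', hsc⟩
  simp only [NS, not_forall, not_not] at hsc
  obtain ⟨c, hc⟩ := hsc
  obtain ⟨P, Q, hPQ, hP, hne⟩ := hns.exists_conj_ne
  have hQP := mul_eq_one_comm.1 hPQ
  refine ⟨P * x * Q, P * x⁻¹ * Q, ⟨P, Q, hPQ, hP, rfl⟩, ?_, fun d hd => ?_⟩
  · simp only [Matrix.mul_assoc]
    rw [← Matrix.mul_assoc Q P, hQP, Matrix.one_mul, ← Matrix.mul_assoc x, hx', Matrix.one_mul, hPQ]
  · have hgx : g = c • x := by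
      have := congrArg (fun M => M * x) hc
      simpa [Matrix.mul_assoc, mul_eq_one_comm.1 hx'] using this
    have hgy : g = d • (P * x * Q) := by
      have := congrArg (fun M => M * (P * x * Q)) hd
      simp only [Matrix.mul_assoc, Matrix.smul_mul, Matrix.one_mul] at this
      rw [← Matrix.mul_assoc Q P, hQP, Matrix.one_mul, ← Matrix.mul_assoc x⁻¹ x, mul_eq_one_comm.1 hx',
        Matrix.one_mul, hPQ, Matrix.mul_one, ← Matrix.mul_assoc] at this
      exact this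
    rcases eq_or_ne d 0 with rfl | hd0
    · rcases isEmpty_or_nonempty ι with hι | ⟨⟨i⟩⟩
      · exact hns 1 (Subsingleton.elim _ _)
      · exact hg (by rw [hgy, zero_smul, Matrix.det_eq_zero_of_row_eq_zero i (fun _ => rfl)])
    · exact hne (d⁻¹ * c) (by rw [mul_smul, ← hgx, hgy, inv_smul_smul₀ hd0])

/-- Padding. -/
theorem Cov.succ {k : ℕ} {x : Matrix ι ι F} (hx : Cov k x) (hd : x.det ≠ 0) (hns : NS x) : Cov (k + 1) x := by
  intro g hg hgd
  obtain ⟨h, h', hh, hhh', hN⟩ := exists_srest hd hns (g := g) (by rw [hgd]; exact pow_ne_zero _ hd)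
  have h1 : h.det * h'.det = 1 := by rw [← Matrix.det_mul, hhh', Matrix.det_one]
  obtain ⟨l, hl, hlx, hp, hs⟩ := hx (g * h') hN (by
    have : x.det * h'.det = 1 := by rwa [hh.det_eq] at h1
    rw [Matrix.det_mul, hgd, pow_succ, mul_assoc, this, mul_one])
  refine ⟨l ++ [h], by simp [hl], fun a ha => ?_, ?_, hs.mono fun a ha => List.mem_append_left _ ha⟩
  · rcases List.mem_append.1 ha with ha | ha
    · exact hlx a ha
    · simp at ha; exact ha ▸ hh
  · rw [List.prod_append, hp, List.prod_singleton, Matrix.mul_assoc, mul_eq_one_comm.1 hhh', Matrix.mul_one]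

theorem Cov.le {k j : ℕ} {x : Matrix ι ι F} (hx : Cov k x) (hd : x.det ≠ 0) (hns : NS x) (h : k ≤ j) : Cov j x := by
  induction j, h using Nat.le_induction with
  | base => exact hx
  | succ j _ ih => exact ih.succ hd hns

end Cfsg.Lib.Linear.PSLCover
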