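import Cfsg.Agent.Lib.Linear.PSLCover.OneSteps

/-!
# The identity is a product of `n` conjugates
-/

set_option autoImplicit false
set_option linter.unusedSectionVars false
set_option linter.unusedSimpArgs false

universe u

namespace Cfsg.Lib.Linear.PSLCover

open Module Polynomial
open Cfsg.Lib.Linear.SLComm (dv)
open scoped Matrix

variable {F : Type u} [Field F]

theorem exists_factor_lam {f : F[X]} (hf : f.Monic) {k : ℕ} (hk : f.natDegree = k + 1) {lam : F} (hr : f.eval lam = 0) :
    ∃ g : F[X], g.Monic ∧ g.natDegree = k ∧ f = (X - C lam) * g := by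
  obtain ⟨g, rfl⟩ := dvd_iff_isRoot.2 hr
  have hg : g.Monic := (monic_X_sub_C lam).of_mul_monic_left hf
  refine ⟨g, hg, ?_, rfl⟩
  rw [(monic_X_sub_C lam).natDegree_mul hg, natDegree_X_sub_C] at hk
  omega

theorem exists_eq_linear {g : F[X]} (hg : g.Monic) (h : g.natDegree = 1) : ∃ a, g = X - C a :=
  ⟨-g.coeff 0, by rw [map_neg, sub_neg_eq_add]; exact hg.eq_X_add_C h⟩

theorem coprime_lam {g : F[X]} {lam : F} (h : g.eval lam ≠ 0) : IsCoprime (X - C lam) g :=
  (irreducible_X_sub_C lam).coprime_iff_not_dvd.2 fun hd => h (dvd_iff_isRoot.1 hd)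

theorem coprime_lin {a b : F} (h : a ≠ b) : IsCoprime (X - C a) (X - C b) :=
  coprime_lam (by simpa [sub_eq_zero] using h)

theorem blk_two (f g : F[X]) {a b : ℕ} (ha : f.natDegree = a) (hb : g.natDegree = b) :
    MSim (blk [f, g]) (Matrix.fromBlocks (SLComm.comp f a) 0 0 (SLComm.comp g b)) :=
  (msim_blk_two f [g] ha).trans (msim_blocks (MSim.refl _) (msim_blk_singleton hb))

theorem dv_X_sub_C (a : F) : dv (X - C a) = a := by simp [dv, natDegree_X_sub_C]

/-- Linear members of a chain are all the same. -/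
theorem exists_replicate {L R : List F[X]} (hL : ∀ g ∈ L, g.Monic ∧ 1 ≤ g.natDegree)
    (hchain : ∀ f ∈ L, ∀ g ∈ L, g.natDegree ≤ f.natDegree → g ∣ f) (hsub : ∀ g ∈ R, g ∈ L)
    (hR : ∀ g ∈ R, g.natDegree = 1) (hne : R ≠ []) :
    ∃ lam : F, R = List.replicate R.length (X - C lam) ∧ (X - C lam) ∈ L := by
  obtain ⟨l, R', rfl⟩ := List.exists_cons_of_ne_nil hne
  obtain ⟨lam, rfl⟩ := exists_eq_linear (hL l (hsub l List.mem_cons_self)).1 (hR l List.mem_cons_self)
  have hl := hsub _ (List.mem_cons_self (a := X - C lam) (l := R'))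
  exact ⟨lam, List.eq_replicate_iff.2 ⟨rfl, fun g hg => Polynomial.eq_of_monic_of_dvd_of_natDegree_le
    (monic_X_sub_C lam) (hL g (hsub g hg)).1 (hchain g (hsub g hg) _ hl (by rw [hR g hg, natDegree_X_sub_C]))
    (by rw [hR g hg, natDegree_X_sub_C])⟩, hl⟩

variable [Fintype F]

/-- A cubic block with a root and the root. -/
theorem sprod_one_cubic_lam (hF : 4 ≤ Fintype.card F) {x : Matrix (Fin 4) (Fin 4) F} (hd : x.det = 1) {f : F[X]}
    (hf : f.Monic) (hfd : f.natDegree = 3) (h0 : f.coeff 0 ≠ 0) {lam : F} (hr : f.eval lam = 0)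
    (hx : MSim x (blk [f, X - C lam])) : SProd 4 x ((1 : F) • 1) := by
  have hsim : MSim x (Matrix.fromBlocks (SLComm.comp f 3) 0 0 (lam • 1 : Matrix Unit Unit F)) :=
    hx.trans ((blk_two f _ hfd (natDegree_X_sub_C lam)).trans (msim_blocks (MSim.refl _) (msim_comp_one lam)))
  rcases cubic_cases hf hfd with ⟨a, q, hq, hqd, hqa, rfl⟩ | hi | ⟨β, rfl⟩
  · have h2 : MSim (Matrix.fromBlocks (a • 1 : Matrix Unit Unit F) 0 0 (lam • 1 : Matrix Unit Unit F))
        (Matrix.diagonal ![a, lam]) := by
      let e : Unit ⊕ Unit ≃ Fin 2 := (Equiv.sumCongr finOneEquiv.symm finOneEquiv.symm).trans finSumFinEquiv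
      convert msim_reindex e (Matrix.fromBlocks (a • 1 : Matrix Unit Unit F) 0 0 (lam • 1)) using 1
      rw [Matrix.smul_one_eq_diagonal, Matrix.smul_one_eq_diagonal, Matrix.fromBlocks_diagonal, Matrix.reindex_apply,
        Matrix.submatrix_diagonal_equiv]
      congr 1
      funext i
      fin_cases i <;> rfl
    have hs : MSim x (Matrix.fromBlocks (SLComm.comp q 2) 0 0 (Matrix.diagonal ![a, lam])) :=
      hsim.trans ((msim_blocks ((msim_comp_root hq hqd hqa).trans (msim_blocks_comm _ _)) (MSim.refl _)).trans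
        ((msim_blocks_assoc _ _ _).trans (msim_blocks (MSim.refl _) h2)))
    refine SProd.of_msim 1 hs.symm (sprod_pairs (surj_right _ (surj_diagonal _)) ?_)
    rw [← Matrix.det_fromBlocks_zero₂₁, ← hs.det_eq, hd]
  · have := degree_eq_one_of_irreducible_of_root hi hr
    rw [degree_eq_natDegree hf.ne_zero, hfd] at this
    norm_cast at this
  · obtain rfl : β = lam := by
      have : (lam - β) ^ 3 = 0 := by simpa using hr
      exact (sub_eq_zero.1 (pow_eq_zero_iff (by norm_num) |>.1 this)).symm
    have hC : (SLComm.comp ((X - C β) ^ 3) 3).det = β ^ 3 := by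
      rw [comp_det hf hfd, dv, hfd]; simp [Polynomial.coeff_zero_eq_eval_zero]; ring
    have hβ : β ^ 4 = 1 := by
      rw [← hd, hsim.det_eq, Matrix.det_fromBlocks_zero₂₁, hC]; simp; ring
    exact SProd.of_msim 1 hsim.symm (sprod_blocks
      (sprod_one_of_cov (j := 3) (cov_three hF hf hfd h0) (ns_comp (by norm_num)) le_rfl
        (by rw [hC, ← pow_mul, show 3 * (3 + 1) = 4 * 3 by rfl, pow_mul, hβ, one_pow]))
      (sprod_scalar_one hβ))

/-- A quartic block with a root and the root. -/
theorem sprod_one_quartic_lam (hF : 4 ≤ Fintype.card F) {x : Matrix (Fin 5) (Fin 5) F} (hd : x.det = 1) {f : F[X]}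
    (hf : f.Monic) (hfd : f.natDegree = 4) (h0 : f.coeff 0 ≠ 0) {lam : F} (hr : f.eval lam = 0)
    (hx : MSim x (blk [f, X - C lam])) : SProd 5 x ((1 : F) • 1) := by
  have hl : (X - C lam).Monic ∧ (X - C lam).natDegree = 1 := ⟨monic_X_sub_C lam, natDegree_X_sub_C lam⟩
  obtain ⟨g, hg, hgd, rfl⟩ := exists_factor_lam hf hfd hr
  by_cases hgl : g.eval lam = 0
  swap
  · refine sprod_one_lam_lam (lam := lam) (f := g) (R := []) (L := [X - C lam, g, X - C lam]) hF (fun p hp => ?_)
      (hx.trans (blk_merge hl.1 hg (coprime_lam hgl) [X - C lam])) hd ((List.Perm.swap _ _ []).cons _) (by omega)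
    simp only [List.mem_cons, List.not_mem_nil, or_false] at hp
    rcases hp with rfl | rfl | rfl
    exacts [⟨hl.1, hl.2.ge⟩, ⟨hg, by omega⟩, ⟨hl.1, hl.2.ge⟩]
  obtain ⟨h, hh, hhd, rfl⟩ := exists_factor_lam hg hgd hgl
  by_cases hhl : h.eval lam = 0
  swap
  · -- a double root: the quotient takes the single root
    have hc : IsCoprime ((X - C lam) * (X - C lam)) h := (coprime_lam hhl).mul_left (coprime_lam hhl)
    have hsim : MSim x (blk [h * (X - C lam), (X - C lam) * (X - C lam)]) := by
      rw [← mul_assoc] at hx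
      refine hx.trans ((blk_merge (hl.1.mul hl.1) hh hc [X - C lam]).trans ?_)
      refine (blk_perm ?_).trans (blk_merge hh hl.1 (coprime_lam hhl).symm [(X - C lam) * (X - C lam)]).symm
      exact (List.Perm.swap _ _ _).trans ((List.Perm.swap _ _ _).cons _)
    refine sprod_one_quad (q := (X - C lam) * (X - C lam)) (f := h * (X - C lam)) (R := []) hF (fun p hp => ?_) hsim hd
      (List.Perm.swap _ _ []) (by rw [hl.1.natDegree_mul hl.1, hl.2]) (by rw [hh.natDegree_mul hl.1, hhd, hl.2])
    simp only [List.mem_cons, List.not_mem_nil, or_false] at hp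
    rcases hp with rfl | rfl
    exacts [⟨hh.mul hl.1, by rw [hh.natDegree_mul hl.1]; omega⟩, ⟨hl.1.mul hl.1, by rw [hl.1.natDegree_mul hl.1]; omega⟩]
  obtain ⟨k, hk, hkd, rfl⟩ := exists_factor_lam hh hhd hhl
  obtain ⟨μ, rfl⟩ := exists_eq_linear hk hkd
  rcases eq_or_ne μ lam with rfl | hμ
  · -- one eigenvalue: block by block
    have hsim : MSim x (Matrix.fromBlocks
        (SLComm.comp ((X - C μ) * ((X - C μ) * ((X - C μ) * (X - C μ)))) 4) 0 0 (μ • 1 : Matrix Unit Unit F)) :=
      hx.trans ((blk_two _ _ hfd (natDegree_X_sub_C μ)).trans (msim_blocks (MSim.refl _) (msim_comp_one μ)))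
    have hC : (SLComm.comp ((X - C μ) * ((X - C μ) * ((X - C μ) * (X - C μ)))) 4).det = μ ^ 4 := by
      rw [comp_det hf hfd, dv, hfd]; simp [Polynomial.coeff_zero_eq_eval_zero]; ring
    have hμ5 : μ ^ 5 = 1 := by
      rw [← hd, hsim.det_eq, Matrix.det_fromBlocks_zero₂₁, hC]; simp; ring
    exact SProd.of_msim 1 hsim.symm (sprod_blocks
      (sprod_one_of_cov (j := 4) (cov_cyclic hF hf hfd h0 (by norm_num)) (ns_comp (by norm_num)) le_rfl
        (by rw [hC, ← pow_mul, show 4 * (4 + 1) = 5 * 4 by rfl, pow_mul, hμ5, one_pow]))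
      (sprod_scalar_one hμ5))
  · -- a triple root: the other one takes the single root
    have hcm : ((X - C lam) * ((X - C lam) * (X - C lam))).Monic := hl.1.mul (hl.1.mul hl.1)
    have hcd : ((X - C lam) * ((X - C lam) * (X - C lam))).natDegree = 3 := by
      rw [hl.1.natDegree_mul (hl.1.mul hl.1), hl.1.natDegree_mul hl.1, hl.2]
    have hsim : MSim x (blk [(X - C μ) * (X - C lam), (X - C lam) * ((X - C lam) * (X - C lam))]) := by
      rw [show (X - C lam) * ((X - C lam) * ((X - C lam) * (X - C μ))) =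
        (X - C lam) * ((X - C lam) * (X - C lam)) * (X - C μ) by ring] at hx
      refine hx.trans ((blk_merge hcm hk ((coprime_lin hμ.symm).mul_left
        ((coprime_lin hμ.symm).mul_left (coprime_lin hμ.symm))) [X - C lam]).trans ?_)
      refine (blk_perm ?_).trans (blk_merge hk hl.1 (coprime_lin hμ) [(X - C lam) * ((X - C lam) * (X - C lam))]).symm
      exact (List.Perm.swap _ _ _).trans ((List.Perm.swap _ _ _).cons _)
    have hqd : ((X - C μ) * (X - C lam)).natDegree = 2 := by rw [hk.natDegree_mul hl.1, hkd, hl.2]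
    refine sprod_one_quad (q := (X - C μ) * (X - C lam)) (f := (X - C lam) * ((X - C lam) * (X - C lam))) (R := [])
      hF (fun p hp => ?_) hsim hd (List.Perm.refl _) hqd (by omega)
    simp only [List.mem_cons, List.not_mem_nil, or_false] at hp
    rcases hp with rfl | rfl
    exacts [⟨hk.mul hl.1, by omega⟩, ⟨hcm, by omega⟩]

/-- Two quadratic blocks with a root and the root. -/
theorem sprod_one_quads_lam (hF : 4 ≤ Fintype.card F) {x : Matrix (Fin 5) (Fin 5) F} (hd : x.det = 1) {q : F[X]}
    (hq : q.Monic) (hqd : q.natDegree = 2) {lam : F} (hr : q.eval lam = 0) (hx : MSim x (blk [X - C lam, q, q])) :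
    SProd 5 x ((1 : F) • 1) := by
  obtain ⟨k, hk, hkd, rfl⟩ := exists_factor_lam hq hqd hr
  obtain ⟨μ, rfl⟩ := exists_eq_linear hk hkd
  have hsim : MSim x (Matrix.fromBlocks (lam • 1 : Matrix Unit Unit F) 0 0
      (Matrix.fromBlocks (SLComm.comp ((X - C lam) * (X - C μ)) 2) 0 0
        (SLComm.comp ((X - C lam) * (X - C μ)) 2))) :=
    hx.trans ((msim_blk_two _ _ (natDegree_X_sub_C lam)).trans
      (msim_blocks (msim_comp_one lam) (blk_two _ _ hqd hqd)))
  rcases eq_or_ne μ lam with rfl | hμ
  · refine SProd.of_msim 1 hsim.symm (sprod_five hF rfl ?_)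
    have : (SLComm.comp ((X - C μ) * (X - C μ)) 2).det = μ ^ 2 := by
      rw [comp_det hq hqd, dv, hqd]; simp [Polynomial.coeff_zero_eq_eval_zero]; ring
    rw [← hd, hsim.det_eq, Matrix.det_fromBlocks_zero₂₁, Matrix.det_fromBlocks_zero₂₁, this]; simp; ring
  · have hq2 : MSim (SLComm.comp ((X - C lam) * (X - C μ)) 2)
        (Matrix.diagonal (Sum.elim (fun _ : Unit => lam) fun _ : Unit => μ)) := by
      have := (msim_comp_mul (monic_X_sub_C lam) hk (coprime_lin hμ.symm) hqd (natDegree_X_sub_C lam) hkd).trans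
        (msim_blocks (msim_comp_one lam) (msim_comp_one μ))
      rwa [Matrix.smul_one_eq_diagonal, Matrix.smul_one_eq_diagonal, Matrix.fromBlocks_diagonal] at this
    have hs := hsim.trans (msim_blocks (MSim.refl _) (msim_blocks hq2 hq2))
    rw [Matrix.smul_one_eq_diagonal, Matrix.fromBlocks_diagonal, Matrix.fromBlocks_diagonal] at hs
    refine SProd.of_msim 1 hs.symm (sprod_diagonal (m := 4) (by simp) ?_)
    rw [← Matrix.det_diagonal, ← hs.det_eq, hd]

/-- **The identity.** -/
theorem sprod_scalar_target (hF : 4 ≤ Fintype.card F) {n : ℕ} (hn : 3 ≤ n) {x : Matrix (Fin n) (Fin n) F} (hx : NS x)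
    (hd : x.det = 1) : SProd n x ((1 : F) • 1) := by
  classical
  obtain ⟨L, hL, hsim, hchain⟩ := exists_chain x
  obtain ⟨hL', hnL⟩ := list_data hL hsim hd
  by_cases h5 : ∃ f ∈ L, 5 ≤ f.natDegree
  · obtain ⟨f, hf, hf5⟩ := h5
    have hperm := List.perm_cons_erase hf
    have hdeg : f.natDegree + degs (L.erase f) = n := by rw [hnL, degs_perm hperm, degs_cons]
    obtain ⟨m, hm⟩ : ∃ m, f.natDegree = m + 1 := ⟨f.natDegree - 1, by omega⟩
    have hk : Cov 4 (SLComm.comp f f.natDegree) := by
      rw [hm]; exact cov_comp hF (hL f hf).1 hm (hL' f hf).2.2 (by omega)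
    obtain ⟨j, rfl⟩ : ∃ j, n = j + 1 := ⟨n - 1, by omega⟩
    exact sprod_one_of_cov (cov_big hF hL' hsim hperm (by omega) hk) hx (by omega) (by rw [hd, one_pow])
  push Not at h5
  by_cases h3 : ∃ f ∈ L, 3 ≤ f.natDegree
  · obtain ⟨f, hf, hf3⟩ := h3
    have hperm := List.perm_cons_erase hf
    have hsub : ∀ g ∈ L.erase f, g ∈ L := fun g => List.mem_of_mem_erase
    by_cases h2 : ∃ q ∈ L.erase f, q.natDegree = 2
    · obtain ⟨q, hq, hqd⟩ := h2
      exact sprod_one_quad hF hL hsim hd
        (hperm.trans (((List.perm_cons_erase hq).cons f).trans (List.Perm.swap _ _ _))) hqd hf3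
    push Not at h2
    by_cases h33 : ∃ g ∈ L.erase f, 3 ≤ g.natDegree
    · obtain ⟨g, hg, hg3⟩ := h33
      have hperm' := hperm.trans ((List.perm_cons_erase hg).cons f)
      have h4f := h5 f hf
      have h4g := h5 g (hsub g hg)
      generalize (L.erase f).erase g = R at hperm'
      have hnR : n = f.natDegree + (g.natDegree + degs R) := by rw [hnL, degs_perm hperm', degs_cons, degs_cons]
      rcases Nat.lt_trichotomy f.natDegree g.natDegree with h | h | h
      · exact sprod_one_members hF hL hsim hd hperm' hf3 h.le (by omega) (by omega)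
      · rcases Nat.eq_zero_or_pos (degs R) with hR | hR
        · obtain rfl : g = f := Polynomial.eq_of_monic_of_dvd_of_natDegree_le (hL f hf).1 (hL g (hsub g hg)).1
            (hchain g (hsub g hg) f hf h.le) h.ge
          obtain rfl : R = [] := by
            rcases R with _ | ⟨p, R⟩
            · rfl
            · have := (hL p (hperm'.mem_iff.2 (by simp))).2
              rw [degs_cons] at hR; omega
          have hs := hsim.trans ((blk_perm hperm').trans (blk_two g g rfl rfl))
          have hdd := hd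
          rw [hs.det_eq, Matrix.det_fromBlocks_zero₂₁] at hdd
          obtain ⟨j, rfl⟩ : ∃ j, n = j + 1 := ⟨n - 1, by omega⟩
          have hC := sprod_one_of_cov (j := j) (cov_cyclic hF (hL g hf).1 rfl (hL' g hf).2.2 hf3) (ns_comp (by omega))
            (by omega) (by rw [show j + 1 = 2 * g.natDegree by omega, pow_mul, sq, hdd, one_pow])
          exact SProd.of_msim 1 hs.symm (sprod_blocks hC hC)
        · exact sprod_one_members hF hL hsim hd hperm' hf3 h.le (by omega) (by omega)
      · exact sprod_one_members hF hL hsim hd (hperm'.trans (List.Perm.swap _ _ _)) hg3 h.le (by omega) (by omega)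
    push Not at h33
    have hlin : ∀ g ∈ L.erase f, g.natDegree = 1 := fun g hg => by
      have := h33 g hg; have := h2 g hg; have := (hL g (hsub g hg)).2; omega
    by_cases hne : L.erase f = []
    · rw [hne] at hperm
      have hfn : f.natDegree = n := by
        rw [hnL, degs_perm hperm, degs_cons]; simp [degs]
      have hs := hsim.trans ((blk_perm hperm).trans (msim_blk_singleton hfn))
      have hdf : dv f = 1 := by rw [← comp_det (hL f hf).1 hfn, ← hs.det_eq, hd]
      refine SProd.of_msim 1 hs.symm ?_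
      rcases (show n = 3 ∨ n = 4 by have := h5 f hf; omega) with rfl | rfl
      · exact sprod_three_one hF (hL f hf).1 hfn hdf
      · rw [one_smul]
        exact sprod_one_comp (m := 3) hF (hL f hf).1 hfn (hL' f hf).2.2 le_rfl hdf
    obtain ⟨lam, hrep, hlL⟩ := exists_replicate hL hchain hsub hlin hne
    have hpos := List.length_pos_of_ne_nil hne
    generalize (L.erase f).length = ℓ at hrep hpos
    rw [hrep] at hperm
    match ℓ, hpos with
    | 1, _ =>
      simp only [List.replicate_one] at hperm
      have hr : f.eval lam = 0 := dvd_iff_isRoot.1 (hchain f hf _ hlL (by rw [natDegree_X_sub_C]; omega))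
      have hfn : n = f.natDegree + 1 := by
        rw [hnL, degs_perm hperm, degs_cons, degs_cons, natDegree_X_sub_C]; simp [degs]
      rcases (show f.natDegree = 3 ∨ f.natDegree = 4 by have := h5 f hf; omega) with hfd | hfd
      · obtain rfl : n = 4 := by omega
        exact sprod_one_cubic_lam hF hd (hL f hf).1 hfd (hL' f hf).2.2 hr (hsim.trans (blk_perm hperm))
      · obtain rfl : n = 5 := by omega
        exact sprod_one_quartic_lam hF hd (hL f hf).1 hfd (hL' f hf).2.2 hr (hsim.trans (blk_perm hperm))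
    | ℓ + 2, _ =>
      simp only [List.replicate_succ] at hperm
      exact sprod_one_lam_lam hF hL hsim hd
        (hperm.trans ((List.Perm.swap _ _ _).trans ((List.Perm.swap _ _ _).cons _))) hf3
  push Not at h3
  by_cases h2 : ∃ q ∈ L, q.natDegree = 2
  · obtain ⟨q, hq, hqd⟩ := h2
    have hperm := List.perm_cons_erase hq
    by_cases h22 : ∃ p ∈ L.erase q, p.natDegree = 2
    · obtain ⟨p, hp, hpd⟩ := h22
      obtain rfl : p = q := Polynomial.eq_of_monic_of_dvd_of_natDegree_le (hL q hq).1 (hL p (List.mem_of_mem_erase hp)).1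
        (hchain p (List.mem_of_mem_erase hp) q hq (by omega)) (by omega)
      have hperm' : L.Perm (p :: p :: (L.erase p).erase p) := hperm.trans ((List.perm_cons_erase hp).cons p)
      generalize (L.erase p).erase p = R at hperm'
      have hsub : ∀ g ∈ R, g ∈ L := fun g hg => hperm'.mem_iff.2 (by simp [hg])
      by_cases h222 : ∃ r ∈ R, r.natDegree = 2
      · obtain ⟨r, hr, hrd⟩ := h222
        obtain rfl : r = p := Polynomial.eq_of_monic_of_dvd_of_natDegree_le (hL p hq).1 (hL r (hsub r hr)).1
          (hchain r (hsub r hr) p hq (by omega)) (by omega)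
        exact sprod_one_quads hF hL hsim hd (hperm'.trans (((List.perm_cons_erase hr).cons r).cons r)) hqd
      push Not at h222
      have hlin : ∀ g ∈ R, g.natDegree = 1 := fun g hg => by
        have := h222 g hg; have := h3 g (hsub g hg); have := (hL g (hsub g hg)).2; omega
      by_cases hne : R = []
      · subst hne
        have hn4 : n = 4 := by rw [hnL, degs_perm hperm', degs_cons, degs_cons, hqd]; simp [degs]
        subst hn4
        have hs := hsim.trans ((blk_perm hperm').trans (blk_two p p hqd hqd))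
        refine SProd.of_msim 1 hs.symm (sprod_pairs_same ?_)
        rw [← Matrix.det_fromBlocks_zero₂₁, ← hs.det_eq, hd]
      obtain ⟨lam, hrep, hlL⟩ := exists_replicate hL hchain hsub hlin hne
      have hpos := List.length_pos_of_ne_nil hne
      generalize R.length = ℓ at hrep hpos
      subst hrep
      match ℓ, hpos with
      | 1, _ =>
        simp only [List.replicate_one] at hperm'
        have hn5 : n = 5 := by
          rw [hnL, degs_perm hperm', degs_cons, degs_cons, degs_cons, hqd, natDegree_X_sub_C]; simp [degs]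
        subst hn5
        exact sprod_one_quads_lam hF hd (hL p hq).1 hqd
          (dvd_iff_isRoot.1 (hchain p hq _ hlL (by rw [natDegree_X_sub_C]; omega)))
          (hsim.trans ((blk_perm hperm').trans
            (blk_perm (((List.Perm.swap _ _ _).cons p).trans (List.Perm.swap _ _ _)))))
      | ℓ + 2, _ =>
        simp only [List.replicate_succ] at hperm'
        exact sprod_one_lam_quads hF hL hsim hd
          (hperm'.trans (List.perm_append_comm_assoc [p, p] [X - C lam, X - C lam] _)) hqd
    · push Not at h22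
      obtain ⟨lam, u, v, hl, hu, hv, he⟩ := exists_rankone_form hn (by rw [hd]; exact one_ne_zero) hL hchain hsim hperm
        hqd fun f hf => by
          have := h3 f (List.mem_of_mem_erase hf); have := (hL f (List.mem_of_mem_erase hf)).2
          have := h22 f hf; omega
      rw [one_smul]
      exact sprod_rankone_form hF hn hd hl hu hv he (Or.inr rfl) Matrix.det_one
  · push Not at h2
    exfalso
    have hlin : ∀ g ∈ L, g.natDegree = 1 := fun g hg => by
      have := h3 g hg; have := h2 g hg; have := (hL g hg).2; omega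
    obtain ⟨lam, hrep, -⟩ := exists_replicate hL hchain (fun _ h => h) hlin (by rintro rfl; simp [degs] at hnL; omega)
    exact ((hx.of_msim hsim).of_msim (blk_linear L fun g hg => List.eq_of_mem_replicate (hrep ▸ hg))) lam rfl

end Cfsg.Lib.Linear.PSLCover
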