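import Cfsg.Agent.Lib.Linear.PSLCover.CubicFour
import Mathlib.FieldTheory.Finite.Trace

/-!
# Three factors in size three

Irreducible cubics, triple roots, and the product one.
-/

set_option autoImplicit false
set_option linter.unusedSectionVars false
set_option linter.unusedSimpArgs false

universe u

namespace Cfsg.Lib.Linear.PSLCover

open Module Polynomial
open Cfsg.Lib.Linear.SLComm (Sim rt Cyc dv comp_sim cyclic_sim exists_change sim_aeval rt_aeval)
open scoped Matrix

variable {F : Type u} [Field F]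

/-! ### Irreducible cubics -/

theorem li_of_irred {f : F[X]} (hi : Irreducible f) (hfd : f.natDegree = 3) {A : Matrix (Fin 3) (Fin 3) F}
    (hA : aeval A f = 0) {v : Fin 3 → F} (hv : v ≠ 0) :
    LinearIndependent F fun i : Fin 3 => v ᵥ* A ^ (i : ℕ) := by
  rw [Fintype.linearIndependent_iff]
  intro c hc i
  let p : F[X] := ∑ j : Fin 3, C (c j) * X ^ (j : ℕ)
  have hp : v ᵥ* aeval A p = 0 := by
    rw [← hc, map_sum, Matrix.vecMul_sum]
    exact Finset.sum_congr rfl fun j _ => by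
      rw [map_mul, aeval_C, map_pow, aeval_X, Algebra.algebraMap_eq_smul_one, Matrix.smul_mul, Matrix.one_mul,
        Matrix.vecMul_smul]
  have h0 : p = 0 := by
    by_contra h
    have hdvd : ¬ f ∣ p := fun hd => h (eq_zero_of_dvd_of_degree_lt hd (by
      rw [degree_eq_natDegree hi.ne_zero, hfd]
      exact degree_sum_fin_lt c))
    obtain ⟨a, b, hab⟩ := hi.coprime_iff_not_dvd.2 hdvd
    refine hv ?_
    calc v = v ᵥ* aeval A (a * f + b * p) := by rw [hab, map_one, Matrix.vecMul_one]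
      _ = 0 := by
        rw [map_add, map_mul, hA, Matrix.mul_zero, zero_add, mul_comm b, map_mul, ← Matrix.vecMul_vecMul, hp,
          Matrix.zero_vecMul]
  have := congrArg (fun q => q.coeff i) h0
  simpa [p, finsetSum_coeff, coeff_C_mul_X_pow, Fin.val_inj, Finset.sum_ite_eq] using this

/-- An annihilated matrix is the companion. -/
theorem msim_of_irred {f : F[X]} (hf : f.Monic) (hi : Irreducible f) (hfd : f.natDegree = 3)
    {A : Matrix (Fin 3) (Fin 3) F} (hA : aeval A f = 0) : MSim A (SLComm.comp f 3) := by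
  have hne : (Pi.single 0 1 : Fin 3 → F) ≠ 0 := by simp
  have hli : LinearIndependent F fun i : Fin 3 => (A ^ (i : ℕ)) *ᵥ Pi.single 0 1 := by
    have h := li_of_irred hi hfd (A := Aᵀ) (by
      have e : ∀ q : F[X], aeval Aᵀ q = (aeval A q)ᵀ := fun q => by
        induction q using Polynomial.induction_on with
        | C a => simp [Polynomial.aeval_C, Algebra.algebraMap_eq_smul_one]
        | add p r hp hr => rw [map_add, map_add, Matrix.transpose_add, hp, hr]
        | monomial k a _ =>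
          simp only [map_mul, aeval_C, map_pow, aeval_X, Algebra.algebraMap_eq_smul_one, Matrix.smul_mul, Matrix.one_mul,
            Matrix.transpose_smul, Matrix.transpose_pow]
      rw [e, hA, Matrix.transpose_zero]) hne
    convert h using 2
    rw [← Matrix.transpose_pow, Matrix.vecMul_transpose]
  have hcyc : Cyc A (Pi.single 0 1) := by
    rw [Cyc, eq_top_iff, ← hli.span_eq_top_of_card_eq_finrank' (by rw [Fintype.card_fin, Module.finrank_fin_fun])]
    exact Submodule.span_mono fun _ ⟨i, hi⟩ => ⟨(i : ℕ), hi⟩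
  exact (cyclic_sim A _ hcyc hf (by rw [hfd, Fintype.card_fin]) (by rw [hA, Matrix.zero_mulVec])).symm.trans
    (comp_sim hf hfd)

theorem spread_irred {f : F[X]} (hf : f.Monic) (hi : Irreducible f) (hfd : f.natDegree = 3)
    {y : Matrix (Fin 3) (Fin 3) F} (hne : y ≠ SLComm.comp f 3) : Spread [y, SLComm.comp f 3] := by
  intro K hinv heq
  by_contra hK
  obtain ⟨v, hv, hv0⟩ := (Submodule.ne_bot_iff K).1 hK
  have hA : aeval (SLComm.comp f 3) f = 0 := by
    have := Matrix.aeval_self_charpoly (SLComm.comp f 3)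
    rwa [comp_charpoly hf hfd] at this
  have hli := li_of_irred hi hfd hA hv0
  have hpow : ∀ i : ℕ, v ᵥ* SLComm.comp f 3 ^ i ∈ K := fun i => by
    induction i with
    | zero => rwa [pow_zero, Matrix.vecMul_one]
    | succ i ih => rw [pow_succ, ← Matrix.vecMul_vecMul]; exact hinv _ (by simp) _ ih
  have htop : K = ⊤ := by
    rw [eq_top_iff, ← hli.span_eq_top_of_card_eq_finrank' (by rw [Fintype.card_fin, Module.finrank_fin_fun]),
      Submodule.span_le]
    rintro _ ⟨i, rfl⟩
    exact hpow i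
  refine hne (Matrix.ext_iff_vecMul.2 fun u => heq y (by simp) _ (by simp) u (by rw [htop]; trivial))

theorem cov_irred [Fintype F] (hq : 4 ≤ Fintype.card F) {f : F[X]} (hf : f.Monic) (hi : Irreducible f)
    (hfd : f.natDegree = 3) : Cov 3 (SLComm.comp f 3) := by
  have h0 : f.coeff 0 ≠ 0 := fun e => by
    have hdvd : X ∣ f := X_dvd_iff.2 e
    have := natDegree_eq_of_degree_eq (degree_eq_degree_of_associated (irreducible_X.associated_of_dvd hi hdvd))
    rw [natDegree_X, hfd] at this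
    omega
  have hd : dv f ≠ 0 := by rw [dv_three hfd]; exact neg_ne_zero.2 h0
  obtain ⟨a, ha0, haS, -⟩ := exists_avoid_sq hq 0 (-f.coeff 2 + 1 * f.coeff 1 / f.coeff 0) 0
  obtain ⟨b, c, w, hb, hw, hy⟩ := exists_tri hf hfd h0 hf hfd one_ne_zero a
  have hb0 : b ≠ 0 := by rw [hb]; exact sub_ne_zero.2 (Ne.symm haS)
  have hsurj := surj_comp_irred hf hi hfd
  have hne : tri 1 w a b c * compInv f 3 ≠ SLComm.comp f 3 := fun e => by
    have h1 := congrArg (fun M => (M * SLComm.comp f 3) 0 0) e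
    simp only [Matrix.mul_assoc, mul_eq_one_comm.1 (comp_mul_compInv (m := 2) hf hfd h0), Matrix.mul_one] at h1
    simp [tri, SLComm.comp, Matrix.mul_apply, Fin.sum_univ_three] at h1
  intro g hg hgd
  rw [comp_det hf hfd] at hgd
  obtain ⟨T, y, a', b', c', ha', hb', rfl, hy', hgs⟩ := exists_factor hq hf hfd one_ne_zero
    (by rw [hw]; ring) (fun r s h => absurd hi (by
      intro hi'
      have hroot : f.IsRoot s := by rw [h]; simp
      rw [irreducible_iff_roots_eq_zero_of_degree_le_three (by omega) (by omega)] at hi'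
      exact Multiset.notMem_zero s (hi' ▸ (mem_roots hf.ne_zero).2 hroot))) h0 hg hgd
  exact list_of_pair (hasPair_tri hf hfd h0 hy (spread_irred hf hi hfd hne)) hgs
    (msim_tri ha' hb' ha0 (Or.inr hb0)) hy' (Or.inl hsurj)

/-! ### A triple root -/

/-- The triple root one. -/
noncomputable abbrev jPoly (F : Type u) [Field F] : F[X] := (X - C 1) ^ 3

theorem jPoly_monic : (jPoly F).Monic := (monic_X_sub_C 1).pow 3

theorem jPoly_deg : (jPoly F).natDegree = 3 := by
  rw [jPoly, (monic_X_sub_C 1).natDegree_pow, natDegree_X_sub_C]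

theorem jPoly_eq : jPoly F = X ^ 3 - C 3 * X ^ 2 + C 3 * X - C 1 := by
  rw [jPoly, map_one, show (C (3 : F) : F[X]) = 3 from map_ofNat C 3]
  ring

theorem jPoly_coeff : (jPoly F).coeff 0 = -1 ∧ (jPoly F).coeff 1 = 3 ∧ (jPoly F).coeff 2 = -3 := by
  rw [jPoly_eq]
  simp [coeff_X, coeff_C, coeff_one]

theorem jPoly_dv : dv (jPoly F) = 1 := by
  rw [dv_three jPoly_deg, jPoly_coeff.1, neg_neg]

/-- The companion of the triple root. -/
noncomputable abbrev jComp (F : Type u) [Field F] : Matrix (Fin 3) (Fin 3) F := SLComm.comp (jPoly F) 3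

theorem jComp_eq : jComp F = !![0, 0, 1; 1, 0, -3; 0, 1, 3] := by
  obtain ⟨h0, h1, h2⟩ := jPoly_coeff (F := F)
  ext i j
  fin_cases i <;> fin_cases j <;> simp [SLComm.comp, h0, h1, h2]

theorem spread_triple {z w a b c : F} (h : w ≠ 1 ∨ z + b ≠ 1) :
    Spread [tri z w a b c * compInv (jPoly F) 3, jComp F] := by
  have h0 : (jPoly F).coeff 0 ≠ 0 := by rw [jPoly_coeff.1]; exact neg_ne_zero.2 one_ne_zero
  intro K hinv heq
  by_contra hK
  obtain ⟨v₀, hv₀, hv₀0⟩ := (Submodule.ne_bot_iff K).1 hK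
  have hstep : ∀ u ∈ K, u ᵥ* (jComp F - 1) ∈ K := fun u hu => by
    rw [Matrix.vecMul_sub, Matrix.vecMul_one]
    exact K.sub_mem (hinv _ (by simp) u hu) hu
  have hnil : (jComp F - 1) * (jComp F - 1) * (jComp F - 1) = 0 := by
    rw [jComp_eq]
    ext i j
    fin_cases i <;> fin_cases j <;> simp [Matrix.mul_apply, Fin.sum_univ_three] <;> ring
  obtain ⟨v, hv, hv0, hfix⟩ : ∃ v ∈ K, v ≠ 0 ∧ v ᵥ* (jComp F - 1) = 0 := by
    by_cases h1 : v₀ ᵥ* (jComp F - 1) = 0
    · exact ⟨v₀, hv₀, hv₀0, h1⟩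
    by_cases h2 : v₀ ᵥ* (jComp F - 1) ᵥ* (jComp F - 1) = 0
    · exact ⟨_, hstep _ hv₀, h1, h2⟩
    refine ⟨_, hstep _ (hstep _ hv₀), h2, ?_⟩
    rw [Matrix.vecMul_vecMul, Matrix.vecMul_vecMul, ← Matrix.mul_assoc, hnil, Matrix.vecMul_zero]
  have hC : v ᵥ* jComp F = v := by rwa [Matrix.vecMul_sub, Matrix.vecMul_one, sub_eq_zero] at hfix
  have hM : v ᵥ* tri z w a b c = v := by
    have hy := heq (tri z w a b c * compInv (jPoly F) 3) (by simp) (jComp F) (by simp) v hv
    rw [hC] at hy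
    have := congrArg (fun u => u ᵥ* jComp F) hy
    simp only [Matrix.vecMul_vecMul, Matrix.mul_assoc,
      mul_eq_one_comm.1 (comp_mul_compInv (m := 2) jPoly_monic jPoly_deg h0), Matrix.mul_one, hC] at this
    exact this
  rw [jComp_eq] at hC
  have e0 := congrFun hC 0
  have e1 := congrFun hC 1
  have f1 := congrFun hM 1
  have f2 := congrFun hM 2
  simp [Matrix.vecMul, dotProduct, Fin.sum_univ_three, tri] at e0 e1 f1 f2
  have hv2 : v 2 ≠ 0 := fun e => hv0 (funext fun i => by fin_cases i <;> simp [← e0, e, e1] <;> simp_all)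
  rcases h with h | h
  · exact h (mul_left_cancel₀ hv2 (by linear_combination f2))
  · exact h (mul_left_cancel₀ hv2 (by linear_combination f1 + (z - 1) * e1))

theorem surj_tri {z w a b c : F} (hzw : z ≠ w) (ha : a ≠ 0) : Surj (tri z w a b c) := by
  obtain ⟨e, he⟩ := tri_cyc (c := c) (b := b) ha (Or.inl hzw)
  have h := msim_comp_of_cyc he
  rw [charpoly_tri, mul_comm] at h
  refine (surj_front w _).of_msim (h.trans (msim_comp_root ((monic_X_sub_C z).pow 2) ?_ ?_))
  · rw [(monic_X_sub_C z).natDegree_pow, natDegree_X_sub_C]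
  · simp [sub_eq_zero, Ne.symm hzw]

theorem surj_rank_smul {g : Matrix (Fin 3) (Fin 3) F} {γ : F} {u v : Fin 3 → F} (hu : u ≠ 0) (hv : v ≠ 0)
    (h : MSim g (γ • (1 + Matrix.vecMulVec u v))) : Surj g :=
  (show Surj (γ • (1 + Matrix.vecMulVec u v)) from
    Surj.smul (fun c hc => surj_rankone (by simp) hu hv c hc) γ).of_msim h

/-- Either every determinant centralises, or one triple root with a cyclic vector. -/
theorem surj_or_pure [Fintype F] {g : Matrix (Fin 3) (Fin 3) F} (hg : NS g) (hgd : g.det = 1) :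
    Surj g ∨ ∃ γ c : F, γ ^ 3 = 1 ∧ c ≠ 0 ∧ SSim g (tri γ γ 1 c 0) := by
  have hg0 : g.det ≠ 0 := by rw [hgd]; exact one_ne_zero
  rcases cyclic_or_rankone hg hg0 with ⟨p, hp, hpd, hgp⟩ | ⟨γ, u, v, -, hu, hv, hgp⟩
  · rcases cubic_cases hp hpd with ⟨a, q, hq, hqd, hqa, rfl⟩ | hirr | ⟨γ, rfl⟩
    · exact Or.inl ((surj_front a _).of_msim (hgp.trans (msim_comp_root hq hqd hqa)))
    · exact Or.inl ((surj_comp_irred hp hirr hpd).of_msim hgp)
    · have hγ : γ ^ 3 = 1 := by
        rw [← hgd, hgp.det_eq, comp_det hp hpd, dv_three hpd, show (X - C γ : F[X]) ^ 3 =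
          X ^ 3 - C (3 * γ) * X ^ 2 + C (3 * γ ^ 2) * X - C (γ ^ 3) by
            simp only [map_mul, map_pow, map_ofNat]; ring]
        simp [coeff_X, coeff_C, coeff_zero_eq_eval_zero]
      obtain ⟨e, he⟩ := tri_cyc (z := γ) (w := γ) (a := (1 : F)) (b := 1) (c := 0) one_ne_zero (Or.inr one_ne_zero)
      have ht := msim_comp_of_cyc he
      rw [charpoly_tri, show (X - C γ) ^ 2 * (X - C γ) = (X - C γ : F[X]) ^ 3 by ring] at ht
      obtain ⟨P, Q, hPQ, hQP, rfl⟩ := (hgp.trans ht.symm).exists_conj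
      have hδ : P.det * Q.det = 1 := by rw [← Matrix.det_mul, hPQ, Matrix.det_one]
      refine Or.inr ⟨γ, P.det, hγ, left_ne_zero_of_mul_eq_one hδ, P * !![1, 0, 0; 0, 1, 0; 0, 0, Q.det],
        !![1, 0, 0; 0, 1, 0; 0, 0, P.det] * Q, ?_, ?_, ?_⟩
      · have : (!![1, 0, 0; 0, 1, 0; 0, 0, Q.det] : Matrix (Fin 3) (Fin 3) F) * !![1, 0, 0; 0, 1, 0; 0, 0, P.det] = 1 := by
          ext i j
          fin_cases i <;> fin_cases j <;> simp [Matrix.mul_apply, Fin.sum_univ_three, mul_comm Q.det, hδ]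
        rw [Matrix.mul_assoc, ← Matrix.mul_assoc _ _ Q, this, Matrix.one_mul, hPQ]
      · rw [Matrix.det_mul, Matrix.det_fin_three (!![1, 0, 0; 0, 1, 0; 0, 0, Q.det])]
        simpa using hδ
      · have : (!![1, 0, 0; 0, 1, 0; 0, 0, Q.det] : Matrix (Fin 3) (Fin 3) F) * tri γ γ 1 P.det 0 *
            !![1, 0, 0; 0, 1, 0; 0, 0, P.det] = tri γ γ 1 1 0 := by
          ext i j
          fin_cases i <;> fin_cases j <;> simp [tri, Matrix.mul_apply, Fin.sum_univ_three] <;>
            first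
              | linear_combination hδ
              | linear_combination γ * hδ
              | linear_combination (0 : F)
        rw [← this]
        simp only [Matrix.mul_assoc]
  · exact Or.inl (surj_rank_smul hu hv hgp)

theorem ssim_tri_pure {γ a b c a' b' c' s : F} (hs : s ≠ 0) (ha' : a' ≠ 0) (hb' : b' ≠ 0)
    (h : a ^ 2 * b = s ^ 3 * (a' ^ 2 * b')) : SSim (tri γ γ a b c) (tri γ γ a' b' c') := by
  refine ssim_of_krylov_cube (e := ![1, 0, 0]) (e' := ![1, 0, 0]) (by rw [charpoly_tri, charpoly_tri]) hs ?_ ?_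
  · rw [krylov_tri]; simp [ha', hb']
  · rw [krylov_tri, krylov_tri]; linear_combination h

theorem ssim_unip {m n r s : F} (hs : s ≠ 0) (h : m ^ 2 * n = s ^ 3) : SSim (tri 1 1 m n r) (jComp F) := by
  refine ssim_of_krylov_cube (e := ![1, 0, 0]) (e' := Pi.single 0 1) ?_ hs ?_ ?_
  · rw [charpoly_tri, comp_charpoly jPoly_monic jPoly_deg]; ring
  · rw [krylov_comp_self (m := 2) jPoly_monic jPoly_deg]; exact one_ne_zero
  · rw [krylov_tri, krylov_comp_self (m := 2) jPoly_monic jPoly_deg]; linear_combination h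

/-- Pairs with one triple root. -/
theorem exists_pure_pair {γ a : F} (hγ3 : γ ^ 3 = 1) (hs : γ ≠ 1 ∨ a ≠ 0) :
    ∃ c, HasPair (jComp F) (tri γ γ a (3 - 3 * γ - a) c) := by
  have h0 : (jPoly F).coeff 0 ≠ 0 := by rw [jPoly_coeff.1]; exact neg_ne_zero.2 one_ne_zero
  have hγ : γ ≠ 0 := fun e => by rw [e] at hγ3; simp at hγ3
  obtain ⟨b, c, w, hb, hw, hy⟩ := exists_tri jPoly_monic jPoly_deg h0 jPoly_monic jPoly_deg hγ a
  rw [jPoly_dv, one_mul] at hw
  obtain rfl : w = γ := mul_left_cancel₀ (pow_ne_zero 2 hγ) (by linear_combination hw - hγ3)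
  obtain ⟨e0, e1, e2⟩ := jPoly_coeff (F := F)
  obtain rfl : b = 3 - 3 * w - a := by rw [hb, e0, e1, e2]; field_simp; ring
  refine ⟨c, hasPair_tri jPoly_monic jPoly_deg h0 hy (spread_triple ?_)⟩
  rcases eq_or_ne w 1 with rfl | h
  · exact Or.inr fun e => hs.elim (fun h => h rfl) fun h => h (by linear_combination -e)
  · exact Or.inl h

/-- A triangular target as pair times one. -/
theorem list_pure {γ c N m k r e : F} (hm : m ≠ 0) (hk : k ≠ 0) (hc : c ≠ 0)
    (h1 : N + γ * m = 1) (h2 : N * e + γ * m * k ^ 3 = c)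
    (hp : ∀ C, HasPair (jComp F) (tri γ γ N (N * e) C)) {g : Matrix (Fin 3) (Fin 3) F} (hg : SSim g (tri γ γ 1 c r)) :
    ∃ l : List (Matrix (Fin 3) (Fin 3) F), l.length = 3 ∧ (∀ a ∈ l, SSim a (jComp F)) ∧ l.prod = g ∧ Spread l := by
  obtain ⟨y₁, y₂, hy₁, hy₂, h12, hs⟩ := hp (r - N * e * m)
  have hy : SSim (tri 1 1 m (m * k ^ 3) 0) (jComp F) := ssim_unip (s := m * k) (mul_ne_zero hm hk) (by ring)
  have hprod : tri γ γ N (N * e) (r - N * e * m) * tri 1 1 m (m * k ^ 3) 0 = tri γ γ 1 c r := by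
    ext i j
    fin_cases i <;> fin_cases j <;> simp [tri, Matrix.mul_apply, Fin.sum_univ_three] <;>
      first
        | linear_combination h1
        | linear_combination h2
        | linear_combination (0 : F)
  obtain ⟨R, S, hRS, hR, rfl⟩ := hg
  refine ⟨[y₁, y₂, tri 1 1 m (m * k ^ 3) 0].map fun z => R * z * S, rfl, fun a ha => ?_, ?_,
    (hs.mono (l' := [y₁, y₂, tri 1 1 m (m * k ^ 3) 0]) (by simp)).map R S hRS (mul_eq_one_comm.1 hRS)⟩
  · obtain ⟨z, hz, rfl⟩ := List.mem_map.1 ha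
    refine SSim.trans ⟨R, S, hRS, hR, rfl⟩ ?_
    simp only [List.mem_cons, List.not_mem_nil, or_false] at hz
    rcases hz with rfl | rfl | rfl
    exacts [hy₁, hy₂, hy]
  · rw [prod_map_conj R S hRS (mul_eq_one_comm.1 hRS), List.prod_cons, List.prod_cons, List.prod_singleton,
      ← Matrix.mul_assoc y₁, h12, hprod]

/-- More than four elements. -/
theorem cov_triple_large [Fintype F] (hq : 5 ≤ Fintype.card F) : Cov 3 (jComp F) := by
  classical
  have hq4 : 4 ≤ Fintype.card F := by omega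
  obtain ⟨z, hz, hz3⟩ : ∃ z : F, z ≠ 0 ∧ z ^ 3 ≠ 1 := by
    by_contra hn
    push Not at hn
    have hsub : (Finset.univ : Finset F) ⊆ insert 0 (nthRoots 3 (1 : F)).toFinset := fun r _ => by
      rcases eq_or_ne r 0 with rfl | hr
      · simp
      · simp [mem_nthRoots, hn r hr]
    have h1 := (Finset.card_le_card hsub).trans (Finset.card_insert_le _ _)
    have h2 := Multiset.toFinset_card_le (nthRoots 3 (1 : F))
    have h3 := card_nthRoots 3 (1 : F)
    rw [Finset.card_univ] at h1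
    omega
  have h0 : (jPoly F).coeff 0 ≠ 0 := by rw [jPoly_coeff.1]; exact neg_ne_zero.2 one_ne_zero
  intro g hg hgd
  rw [comp_det jPoly_monic jPoly_deg, jPoly_dv, one_pow] at hgd
  rcases surj_or_pure hg hgd with hgs | ⟨γ, c, hγ3, hc, hgc⟩
  · -- a simple root for the pair
    obtain ⟨a, ha0, hab, -⟩ := exists_avoid_sq hq4 0 (2 * (1 - z)) 0
    obtain ⟨b, c, w, hb, hw, hy⟩ := exists_tri jPoly_monic jPoly_deg h0 jPoly_monic jPoly_deg hz a
    rw [jPoly_dv, one_mul] at hw
    have hzw : z ≠ w := fun e => hz3 (by rw [← e] at hw; linear_combination hw)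
    have hsp : w ≠ 1 ∨ z + b ≠ 1 := Or.inr fun e => hab (by
      obtain ⟨e0, e1, e2⟩ := jPoly_coeff (F := F)
      rw [hb, e0, e1, e2] at e
      field_simp at e
      linear_combination -e)
    obtain ⟨T, y, a', b', c', ha', hb', rfl, hy', hgs'⟩ := exists_factor hq4 jPoly_monic jPoly_deg hz
      (by rw [hw, jPoly_dv]; ring) (fun r s h => ⟨by
        have h1 := congrArg (Polynomial.eval r) h
        have h2 := congrArg (Polynomial.eval s) h
        simp at h1 h2
        rw [sub_eq_zero] at h1 h2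
        rw [h1, h2], hzw⟩) h0 hg (by rw [hgd, jPoly_dv, one_pow])
    exact list_of_pair (hasPair_tri jPoly_monic jPoly_deg h0 hy (spread_triple hsp)) hgs'
      (msim_tri ha' hb' ha0 (Or.inl hzw)) hy' (Or.inr ⟨surj_tri hzw ha0, hgs⟩)
  · -- one triple root
    have hγ : γ ≠ 0 := fun e => by rw [e] at hγ3; simp at hγ3
    obtain ⟨a, u, ha, hu, hab⟩ : ∃ a u : F, a ≠ 0 ∧ u ≠ 0 ∧ 3 - 3 * γ - a = u ^ 3 * a := by
      rcases eq_or_ne γ 1 with rfl | hγ1
      · exact ⟨1, -1, one_ne_zero, neg_ne_zero.2 one_ne_zero, by ring⟩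
      · have h3 : (3 : F) ≠ 0 := fun e => hγ1 (by
          have : (γ - 1) ^ 3 = 0 := by linear_combination hγ3 + (-γ ^ 2 + γ) * e
          exact sub_eq_zero.1 (eq_zero_of_pow_eq_zero this))
        have hu : 1 + (-z) ^ 3 ≠ 0 := fun e => hz3 (by linear_combination -e)
        refine ⟨(3 - 3 * γ) / (1 + (-z) ^ 3), -z, div_ne_zero (fun e => hγ1 ?_) hu, neg_ne_zero.2 hz, ?_⟩
        · exact (mul_left_cancel₀ h3 (by linear_combination e : (3 : F) * 1 = 3 * γ)).symm
        · linear_combination -(div_mul_cancel₀ (3 - 3 * γ) hu)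
    obtain ⟨c₀, hpair⟩ := exists_pure_pair hγ3 (Or.inr ha) (γ := γ)
    rw [hab] at hpair
    have hp : ∀ N : F, N ≠ 0 → ∀ C, HasPair (jComp F) (tri γ γ N (N * 1) C) := fun N hN C =>
      hpair.conj (Or.inl (ssim_tri_pure (s := N / (a * u)) (div_ne_zero hN (mul_ne_zero ha hu)) ha
        (mul_ne_zero (pow_ne_zero _ hu) ha) (by field_simp)))
    by_cases hcube : ∃ s, c = s ^ 3
    · obtain ⟨s, rfl⟩ := hcube
      have hs : s ≠ 0 := fun e => hc (by rw [e]; ring)
      have hgc' : SSim g (tri γ γ 1 1 0) :=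
        hgc.trans (ssim_tri_pure (s := s) hs one_ne_zero one_ne_zero (by ring))
      obtain ⟨m, hm0, hm1, -⟩ := exists_avoid_sq hq4 0 γ⁻¹ 0
      refine list_pure (N := 1 - γ * m) (m := m) (k := 1) (e := 1) hm0 one_ne_zero one_ne_zero (by ring) (by ring)
        (hp _ fun e => hm1 ?_) hgc'
      field_simp
      linear_combination -e
    · push Not at hcube
      have hc1 : c ≠ 1 := fun e => hcube 1 (by rw [e]; ring)
      have hk : z ^ 3 - 1 ≠ 0 := sub_ne_zero.2 hz3
      refine list_pure (N := 1 - γ * ((c - 1) / (γ * (z ^ 3 - 1)))) (m := (c - 1) / (γ * (z ^ 3 - 1))) (k := z) (e := 1)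
        (div_ne_zero (sub_ne_zero.2 hc1) (mul_ne_zero hγ hk)) hz hc (by ring) ?_ (hp _ fun e => hcube z ?_) hgc
      · field_simp
        ring
      · field_simp at e
        linear_combination -e

theorem eComp_eq (h2 : (2 : F) = 0) (w : F) : eMat w eComp = jComp F := by
  rw [jComp_eq]
  ext i j
  fin_cases i <;> fin_cases j <;> simp [eMat, eComp, eVal] <;>
    first
      | linear_combination (0 : F)
      | linear_combination h2
      | linear_combination -h2
      | linear_combination 2 * h2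
      | linear_combination -2 * h2
      | linear_combination -(h2 + h2)

/-- Four elements. -/
theorem cov_triple_four [Fintype F] (hq : Fintype.card F = 4) : Cov 3 (jComp F) := by
  classical
  have hq4 : 4 ≤ Fintype.card F := by omega
  have h3 : ∀ x : F, x ≠ 0 → x ^ 3 = 1 := fun x hx => by
    have := FiniteField.pow_card_sub_one_eq_one x hx
    rwa [hq] at this
  have h2 : (2 : F) = 0 := by
    by_contra h
    have := FiniteField.odd_card_of_char_ne_two (F := F) fun hc => h (by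
      haveI : CharP F 2 := by rw [← hc]; exact ringChar.charP F
      exact CharTwo.two_eq_zero)
    omega
  have hω : ∀ w : F, w ≠ 0 → w ≠ 1 → w ^ 2 + w + 1 = 0 := fun w h0 h1 => by
    have : (w - 1) * (w ^ 2 + w + 1) = 0 := by linear_combination h3 w h0
    exact (mul_eq_zero.1 this).resolve_left (sub_ne_zero.2 h1)
  have h0 : (jPoly F).coeff 0 ≠ 0 := by rw [jPoly_coeff.1]; exact neg_ne_zero.2 one_ne_zero
  intro g hg hgd
  rw [comp_det jPoly_monic jPoly_deg, jPoly_dv, one_pow] at hgd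
  have wit : ∀ (w : F) (G : Fin 3 → Fin 3 → Fin 4) (P Q : Fin 3 → Fin 3 → Fin 3 → Fin 4), w ≠ 0 → w ≠ 1 →
      eGood G P Q → SSim g (eMat w G) →
      ∃ l : List (Matrix (Fin 3) (Fin 3) F), l.length = 3 ∧ (∀ a ∈ l, SSim a (jComp F)) ∧ l.prod = g ∧ Spread l := by
    intro w G P Q hw0 hw1 hG hs
    obtain ⟨l, hl, hlx, hlp, hls⟩ := list_of_good h2 (hω w hw0 hw1) hG
    obtain ⟨R, S, hRS, hR, rfl⟩ := hs
    refine ⟨l.map fun z => R * z * S, by simp [hl], fun a ha => ?_,
      by rw [prod_map_conj R S hRS (mul_eq_one_comm.1 hRS), hlp], hls.map R S hRS (mul_eq_one_comm.1 hRS)⟩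
    obtain ⟨z, hz, rfl⟩ := List.mem_map.1 ha
    rw [← eComp_eq h2 w]
    exact SSim.trans ⟨R, S, hRS, hR, rfl⟩ (hlx z hz)
  obtain ⟨ω, hω0, hω1, -⟩ := exists_avoid_sq hq4 0 1 0
  rcases surj_or_pure hg hgd with hgs | ⟨γ, c, hγ3, hc, hgc⟩
  · have hgg : g * g⁻¹ = 1 := Matrix.mul_nonsing_inv _ (by rw [hgd]; exact isUnit_one)
    have hgi : g⁻¹.det = 1 := by simpa [hgd] using congrArg Matrix.det hgg
    rcases cyclic_or_rankone (hg.inv hgg) (by rw [hgi]; exact one_ne_zero) with
      ⟨p, hp, hpd, hgp⟩ | ⟨γ₀, u, v, hγ₀, hu, hv, hgp⟩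
    swap
    · -- residual rank one
      have hν : 1 + v ⬝ᵥ u ≠ 0 := fun e => by
        have := hgp.det_eq
        rw [hgi, Matrix.det_smul, Matrix.vecMulVec_eq Unit, Matrix.det_one_add_replicateCol_mul_replicateRow, e,
          mul_zero] at this
        exact one_ne_zero this
      have hinv : MSim g (γ₀⁻¹ • (1 + Matrix.vecMulVec (-(1 + v ⬝ᵥ u)⁻¹ • u) v)) := by
        refine msim_inv (mul_eq_one_comm.1 hgg) ?_ hgp
        rw [Matrix.smul_mul, Matrix.mul_smul, smul_smul, mul_inv_cancel₀ hγ₀, one_smul, Matrix.add_mul, Matrix.one_mul,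
          Matrix.mul_add, Matrix.mul_one, Matrix.smul_vecMulVec, Matrix.mul_smul, Matrix.vecMulVec_mul_vecMulVec,
          Matrix.vecMulVec_smul, smul_smul]
        have e : -(1 + v ⬝ᵥ u)⁻¹ + -(1 + v ⬝ᵥ u)⁻¹ * (v ⬝ᵥ u) + 1 = 0 := by field_simp; ring
        match_scalars <;> first | linear_combination e | linear_combination (0 : F)
      have hu' : -(1 + v ⬝ᵥ u)⁻¹ • u ≠ 0 := smul_ne_zero (neg_ne_zero.2 (inv_ne_zero hν)) hu
      clear hgp hν
      generalize -(1 + v ⬝ᵥ u)⁻¹ • u = u' at hinv hu'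
      obtain ⟨γ, hγdef⟩ : ∃ γ, γ = γ₀⁻¹ := ⟨_, rfl⟩
      have hγ : γ ≠ 0 := hγdef ▸ inv_ne_zero hγ₀
      rw [← hγdef] at hinv
      have hνγ : γ ^ 3 * (1 + v ⬝ᵥ u') = 1 := by
        have := hinv.det_eq
        rw [hgd, Matrix.det_smul, Fintype.card_fin, Matrix.vecMulVec_eq Unit,
          Matrix.det_one_add_replicateCol_mul_replicateRow] at this
        exact this.symm
      rw [h3 γ hγ, one_mul, add_eq_left] at hνγ
      have key : ∀ G : Matrix (Fin 3) (Fin 3) F,
          (γ • (1 + Matrix.vecMulVec (Pi.single 2 1) (γ⁻¹ • Pi.single 0 1)) : Matrix (Fin 3) (Fin 3) F) = G →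
            SSim g G := fun G hG => by
        refine (hgs.ssim (MSim.symm ?_)).symm
        rw [← hG]
        refine hinv.trans (MSim.smul γ (ssim_rankone (by simp) hu' (by simp) hv (smul_ne_zero (inv_ne_zero hγ) (by simp)) ?_).msim)
        rw [hνγ, smul_dotProduct]
        simp
      rcases eq_or_ne γ 1 with hγ1 | hγ1
      · refine wit ω _ _ _ hω0 hω1 good_transvection (key _ ?_)
        ext i j
        fin_cases i <;> fin_cases j <;> simp [hγ1, eMat, eVal, Matrix.vecMulVec_apply]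
      · refine wit γ _ _ _ hγ hγ1 good_transvection' (key _ ?_)
        ext i j
        fin_cases i <;> fin_cases j <;> simp [eMat, eVal, Matrix.vecMulVec_apply, hγ]
    · -- equal ratios
      have hpdet : dv p = 1 := by rw [← comp_det hp hpd, ← hgp.det_eq, hgi]
      have hp0 : p.coeff 0 ≠ 0 := fun e => by
        rw [dv_three hpd, e, neg_zero] at hpdet; exact zero_ne_one hpdet
      obtain ⟨γ, ρ, hγ3, hγ, hρ, hsel⟩ : ∃ γ ρ : F, γ ^ 3 = 1 ∧ γ ≠ 0 ∧ ρ ≠ 0 ∧
          ∃ a a' : F, a ≠ 0 ∧ a' ≠ 0 ∧ 3 - 3 * γ - a = ρ * a ∧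
            -(jPoly F).coeff 2 + γ⁻¹ * p.coeff 1 / p.coeff 0 - a' = ρ * a' := by
        have hS : -(jPoly F).coeff 2 = (3 : F) := by rw [jPoly_coeff.2.2, neg_neg]
        rw [hS]
        by_cases h1 : 3 + p.coeff 1 / p.coeff 0 = 0
        · refine ⟨1, 1, one_pow 3, one_ne_zero, one_ne_zero, 1, 1, one_ne_zero, one_ne_zero,
            by linear_combination -h2, ?_⟩
          rw [inv_one, one_mul]
          linear_combination h1 - h2
        · obtain ⟨γ, hγ0, hγ1, hγ⟩ := exists_avoid_sq hq4 0 1 ((p.coeff 1 / p.coeff 0) ^ 2)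
          have hγ3 := h3 γ hγ0
          have hS' : 3 - 3 * γ ≠ 0 := fun e => hγ1 (by linear_combination -e + (1 - γ) * h2)
          have hT : 3 + γ⁻¹ * p.coeff 1 / p.coeff 0 ≠ 0 := fun e => hγ (by
            have e' : 3 * γ + p.coeff 1 / p.coeff 0 = 0 := by
              have := congrArg (fun x => γ * x) e
              field_simp at this ⊢
              linear_combination this
            rw [show p.coeff 1 / p.coeff 0 = -(3 * γ) by linear_combination e']
            linear_combination -4 * γ ^ 2 * h2)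
          obtain ⟨ρ, hρ0, hρ1, -⟩ := exists_avoid_sq hq4 0 (-1) 0
          have hρ1' : 1 + ρ ≠ 0 := fun e => hρ1 (by linear_combination e)
          exact ⟨γ, ρ, hγ3, hγ0, hρ0, _, _, div_ne_zero hS' hρ1', div_ne_zero hT hρ1',
            by field_simp; ring, by field_simp; ring⟩
      obtain ⟨a, a', ha, ha', hab, hab'⟩ := hsel
      obtain ⟨c₀, hpair⟩ := exists_pure_pair hγ3 (Or.inr ha) (γ := γ)
      obtain ⟨b', c', w', hb', hw', hy⟩ := exists_tri hp hpd hp0 jPoly_monic jPoly_deg (inv_ne_zero hγ) a'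
      rw [hab'] at hb'
      rw [jPoly_dv, one_mul, hpdet] at hw'
      obtain rfl : w' = γ⁻¹ := mul_left_cancel₀ (pow_ne_zero 2 (inv_ne_zero hγ)) (by
        rw [hw']; field_simp; linear_combination hγ3)
      subst hb'
      have hinv := tri_inv (inv_ne_zero hγ) (inv_ne_zero hγ) a' (ρ * a') c'
      rw [inv_inv] at hinv
      rw [hab] at hpair
      obtain ⟨y₁, y₂, hy₁, hy₂, h12, hs⟩ := hpair.conj (T' := tri γ γ (-a' / γ⁻¹ ^ 2) (-(ρ * a') / (γ⁻¹ * γ⁻¹))
          ((a' * (ρ * a') / γ⁻¹ - c') / (γ⁻¹ * γ⁻¹))) (Or.inl (ssim_tri_pure (s := -a' * γ ^ 2 / a)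
        (div_ne_zero (mul_ne_zero (neg_ne_zero.2 ha') (pow_ne_zero _ hγ)) ha) ha (mul_ne_zero hρ ha) (by
          field_simp)))
      have hgT : MSim g (y₁ * y₂ * (tri γ⁻¹ γ⁻¹ a' (ρ * a') c' * compInv p 3)) := by
        rw [h12, ← Matrix.mul_assoc, mul_eq_one_comm.1 hinv, Matrix.one_mul]
        exact msim_inv (mul_eq_one_comm.1 hgg) (comp_mul_compInv (m := 2) hp hpd hp0) hgp
      obtain ⟨R, S, hRS, hR, rfl⟩ := (hgs.ssim hgT.symm).symm
      refine ⟨[y₁, y₂, tri γ⁻¹ γ⁻¹ a' (ρ * a') c' * compInv p 3].map fun z => R * z * S, rfl, fun b hb => ?_, ?_,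
        (hs.mono (l' := [y₁, y₂, tri γ⁻¹ γ⁻¹ a' (ρ * a') c' * compInv p 3]) (by simp)).map R S hRS (mul_eq_one_comm.1 hRS)⟩
      · obtain ⟨z, hz, rfl⟩ := List.mem_map.1 hb
        refine SSim.trans ⟨R, S, hRS, hR, rfl⟩ ?_
        simp only [List.mem_cons, List.not_mem_nil, or_false] at hz
        rcases hz with rfl | rfl | rfl
        exacts [hy₁, hy₂, hy]
      · rw [prod_map_conj R S hRS (mul_eq_one_comm.1 hRS), List.prod_cons, List.prod_cons, List.prod_singleton,
          ← Matrix.mul_assoc y₁]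
  · -- one triple root
    have hγ : γ ≠ 0 := fun e => by rw [e] at hγ3; simp at hγ3
    have hnorm : c = 1 → SSim g (tri γ γ γ γ 0) := fun e => by
      subst e
      exact hgc.trans (ssim_tri_pure one_ne_zero hγ hγ (by linear_combination -hγ3))
    by_cases hc1 : c = 1
    · rcases eq_or_ne γ 1 with rfl | hγ1
      · obtain ⟨c₀, hpair⟩ := exists_pure_pair (γ := (1 : F)) (one_pow 3) (Or.inr (one_ne_zero (α := F)))
        obtain ⟨m, hm0, hm1, -⟩ := exists_avoid_sq hq4 0 1 0
        have hN : 1 - m ≠ 0 := sub_ne_zero.2 (Ne.symm hm1)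
        refine list_pure (N := 1 - m) (m := m) (k := 1) (e := 1) (r := 0) hm0 one_ne_zero one_ne_zero (by ring)
          (by ring) (fun C => hpair.conj (Or.inl (ssim_tri_pure (s := 1 - m) hN one_ne_zero ?_ ?_)))
          (by rw [hc1] at hgc; exact hgc)
        · intro e; exact one_ne_zero (α := F) (by linear_combination -e)
        · linear_combination (1 - m) ^ 3 * h2
      · refine wit γ _ _ _ hγ hγ1 good_scaled ?_
        convert hnorm hc1 using 1
        ext i j
        fin_cases i <;> fin_cases j <;> simp [eMat, eVal, tri]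
    · have hc3 := h3 c hc
      rcases eq_or_ne γ 1 with rfl | hγ1
      · refine wit c _ _ _ hc hc1 good_w ?_
        convert hgc using 1
        ext i j
        fin_cases i <;> fin_cases j <;> simp [eMat, eVal, tri]
      · -- the other class
        have he1 : (c⁻¹ : F) ≠ 1 := fun e => hc1 (inv_eq_one.1 e)
        have hec : c⁻¹ ≠ c := fun e => hc1 (by
          have : c ^ 2 = 1 := by rw [sq]; conv_lhs => arg 1; rw [← e]
                                 exact inv_mul_cancel₀ hc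
          rw [show c = c * c ^ 2 by rw [this, mul_one], ← pow_succ', hc3])
        have hS : 3 - 3 * γ ≠ 0 := fun e => hγ1 (by linear_combination -e + (1 - γ) * h2)
        have h1e : 1 + c⁻¹ ≠ 0 := fun e => he1 (by linear_combination e - h2)
        obtain ⟨c₀, hpair⟩ := exists_pure_pair hγ3 (a := (3 - 3 * γ) / (1 + c⁻¹)) (Or.inl hγ1)
        have hce : c⁻¹ - 1 ≠ 0 := sub_ne_zero.2 he1
        have hm : (c⁻¹ - c) / (γ * (c⁻¹ - 1)) ≠ 0 := div_ne_zero (sub_ne_zero.2 hec) (mul_ne_zero hγ hce)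
        refine list_pure (N := (c - 1) / (c⁻¹ - 1)) (m := (c⁻¹ - c) / (γ * (c⁻¹ - 1))) (k := 1) (e := c⁻¹) hm
          one_ne_zero hc ?_ ?_ (fun C => hpair.conj (Or.inl (ssim_tri_pure
            (s := (c - 1) / (c⁻¹ - 1) / ((3 - 3 * γ) / (1 + c⁻¹))) ?_ (div_ne_zero hS h1e) ?_ ?_))) hgc
        · field_simp; ring
        · field_simp; ring
        · exact div_ne_zero (div_ne_zero (sub_ne_zero.2 hc1) hce) (div_ne_zero hS h1e)
        all_goals
          rw [show 3 - 3 * γ - (3 - 3 * γ) / (1 + c⁻¹) = c⁻¹ * ((3 - 3 * γ) / (1 + c⁻¹)) by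
            linear_combination -(div_mul_cancel₀ (3 - 3 * γ) h1e)]
        · exact mul_ne_zero (inv_ne_zero hc) (div_ne_zero hS h1e)
        · have hA0 : (3 - 3 * γ) / (1 + c⁻¹) ≠ 0 := div_ne_zero hS h1e
          generalize (3 - 3 * γ) / (1 + c⁻¹) = A at hA0 ⊢
          field_simp

theorem msim_triple {β : F} (hβ : β ≠ 0) : MSim (β • jComp F) (SLComm.comp ((X - C β) ^ 3) 3) := by
  have hd : ((X - C β : F[X]) ^ 3).natDegree = 3 := by rw [(monic_X_sub_C β).natDegree_pow, natDegree_X_sub_C]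
  have hc : Cyc (β • jComp F) (Pi.single 0 1) := cyc_of_krylov (by
    rw [krylov_three, jComp_eq]
    simp [Matrix.det_fin_three, Matrix.mulVec, dotProduct, Fin.sum_univ_three, Pi.single_apply, hβ])
  refine (cyclic_sim _ _ hc ((monic_X_sub_C β).pow 3) (by rw [hd, Fintype.card_fin]) ?_).symm.trans
    (comp_sim ((monic_X_sub_C β).pow 3) hd)
  have h0 : aeval (jComp F) (jPoly F) = 0 := by
    have := Matrix.aeval_self_charpoly (jComp F)
    rwa [comp_charpoly jPoly_monic jPoly_deg] at this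
  rw [map_pow, map_sub, aeval_X, aeval_C, Algebra.algebraMap_eq_smul_one, ← smul_sub, _root_.smul_pow]
  rw [jPoly, map_pow, map_sub, aeval_X, aeval_C, map_one] at h0
  rw [h0, smul_zero, Matrix.zero_mulVec]

/-- **Every cubic cyclic class.** -/
theorem cov_three [Fintype F] (hq : 4 ≤ Fintype.card F) {f : F[X]} (hf : f.Monic) (hfd : f.natDegree = 3)
    (h0 : f.coeff 0 ≠ 0) : Cov 3 (SLComm.comp f 3) := by
  rcases cubic_cases hf hfd with ⟨a, q, hq', hqd, hqa, rfl⟩ | hi | ⟨β, rfl⟩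
  · rw [mul_coeff_zero] at h0
    simp only [coeff_sub, coeff_X_zero, coeff_C_zero, zero_sub] at h0
    refine (cov_rooted hq ?_ ?_ (fun e => h0 (by rw [e, neg_zero, zero_mul])) ?_).of_msim
      (msim_comp_root hq' hqd hqa).symm
    · intro c hc
      simpa [SLComm.comp] using congrFun (congrFun hc 1) 0
    · rw [comp_det hq' hqd, dv]
      exact mul_ne_zero (pow_ne_zero _ (neg_ne_zero.2 one_ne_zero)) (right_ne_zero_of_mul h0)
    · rw [Polynomial.eval_eq_sum_range, hqd, Finset.sum_range_succ, Finset.sum_range_succ, Finset.sum_range_one,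
        show q.coeff 2 = 1 by rw [← hqd]; exact hq'.coeff_natDegree] at hqa
      intro e
      refine hqa ?_
      simp [Matrix.det_fin_two, SLComm.comp] at e
      linear_combination e
  · exact cov_irred hq hf hi hfd
  · have hβ : β ≠ 0 := fun e => h0 (by simp [e])
    refine ((?_ : Cov 3 (jComp F)).smul hβ).of_msim (msim_triple hβ)
    rcases Nat.lt_or_ge (Fintype.card F) 5 with h | h
    · exact cov_triple_four (by omega)
    · exact cov_triple_large h

end Cfsg.Lib.Linear.PSLCover
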