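import Cfsg.Agent.Lib.Linear.PSLCover.Three

/-!
# One as a product of three cubics
-/

set_option autoImplicit false
set_option linter.unusedSectionVars false
set_option linter.unusedSimpArgs false

universe u

namespace Cfsg.Lib.Linear.PSLCover

open Module Polynomial
open Cfsg.Lib.Linear.SLComm (Sim rt Cyc dv comp_sim cyclic_sim exists_change sim_aeval rt_aeval)
open scoped Matrix

variable {F : Type u} [Field F]

theorem SProd.of_msim {ι κ : Type} [Fintype ι] [DecidableEq ι] [Fintype κ] [DecidableEq κ] {k : ℕ}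
    {x : Matrix ι ι F} {y : Matrix κ κ F} (c : F) (h : MSim x y) (hx : SProd k x (c • 1)) : SProd k y (c • 1) := by
  obtain ⟨P, Q, hPQ, hQP, he⟩ := msim_iff.1 h
  have h1 := hx.map P Q hPQ hQP
  rwa [he, Matrix.mul_assoc, hPQ, Matrix.mul_one, Matrix.mul_smul, Matrix.smul_mul, Matrix.mul_one, hPQ] at h1

/-- A cubic with a simple root. -/
theorem sprod_rooted_one [Fintype F] (hq : 4 ≤ Fintype.card F) {a : F} {q : F[X]} (hq' : q.Monic)
    (hqd : q.natDegree = 2) (hqa : q.eval a ≠ 0) (hd : dv ((X - C a) * q) = 1) :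
    SProd 3 (SLComm.comp ((X - C a) * q) 3) ((1 : F) • 1) := by
  classical
  set Q := SLComm.comp q 2 with hQdef
  have hQns : NS Q := fun c hc => by simpa [hQdef, SLComm.comp] using congrFun (congrFun hc 1) 0
  have hdet : a * Q.det = 1 := by
    rw [hQdef, comp_det hq' hqd]
    rw [SLComm.dv_mul (monic_X_sub_C a) hq'] at hd
    simpa [dv] using hd
  have ha : a ≠ 0 := left_ne_zero_of_mul_eq_one hdet
  have he : Q.det ≠ 0 := right_ne_zero_of_mul_eq_one hdet
  have hqa' : (Q - a • 1).det ≠ 0 := by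
    rw [Polynomial.eval_eq_sum_range, hqd, Finset.sum_range_succ, Finset.sum_range_succ, Finset.sum_range_one,
      show q.coeff 2 = 1 by rw [← hqd]; exact hq'.coeff_natDegree] at hqa
    intro e
    refine hqa ?_
    simp [hQdef, Matrix.det_fin_two, SLComm.comp] at e
    linear_combination e
  obtain ⟨τ, hτQ, -, hτ⟩ := exists_avoid_sq hq (Q.trace ^ 2 - 2 * Q.det) 0 (4 * Q.det ^ 2)
  obtain ⟨b, hb, hbt⟩ := exists_conj_trace (X := Q) (Y := Q) (σ := τ) hQns he
    (by by_cases h : Q.trace ^ 2 = 4 * Q.det <;> [exact Or.inr h; exact Or.inl h]) hQns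
    (fun y hy hy' e => hτ (by rw [e, hy, hy']; ring))
  set G := b * Q with hGdef
  have hGd : G.det = Q.det ^ 2 := by rw [hGdef, Matrix.det_mul, hb.det_eq, sq]
  have hGns : NS G := ns_of_disc (by rw [hbt, hGd]; exact hτ)
  have hG0 : G.det ≠ 0 := by rw [hGd]; exact pow_ne_zero _ he
  obtain ⟨w, hw⟩ := hGns.exists_indep
  -- the cyclic frame
  set M₀ : Matrix (Unit ⊕ Fin 2) (Unit ⊕ Fin 2) F :=
    Matrix.fromBlocks (a ^ 2 • 1) 0 (a • Matrix.replicateCol Unit w) G with hM₀
  let e : Unit ⊕ Fin 2 → F := Sum.elim (fun _ => a) w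
  have hM0e : ∀ (s : F) (v : Fin 2 → F),
      M₀ *ᵥ Sum.elim (fun _ => s) v = Sum.elim (fun _ => a ^ 2 * s) ((a * s) • w + G *ᵥ v) := fun s v => by
    funext i
    rcases i with i | i <;> fin_cases i <;>
      simp [hM₀, Matrix.fromBlocks_mulVec, Matrix.mulVec, dotProduct, Matrix.vecHead, Matrix.vecTail] <;> ring
  have hcyc : Cyc M₀ e := by
    refine (SLComm.cyc_iff _ _).2 fun K heK hK => ?_
    have h1 : Sum.elim (fun _ : Unit => (0 : F)) (G *ᵥ w) ∈ K := by
      have := K.sub_mem (hK e heK) (K.smul_mem (a ^ 2) heK)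
      convert this using 1
      funext i
      rcases i with i | i <;> fin_cases i <;> simp [e, hM0e, Matrix.vecHead, Matrix.vecTail] <;> ring
    have h2 : Sum.elim (fun _ : Unit => (0 : F)) (G *ᵥ (G *ᵥ w)) ∈ K := by
      have := hK _ h1
      rw [hM0e] at this
      simpa using this
    have hinj : Function.Injective fun x => G *ᵥ x :=
      Matrix.mulVec_injective_iff_isUnit.2 ((Matrix.isUnit_iff_isUnit_det G).2 (isUnit_iff_ne_zero.2 hG0))
    have hli : LinearIndependent F ![G *ᵥ w, G *ᵥ (G *ᵥ w)] := by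
      refine LinearIndependent.pair_iff.2 fun s t hst => ?_
      refine LinearIndependent.pair_iff.1 hw s t (hinj ?_)
      simp only [Matrix.mulVec_add, Matrix.mulVec_smul, Matrix.mulVec_zero]
      exact hst
    have htop := hli.span_eq_top_of_card_eq_finrank' (by simp)
    have hlow : ∀ v : Fin 2 → F, Sum.elim (fun _ : Unit => (0 : F)) v ∈ K := fun v => by
      obtain ⟨s, t, rfl⟩ : ∃ s t : F, s • (G *ᵥ w) + t • (G *ᵥ (G *ᵥ w)) = v := by
        have : v ∈ Submodule.span F (Set.range ![G *ᵥ w, G *ᵥ (G *ᵥ w)]) := by rw [htop]; trivial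
        rw [Cfsg.Agent.RegUnip.range2] at this
        exact Submodule.mem_span_pair.1 this
      convert K.add_mem (K.smul_mem s h1) (K.smul_mem t h2) using 1
      funext i
      rcases i with i | i <;> fin_cases i <;> simp
    refine Submodule.eq_top_iff'.2 fun x => ?_
    convert K.add_mem (K.smul_mem (x (Sum.inl ()) / a) heK) (hlow (fun i => x (Sum.inr i) - x (Sum.inl ()) / a * w i))
      using 1
    funext i
    rcases i with ⟨⟩ | i <;> simp [e, ha]
  -- the target of the last factor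
  set f := (X - C a) * q with hf
  have hfm : f.Monic := (monic_X_sub_C a).mul hq'
  have hfd : f.natDegree = 3 := by rw [hf, (monic_X_sub_C a).natDegree_mul hq', natDegree_X_sub_C, hqd]
  have hf0 : f.coeff 0 ≠ 0 := fun e => by rw [dv_three hfd, e, neg_zero] at hd; exact zero_ne_one hd
  obtain ⟨t, ht⟩ : ∃ t, Cyc (compInv f 3) t := ⟨Pi.single 2 1, cyc_of_krylov (by
    rw [krylov_three, compInv_three hfm hfd]
    simp [Matrix.det_fin_three, Matrix.mulVec, dotProduct, Fin.sum_univ_three, Pi.single_apply])⟩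
  have hp := msim_comp_of_cyc ht
  set p := (compInv f 3).charpoly with hpdef
  have hpd : p.natDegree = 3 := by rw [hpdef, Matrix.charpoly_natDegree_eq_dim, Fintype.card_fin]
  obtain ⟨r, hr⟩ := exists_change M₀ e hcyc (f := p) (Matrix.charpoly_monic _) (by simp [hpd])
  have hMp : MSim (M₀ + Matrix.vecMulVec e r) (compInv f 3) :=
    MSim.trans (Sim.trans (Sim.symm hr) (comp_sim (Matrix.charpoly_monic _) hpd)) hp.symm
  have hci : (compInv f 3).det = 1 := by
    have h1 := congrArg Matrix.det (comp_mul_compInv (m := 2) hfm hfd hf0)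
    rw [Matrix.det_mul, comp_det hfm hfd, hd, one_mul, Matrix.det_one] at h1
    exact h1
  have hr0 : r (Sum.inl ()) = 0 := by
    have hMe : M₀ *ᵥ Sum.elim (fun _ => a⁻¹) 0 = e := by
      rw [hM0e]
      funext i
      rcases i with i | i <;> simp [e, ha] <;> field_simp
    have h1 := hMp.det_eq
    rw [hci, show M₀ + Matrix.vecMulVec e r = M₀ * (1 + Matrix.vecMulVec (Sum.elim (fun _ => a⁻¹) 0) r) by
        rw [Matrix.mul_add, Matrix.mul_one, Matrix.mul_vecMulVec, hMe],
      Matrix.det_mul, Matrix.vecMulVec_eq Unit, Matrix.det_one_add_replicateCol_mul_replicateRow, hM₀,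
      Matrix.det_fromBlocks_zero₁₂, hGd] at h1
    simp [dotProduct, Fintype.sum_sum_type] at h1
    rw [show a ^ 2 * Q.det ^ 2 = 1 by rw [← mul_pow, hdet, one_pow], one_mul, add_eq_left] at h1
    exact (mul_eq_zero.1 h1).resolve_right (inv_ne_zero ha)
  -- the three factors
  set L : Matrix (Unit ⊕ Fin 2) (Unit ⊕ Fin 2) F := Matrix.fromBlocks (a • 1) 0 (Matrix.replicateCol Unit w) b with hL
  set U : Matrix (Unit ⊕ Fin 2) (Unit ⊕ Fin 2) F :=
    Matrix.fromBlocks (a • 1) (Matrix.replicateRow Unit fun i => r (Sum.inr i)) 0 Q with hU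
  have hLU : L * U = M₀ + Matrix.vecMulVec e r := by
    rw [hL, hU, hM₀, hGdef, Matrix.fromBlocks_multiply]
    ext (i | i) (j | j) <;>
      simp [e, Matrix.vecMulVec_apply, Matrix.mul_apply, hr0, sq] <;> ring
  have hX := msim_comp_root hq' hqd hqa
  obtain ⟨Z, hZ⟩ : ∃ Z, L * U * Z = 1 := exists_inv_of_msim (mul_eq_one_comm.1 (comp_mul_compInv (m := 2) hfm hfd hf0))
    (hLU ▸ hMp)
  have hZf : MSim Z (SLComm.comp f 3) :=
    msim_inv hZ (mul_eq_one_comm.1 (comp_mul_compInv (m := 2) hfm hfd hf0)) (hLU ▸ hMp)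
  refine SProd.of_msim 1 hX.symm ⟨[L, U, Z], rfl, fun y hy => (surj_front a Q).ssim ?_, ?_⟩
  · simp only [List.mem_cons, List.not_mem_nil, or_false] at hy
    rcases hy with rfl | rfl | rfl
    exacts [msim_low hb hqa' _, msim_up (MSim.refl _) hqa' _, hZf.trans hX]
  · simp only [List.prod_cons, List.prod_nil, Matrix.mul_one]
    rw [← Matrix.mul_assoc, hZ, one_smul]

/-- An irreducible cubic: the product of the Galois conjugates is the norm. -/
theorem sprod_irred_one [Fintype F] {f : F[X]} (hf : f.Monic) (hi : Irreducible f) (hfd : f.natDegree = 3)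
    (hd : dv f = 1) : SProd 3 (SLComm.comp f 3) ((1 : F) • 1) := by
  set A := SLComm.comp f 3 with hA
  have hann : aeval A f = 0 := by
    have := Matrix.aeval_self_charpoly (SLComm.comp f 3)
    rwa [comp_charpoly hf hfd] at this
  have hpow : ∀ m : ℕ, aeval (A ^ Fintype.card F ^ m) f = 0 := fun m => by
    induction m with
    | zero => simpa using hann
    | succ m ih =>
      rw [pow_succ, pow_mul, ← Polynomial.expand_aeval, FiniteField.expand_card, map_pow, ih,
        zero_pow Fintype.card_ne_zero]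
  have hone : A ^ (1 + Fintype.card F + Fintype.card F ^ 2) = 1 := by
    haveI : Fact (Irreducible f) := ⟨hi⟩
    haveI := hf.finite_adjoinRoot
    haveI : Finite (AdjoinRoot f) := Module.finite_of_finite F
    have h1 := FiniteField.algebraMap_norm_eq_pow_sum F (AdjoinRoot f) (AdjoinRoot.root f)
    rw [(AdjoinRoot.powerBasis' hf).finrank, AdjoinRoot.powerBasis'_dim, hfd, Nat.card_eq_fintype_card,
      Finset.sum_range_succ, Finset.sum_range_succ, Finset.sum_range_one, pow_zero, pow_one, Algebra.norm_apply] at h1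
    rw [show LinearMap.det (Algebra.lmul F (AdjoinRoot f) (AdjoinRoot.root f)) = dv f from SLComm.rt_det hf, hd,
      map_one, ← AdjoinRoot.mk_X, ← map_pow] at h1
    have h2 := (sim_aeval (comp_sim hf hfd) (X ^ (1 + Fintype.card F + Fintype.card F ^ 2)))
    rw [rt_aeval, ← h1, LinearMap.mulLeft_one] at h2
    obtain ⟨E, hE⟩ := h2
    refine Matrix.toLin'.injective (LinearMap.ext fun v => ?_)
    rw [Matrix.toLin'_one, LinearMap.id_apply]
    have h3 := hE (E.symm v)
    simp only [LinearMap.id_apply, LinearEquiv.apply_symm_apply, map_pow, aeval_X] at h3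
    exact (congrArg (fun φ : Module.End F (Fin 3 → F) => φ v)
      (map_pow (Matrix.toLinAlgEquiv' (R := F) (n := Fin 3)) A _)).trans h3.symm
  have hss : ∀ m : ℕ, SSim (A ^ Fintype.card F ^ m) A := fun m =>
    (surj_comp_irred hf hi hfd).ssim (msim_of_irred hf hi hfd (hpow m))
  refine ⟨[A ^ Fintype.card F ^ 0, A ^ Fintype.card F ^ 1, A ^ Fintype.card F ^ 2], rfl, fun y hy => ?_, ?_⟩
  · simp only [List.mem_cons, List.not_mem_nil, or_false] at hy
    rcases hy with rfl | rfl | rfl <;> exact hss _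
  · simp only [List.prod_cons, List.prod_nil, mul_one]
    rw [← pow_add, ← pow_add, pow_zero, pow_one, ← add_assoc, hone, one_smul]

/-- **One as a product of three.** -/
theorem sprod_three_one [Fintype F] (hq : 4 ≤ Fintype.card F) {f : F[X]} (hf : f.Monic) (hfd : f.natDegree = 3)
    (hd : dv f = 1) : SProd 3 (SLComm.comp f 3) ((1 : F) • 1) := by
  rcases cubic_cases hf hfd with ⟨a, q, hq', hqd, hqa, rfl⟩ | hi | ⟨β, rfl⟩
  · exact sprod_rooted_one hq hq' hqd hqa hd
  · exact sprod_irred_one hf hi hfd hd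
  · have hβ3 : β ^ 3 = 1 := by
      rw [dv_three hfd, show (X - C β : F[X]) ^ 3 = X ^ 3 - C (3 * β) * X ^ 2 + C (3 * β ^ 2) * X - C (β ^ 3) by
        simp only [map_mul, map_pow, map_ofNat]; ring] at hd
      rw [← hd]
      simp [coeff_X, coeff_C, coeff_zero_eq_eval_zero]
    have hβ : β ≠ 0 := fun e => by rw [e] at hβ3; simp at hβ3
    obtain ⟨c, y₁, y₂, h₁, h₂, h₁₂, -⟩ := exists_pure_pair (γ := (1 : F)) (one_pow 3) (Or.inr (one_ne_zero (α := F)))
    refine SProd.of_msim 1 (msim_triple hβ) ?_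
    have hi := tri_inv (one_ne_zero (α := F)) one_ne_zero 1 (3 - 3 * 1 - 1) c
    rw [inv_one] at hi
    refine ⟨[β • y₁, β • y₂, β • tri 1 1 (-1 / 1 ^ 2) (-(3 - 3 * 1 - 1) / (1 * 1))
      ((1 * (3 - 3 * 1 - 1) / 1 - c) / (1 * 1))], rfl, fun y hy => ?_, ?_⟩
    · simp only [List.mem_cons, List.not_mem_nil, or_false] at hy
      rcases hy with rfl | rfl | rfl
      exacts [h₁.smul β, h₂.smul β, (ssim_unip one_ne_zero (by ring)).smul β]
    · simp only [List.prod_cons, List.prod_nil, Matrix.mul_one, Matrix.smul_mul, Matrix.mul_smul, smul_smul,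
        ← Matrix.mul_assoc, h₁₂, hi]
      rw [show β * β * β = β ^ 3 by ring, hβ3]

end Cfsg.Lib.Linear.PSLCover
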